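import Cfsg.Agent.Lib.Helper12.Ord.CoverIso

/-!
Classes of 3-transpositions from a permutation representation on the cosets of the centraliser
(helper12).
-/

set_option autoImplicit false

namespace Cfsg.Agent.Lib.Helper12.Ord

/-- the number of conjugates is the index of the centraliser -/
theorem card_conjugatesOf_eq_index {G : Type*} [Group G] (t : G) :
    Nat.card (conjugatesOf t) = (Subgroup.centralizer {t}).index := by
  set C := Subgroup.centralizer ({t} : Set G) with hC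
  have hwd : ∀ g g' : G, QuotientGroup.leftRel C g g' → g * t * g⁻¹ = g' * t * g'⁻¹ := by
    intro g g' h
    rw [QuotientGroup.leftRel_apply] at h
    have h1 := Subgroup.mem_centralizer_singleton_iff.mp h
    have h2 : g' * t * g'⁻¹ = g * (g⁻¹ * g' * t) * g'⁻¹ := by group
    rw [h2, h1]
    group
  let F : G ⧸ C → conjugatesOf t := fun q => Quotient.liftOn' q
    (fun g => (⟨g * t * g⁻¹, isConj_iff.mpr ⟨g, rfl⟩⟩ : conjugatesOf t))
    (fun g g' h => Subtype.ext (hwd g g' h))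
  have hF : ∀ g : G, F (g : G ⧸ C) = ⟨g * t * g⁻¹, isConj_iff.mpr ⟨g, rfl⟩⟩ := fun g => rfl
  have hbij : Function.Bijective F := by
    constructor
    · intro q q' h
      induction q using QuotientGroup.induction_on with
      | H g =>
        induction q' using QuotientGroup.induction_on with
        | H g' =>
          rw [hF, hF] at h
          have h1 : g * t * g⁻¹ = g' * t * g'⁻¹ := congrArg Subtype.val h
          rw [QuotientGroup.eq, hC, Subgroup.mem_centralizer_singleton_iff]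
          have h2 : g⁻¹ * g' * t = g⁻¹ * (g' * t * g'⁻¹) * g' := by group
          rw [h2, ← h1]
          group
    · rintro ⟨d, hd⟩
      obtain ⟨g, hg⟩ := isConj_iff.mp hd
      exact ⟨(g : G ⧸ C), Subtype.ext hg⟩
  rw [Subgroup.index_eq_card]
  exact (Nat.card_congr (Equiv.ofBijective F hbij)).symm

theorem pow_conj_pair {G : Type*} [Group G] (H : Subgroup G) (t : G)
    (hcent : ∀ h ∈ H, h * t = t * h) (u g h h' : G) (hh : h ∈ H) (hh' : h' ∈ H)
    (hg : g = h * u * h') (k : ℕ) (hk : (t * (u * t * u⁻¹)) ^ k = 1) :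
    (t * (g * t * g⁻¹)) ^ k = 1 := by
  have h1 : h' * t * h'⁻¹ = t := by rw [hcent h' hh', mul_inv_cancel_right]
  have h2 : h⁻¹ * t * h = t := by
    rw [mul_assoc, ← hcent h hh, inv_mul_cancel_left]
  have e1 : h * u * h' * t * (h * u * h')⁻¹ = h * u * (h' * t * h'⁻¹) * u⁻¹ * h⁻¹ := by group
  have h3 : t * (g * t * g⁻¹) = h * (t * (u * t * u⁻¹)) * h⁻¹ := by
    calc t * (g * t * g⁻¹) = t * (h * (u * t * u⁻¹) * h⁻¹) := by
          rw [hg, e1, h1]; group
      _ = h * (h⁻¹ * t * h) * (u * t * u⁻¹) * h⁻¹ := by group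
      _ = h * (t * (u * t * u⁻¹)) * h⁻¹ := by rw [h2]; group
  rw [h3, conj_pow, hk, mul_one, mul_inv_cancel]

/-- the conjugates of `t` form a class of 3-transpositions -/
theorem isThreeTranspositionClass_of_data {G : Type*} [Group G] (H : Subgroup G) {N : ℕ}
    (ρ : G →* Equiv.Perm (Fin N)) (hN : 0 < N) (Φ : G ⧸ H ≃ Fin N)
    (hΦ : ∀ γ : G, Φ (γ : G ⧸ H) = ρ γ ⟨0, hN⟩) (t : G) (ht2 : t * t = 1) (ht1 : t ≠ 1)
    (hcent : ∀ h ∈ H, h * t = t * h) (hnc : Subgroup.normalClosure {t} = ⊤) (u₁ u₂ : G)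
    (hcover : ∀ i : Fin N, i = ⟨0, hN⟩ ∨ (∃ h ∈ H, ρ h (ρ u₁ ⟨0, hN⟩) = i) ∨
      (∃ h ∈ H, ρ h (ρ u₂ ⟨0, hN⟩) = i))
    (k₁ k₂ : ℕ) (hk₁ : k₁ = 2 ∨ k₁ = 3) (hk₂ : k₂ = 2 ∨ k₂ = 3)
    (h₁ : (t * (u₁ * t * u₁⁻¹)) ^ k₁ = 1) (h₂ : (t * (u₂ * t * u₂⁻¹)) ^ k₂ = 1) :
    Cfsg.IsThreeTranspositionClass (conjugatesOf t) := by
  -- elements with the same image of the base point
  have hcoset : ∀ g g' : G, ρ g ⟨0, hN⟩ = ρ g' ⟨0, hN⟩ → ∃ h' ∈ H, g = g' * h' := by
    intro g g' h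
    rw [← hΦ, ← hΦ] at h
    have h1 := Φ.injective h
    rw [eq_comm, QuotientGroup.eq] at h1
    exact ⟨g'⁻¹ * g, h1, by group⟩
  have hpairs : ∀ g : G, (t * (g * t * g⁻¹)) ^ 2 = 1 ∨ (t * (g * t * g⁻¹)) ^ 3 = 1 := by
    intro g
    rcases hcover (ρ g ⟨0, hN⟩) with h0 | ⟨h, hh, hi⟩ | ⟨h, hh, hi⟩
    · left
      obtain ⟨h', hh', hg⟩ := hcoset g 1 (by rw [h0, map_one]; rfl)
      rw [one_mul] at hg
      have h1 : g * t * g⁻¹ = t := by rw [hg, hcent h' hh', mul_inv_cancel_right]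
      rw [h1, ht2, one_pow]
    · obtain ⟨h', hh', hg⟩ := hcoset g (h * u₁) (by
        rw [← hi, map_mul, Equiv.Perm.mul_apply])
      have := pow_conj_pair H t hcent u₁ g h h' hh hh' hg k₁ h₁
      rcases hk₁ with rfl | rfl
      · exact Or.inl this
      · exact Or.inr this
    · obtain ⟨h', hh', hg⟩ := hcoset g (h * u₂) (by
        rw [← hi, map_mul, Equiv.Perm.mul_apply])
      have := pow_conj_pair H t hcent u₂ g h h' hh hh' hg k₂ h₂
      rcases hk₂ with rfl | rfl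
      · exact Or.inl this
      · exact Or.inr this
  refine ⟨⟨?_, ?_⟩, ⟨t, mem_conjugatesOf_self, rfl⟩, ?_⟩
  · intro d hd
    obtain ⟨c, rfl⟩ := isConj_iff.mp hd
    apply orderOf_eq_prime
    · rw [conj_pow, pow_two, ht2, mul_one, mul_inv_cancel]
    · intro h1
      apply ht1
      have : t = c⁻¹ * (c * t * c⁻¹) * c := by group
      rw [this, h1, mul_one, inv_mul_cancel]
  · intro d hd e he
    obtain ⟨x, rfl⟩ := isConj_iff.mp hd
    obtain ⟨y, rfl⟩ := isConj_iff.mp he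
    have key : x * t * x⁻¹ * (y * t * y⁻¹) =
        x * (t * ((x⁻¹ * y) * t * (x⁻¹ * y)⁻¹)) * x⁻¹ := by group
    rw [key, conj_pow, conj_pow]
    rcases hpairs (x⁻¹ * y) with h | h
    · left; rw [h, mul_one, mul_inv_cancel]
    · right; rw [h, mul_one, mul_inv_cancel]
  · have h1 : Group.conjugatesOfSet ({t} : Set G) = conjugatesOf t := by
      ext z
      rw [Group.mem_conjugatesOfSet_iff]
      constructor
      · rintro ⟨a, ha, hz⟩
        rw [Set.mem_singleton_iff.mp ha] at hz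
        exact hz
      · intro hz
        exact ⟨t, rfl, hz⟩
    rw [← h1]
    exact hnc

end Cfsg.Agent.Lib.Helper12.Ord
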