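import Cfsg.Agent.Lib.Helper12.Ord.Iwasawa

/-!
Groups generated by involutions with braid relations along a connected graph and a relation of odd
length are perfect (helper12).
-/

set_option autoImplicit false

namespace Cfsg.Agent.Lib.Helper12.Ord

theorem prod_map_const {A α : Type*} [Monoid A] (f : α → A) (z : A) (l : List α)
    (h : ∀ x ∈ l, f x = z) : (l.map f).prod = z ^ l.length := by
  induction l with
  | nil => simp
  | cons x l ih =>
    rw [List.map_cons, List.prod_cons, List.length_cons, pow_succ', h x List.mem_cons_self,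
      ih (fun y hy => h y (List.mem_cons_of_mem _ hy))]

/-- a group generated by involutions `q x`, with braid relations along the edges `E` of a connected graph
and a relation of odd length, is perfect -/
theorem commutator_eq_top_of_braid {Q α : Type*} [Group Q] (q : α → Q)
    (hgen : Subgroup.closure (Set.range q) = ⊤) (hsq : ∀ x, q x * q x = 1)
    (E : α → α → Prop) (hE : ∀ x y, E x y → (q x * q y) ^ 3 = 1) (a : α)
    (hconn : ∀ P : α → Prop, P a → (∀ x y, E x y → P x → P y) → ∀ y, P y)
    (l : List α) (k : ℕ) (hl : (l.map q).prod ^ k = 1) (hodd : Odd (l.length * k)) :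
    commutator Q = ⊤ := by
  set π := (Abelianization.of : Q →* Abelianization Q) with hπ
  set z := π (q a) with hz
  have hall : ∀ y, π (q y) = z := by
    apply hconn
    · rfl
    · intro x y hxy hx
      rw [← hx]
      exact (map_eq_of_braid π _ _ (hsq x) (hsq y) (hE x y hxy)).symm
  have hz2 : z * z = 1 := by rw [hz, ← map_mul, hsq, map_one]
  have hzl : z ^ (l.length * k) = 1 := by
    have := congrArg π hl
    rw [map_one, map_pow, map_list_prod, List.map_map] at this
    rw [← this, pow_mul]
    congr 1
    exact (prod_map_const _ z l (fun x _ => hall x)).symm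
  obtain ⟨m, hm⟩ := hodd
  have hz1 : z = 1 := by
    calc z = (z * z) ^ m * z := by rw [hz2, one_pow, one_mul]
      _ = z ^ (l.length * k) := by rw [hm, ← pow_two, ← pow_mul, ← pow_succ]
      _ = 1 := hzl
  apply commutator_eq_top_of_closure _ hgen
  rintro _ ⟨y, rfl⟩
  rw [← Abelianization.ker_of, MonoidHom.mem_ker]
  exact (hall y).trans hz1

/-- a perfect group has no subgroup of index two -/
theorem index_ne_two_of_perfect {Q : Type*} [Group Q] (hperf : commutator Q = ⊤) (L : Subgroup Q) :
    L.index ≠ 2 := by
  intro h2
  have hn : L.Normal := Subgroup.normal_of_index_eq_two h2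
  have hcard : Nat.card (Q ⧸ L) = 2 := by rw [← Subgroup.index_eq_card]; exact h2
  -- the quotient is cyclic of prime order, hence commutative
  have hprime : Fact (Nat.Prime 2) := ⟨Nat.prime_two⟩
  have hcyc : IsCyclic (Q ⧸ L) := isCyclic_of_prime_card hcard
  have hcomm : ∀ x y : Q ⧸ L, x * y = y * x := fun x y =>
    (IsCyclic.commGroup (α := Q ⧸ L)).mul_comm x y
  have hle : commutator Q ≤ L := by
    rw [commutator_eq_closure, Subgroup.closure_le]
    rintro _ ⟨x, y, rfl⟩
    rw [SetLike.mem_coe, ← QuotientGroup.eq_one_iff, commutatorElement_def]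
    simp only [QuotientGroup.mk_mul, QuotientGroup.mk_inv]
    rw [hcomm (x : Q ⧸ L) (y : Q ⧸ L)]
    group
  rw [hperf, top_le_iff] at hle
  rw [hle, Subgroup.index_top] at h2
  exact absurd h2 (by decide)

end Cfsg.Agent.Lib.Helper12.Ord
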