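import Cfsg.Agent.Lib.Helper12.Maximal
import Cfsg.Prelude.Def_SporCoxeter

/-!
Subgroups generated by a part of the generators of a Coxeter style presentation are homomorphic images
of the groups presented by the relators living on that part; bounds for orders (helper12).
-/

set_option autoImplicit false

namespace Cfsg.Agent.Lib.Helper12.Ord

open Cfsg.Spor

section

variable {α β : Type} [DecidableEq α] [DecidableEq β]
  (edges : List (α × ℕ × α)) (extra : List (FreeGroup α))
  (edges' : List (β × ℕ × β)) (extra' : List (FreeGroup β)) (ι : β → α)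

/-- the homomorphism from the group presented on a part of the generators -/
theorem subpres_hom
    (hnodes : ∀ x ∈ coxNodes edges', ι x ∈ coxNodes edges)
    (hlab : ∀ x ∈ coxNodes edges', ∀ y ∈ coxNodes edges',
      coxLabel edges (ι x) (ι y) = coxLabel edges' x y)
    (hextra : ∀ r ∈ extra', FreeGroup.map ι r ∈ extra) :
    ∃ φ : PresentedGroup (coxRelators edges' ∪ {r | r ∈ extra'}) →*
        PresentedGroup (coxRelators edges ∪ {r | r ∈ extra}),
      φ.range = (Subgroup.closure (Set.range fun y : β => (FreeGroup.of (ι y) : FreeGroup α))).map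
        (PresentedGroup.mk (coxRelators edges ∪ {r | r ∈ extra})) := by
  set rels := coxRelators edges ∪ {r | r ∈ extra} with hrels
  set rels' := coxRelators edges' ∪ {r | r ∈ extra'} with hrels'
  let f : β → PresentedGroup rels := fun y => PresentedGroup.mk rels (FreeGroup.of (ι y))
  have hlift : FreeGroup.lift f = (PresentedGroup.mk rels).comp (FreeGroup.map ι) := by
    ext y
    simp [f]
  have hf : ∀ r ∈ rels', FreeGroup.lift f r = 1 := by
    intro r hr
    rw [hlift, MonoidHom.comp_apply]
    apply PresentedGroup.one_of_mem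
    rcases hr with hr | hr
    · obtain ⟨x, hx, y, hy, rfl⟩ := hr
      left
      refine ⟨ι x, hnodes x hx, ι y, hnodes y hy, ?_⟩
      rw [map_pow, map_mul, FreeGroup.map.of, FreeGroup.map.of, hlab x hx y hy]
    · right
      exact hextra r hr
  refine ⟨PresentedGroup.toGroup hf, ?_⟩
  rw [MonoidHom.range_eq_map, ← PresentedGroup.closure_range_of rels', MonoidHom.map_closure,
    MonoidHom.map_closure]
  congr 1
  ext γ
  constructor
  · rintro ⟨_, ⟨y, rfl⟩, rfl⟩
    refine ⟨FreeGroup.of (ι y), ⟨y, rfl⟩, ?_⟩
    rw [PresentedGroup.toGroup.of]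
  · rintro ⟨_, ⟨y, rfl⟩, rfl⟩
    refine ⟨PresentedGroup.of y, ⟨y, rfl⟩, ?_⟩
    rw [PresentedGroup.toGroup.of]

/-- the order of the subgroup generated by a part of the generators is at most the order of the group
presented on that part -/
theorem subpres_card_le
    (hnodes : ∀ x ∈ coxNodes edges', ι x ∈ coxNodes edges)
    (hlab : ∀ x ∈ coxNodes edges', ∀ y ∈ coxNodes edges',
      coxLabel edges (ι x) (ι y) = coxLabel edges' x y)
    (hextra : ∀ r ∈ extra', FreeGroup.map ι r ∈ extra)
    (hfin : Finite (PresentedGroup (coxRelators edges' ∪ {r | r ∈ extra'}))) :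
    Finite ↥((Subgroup.closure (Set.range fun y : β => (FreeGroup.of (ι y) : FreeGroup α))).map
        (PresentedGroup.mk (coxRelators edges ∪ {r | r ∈ extra}))) ∧
    Nat.card ↥((Subgroup.closure (Set.range fun y : β => (FreeGroup.of (ι y) : FreeGroup α))).map
        (PresentedGroup.mk (coxRelators edges ∪ {r | r ∈ extra}))) ≤
      Nat.card (PresentedGroup (coxRelators edges' ∪ {r | r ∈ extra'})) := by
  obtain ⟨φ, hφ⟩ := subpres_hom edges extra edges' extra' ι hnodes hlab hextra
  rw [← hφ]
  have hs : Function.Surjective φ.rangeRestrict := φ.rangeRestrict_surjective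
  exact ⟨Finite.of_surjective _ hs, Nat.card_le_card_of_surjective _ hs⟩

end

/-- the order of a group from the index and a bound for the order of a subgroup -/
theorem card_le_of_index {G : Type*} [Group G] (H : Subgroup G) (n m : ℕ) (hn : 0 < n)
    (hidx : H.index = n) (hfin : Finite H) (hm : Nat.card H ≤ m) :
    Finite G ∧ Nat.card G ≤ n * m := by
  have h1 := H.index_mul_card
  rw [hidx] at h1
  have hpos : 0 < Nat.card H := Nat.card_pos
  constructor
  · apply Nat.finite_of_card_ne_zero
    rw [← h1]
    exact (Nat.mul_pos hn hpos).ne'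
  · rw [← h1]
    exact Nat.mul_le_mul_left n hm

/-- the order of a group from the index of the trivial subgroup -/
theorem card_of_index_bot {G : Type*} [Group G] (H : Subgroup G) (n : ℕ) (hn : 0 < n)
    (hidx : H.index = n) (hH : H = ⊥) : Finite G ∧ Nat.card G = n := by
  rw [hH, Subgroup.index_bot] at hidx
  refine ⟨?_, hidx⟩
  apply Nat.finite_of_card_ne_zero
  rw [hidx]
  exact hn.ne'

end Cfsg.Agent.Lib.Helper12.Ord
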