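import Cfsg.Agent.Lib.Helper12.Ord.SubPres2

/-!
Homomorphisms from a Coxeter style presentation on a part of the generators, with their values on words
(helper12).
-/

set_option autoImplicit false

namespace Cfsg.Agent.Lib.Helper12.Ord

open Cfsg.Spor

section

variable {α β : Type} [DecidableEq α] [DecidableEq β]
  (edges : List (α × ℕ × α)) (extra : List (FreeGroup α))
  (edges' : List (β × ℕ × β)) (extra' : List (FreeGroup β)) (ι : β → α)

/-- the homomorphism from the group presented on a part of the generators, the further relators being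
known to hold in the large group, with its values -/
theorem subpres_hom_values
    (hnodes : ∀ x ∈ coxNodes edges', ι x ∈ coxNodes edges)
    (hlab : ∀ x ∈ coxNodes edges', ∀ y ∈ coxNodes edges',
      coxLabel edges (ι x) (ι y) = coxLabel edges' x y)
    (hextra : ∀ r ∈ extra', PresentedGroup.mk (coxRelators edges ∪ {r | r ∈ extra})
      (FreeGroup.map ι r) = 1) :
    ∃ φ : PresentedGroup (coxRelators edges' ∪ {r | r ∈ extra'}) →*
        PresentedGroup (coxRelators edges ∪ {r | r ∈ extra}),
      ∀ w : FreeGroup β, φ (PresentedGroup.mk (coxRelators edges' ∪ {r | r ∈ extra'}) w) =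
        PresentedGroup.mk (coxRelators edges ∪ {r | r ∈ extra}) (FreeGroup.map ι w) := by
  set rels := coxRelators edges ∪ {r | r ∈ extra} with hrels
  set rels' := coxRelators edges' ∪ {r | r ∈ extra'} with hrels'
  let f : β → PresentedGroup rels := fun y => PresentedGroup.mk rels (FreeGroup.of (ι y))
  have hlift : FreeGroup.lift f = (PresentedGroup.mk rels).comp (FreeGroup.map ι) := by
    ext y
    simp [f]
  have hf : ∀ r ∈ rels', FreeGroup.lift f r = 1 := by
    intro r hr
    rw [hlift, MonoidHom.comp_apply]
    rcases hr with hr | hr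
    · apply PresentedGroup.one_of_mem
      obtain ⟨x, hx, y, hy, rfl⟩ := hr
      left
      refine ⟨ι x, hnodes x hx, ι y, hnodes y hy, ?_⟩
      rw [map_pow, map_mul, FreeGroup.map.of, FreeGroup.map.of, hlab x hx y hy]
    · exact hextra r hr
  refine ⟨PresentedGroup.toGroup hf, ?_⟩
  intro w
  have h1 : (PresentedGroup.toGroup hf) (PresentedGroup.mk rels' w) = FreeGroup.lift f w := rfl
  rw [h1, hlift, MonoidHom.comp_apply]

/-- a homomorphism from a Coxeter style presented group to any group, given by a homomorphism of the free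
group that kills the relators -/
theorem pres_hom_of_free {K : Type*} [Group K] (θ : FreeGroup β →* K)
    (hcox : ∀ x ∈ coxNodes edges', ∀ y ∈ coxNodes edges',
      θ ((FreeGroup.of x * FreeGroup.of y) ^ coxLabel edges' x y) = 1)
    (hextra : ∀ r ∈ extra', θ r = 1) :
    ∃ φ : PresentedGroup (coxRelators edges' ∪ {r | r ∈ extra'}) →* K,
      ∀ w : FreeGroup β, φ (PresentedGroup.mk (coxRelators edges' ∪ {r | r ∈ extra'}) w) = θ w := by
  set rels' := coxRelators edges' ∪ {r | r ∈ extra'} with hrels'
  let f : β → K := fun y => θ (FreeGroup.of y)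
  have hlift : FreeGroup.lift f = θ := by
    ext y
    simp [f]
  have hf : ∀ r ∈ rels', FreeGroup.lift f r = 1 := by
    intro r hr
    rw [hlift]
    rcases hr with hr | hr
    · obtain ⟨x, hx, y, hy, rfl⟩ := hr
      exact hcox x hx y hy
    · exact hextra r hr
  refine ⟨PresentedGroup.toGroup hf, ?_⟩
  intro w
  have h1 : (PresentedGroup.toGroup hf) (PresentedGroup.mk rels' w) = FreeGroup.lift f w := rfl
  rw [h1, hlift]

end

end Cfsg.Agent.Lib.Helper12.Ord
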