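import Cfsg.Agent.Lib.Helper12.Ord.Fi24P10Order
import Cfsg.Agent.Lib.Helper12.Ord.SubPres3

/-!
The spider relation `(d c b d e f d h i)^10 = 1` holds in the presented Fischer group Fi24: it holds in the group
presented on the generators `l, k, a, b, c, d, e, f, h, i` with the relation `l = (a b c d e f h)^9`, whose
permutation representation on 28431 points is faithful (helper12).
-/

set_option autoImplicit false
set_option maxRecDepth 100000

namespace Cfsg.Agent.Lib.Helper12.Ord.Fi24Spider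

open Cfsg.Spor Cfsg.Agent.Lib.Helper12.TC Cfsg.Agent.Lib.Helper12.Ord

/-- the spider word -/
def W : List ℕ := [5, 4, 3, 5, 6, 7, 5, 8, 9, 5, 4, 3, 5, 6, 7, 5, 8, 9, 5, 4, 3, 5, 6, 7, 5, 8, 9, 5, 4, 3, 5, 6, 7, 5, 8, 9, 5, 4, 3, 5, 6, 7, 5, 8, 9, 5, 4, 3, 5, 6, 7, 5, 8, 9, 5, 4, 3, 5, 6, 7, 5, 8, 9, 5, 4, 3, 5, 6, 7, 5, 8, 9, 5, 4, 3, 5, 6, 7, 5, 8, 9, 5, 4, 3, 5, 6, 7, 5, 8, 9]

/-- the spider relation in the group on ten generators -/
theorem spider10 : PresentedGroup.mk (coxRelators Fi24P10.edges ∪ {r | r ∈ Fi24P10.extra})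
    ((Fi24P10.d * Fi24P10.c * Fi24P10.b * Fi24P10.d * Fi24P10.e * Fi24P10.f * Fi24P10.d * Fi24P10.h *
      Fi24P10.i) ^ 10) = 1 := by
  have h1 : wprod Fi24P10o28431.uu W = wprod Fi24P10o28431.uu [] :=
    Fi24P10Order.rho_injective Fi24P10o28431.hspider
  rw [wprod_nil] at h1
  have h2 : wprod Fi24P10o28431.uu W = wprod (fun x => PresentedGroup.mk
      (coxRelators Fi24P10.edges ∪ {r | r ∈ Fi24P10.extra}) (FreeGroup.of (Fi24P10Pres.gen x))) W :=
    Fn.wprod_congr _ _ _ (fun s hs => Fi24P10o28431.uu_gen s (by revert s; decide))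
  rw [h2] at h1
  rw [← h1]
  simp only [W, wprod, List.map, List.prod_cons, List.prod_nil, mul_one, Fi24P10Pres.gen, map_pow, map_mul,
    pow_succ, pow_zero, one_mul, mul_assoc]

/-- the spider relation in the presented group Fi24 -/
theorem spider : PresentedGroup.mk (coxRelators Fi24.edges ∪ {r | r ∈ Fi24.extra})
    ((Fi24.d * Fi24.c * Fi24.b * Fi24.d * Fi24.e * Fi24.f * Fi24.d * Fi24.h * Fi24.i) ^ 10) = 1 := by
  obtain ⟨φ, hφ⟩ := subpres_hom_values Fi24.edges Fi24.extra Fi24P10.edges Fi24P10.extra Fi24P10.ι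
    Fi24P10.sub_nodes Fi24P10.sub_lab
    (fun r hr => PresentedGroup.one_of_mem (Or.inr (Fi24P10.sub_extra r hr)))
  have h := congrArg φ spider10
  rw [hφ, map_one] at h
  simpa only [map_pow, map_mul, FreeGroup.map.of, Fi24P10.ι] using h

end Cfsg.Agent.Lib.Helper12.Ord.Fi24Spider
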