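import Cfsg.Agent.Lib.Helper12.Maximal

/-!
Maximality of a subgroup with three orbits on its cosets, the cosets being numbered so that the orbits
are intervals (helper12).
-/

set_option autoImplicit false

namespace Cfsg.Agent.Lib.Helper12.Ord

open MulAction

theorem ncard_interval_fin {N lo hi : ℕ} (hhi : hi ≤ N) :
    ({i : Fin N | lo ≤ i.val ∧ i.val < hi} : Set (Fin N)).ncard = hi - lo := by
  have h1 : (Fin.val '' ({i : Fin N | lo ≤ i.val ∧ i.val < hi} : Set (Fin N))) = Set.Ico lo hi := by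
    ext n
    constructor
    · rintro ⟨i, hi', rfl⟩; exact hi'
    · intro hn
      exact ⟨⟨n, lt_of_lt_of_le hn.2 hhi⟩, hn, rfl⟩
  rw [← Set.ncard_image_of_injective _ Fin.val_injective, h1, ← Finset.coe_Ico,
    Set.ncard_coe_finset, Nat.card_Ico]

/-- a subgroup `H` whose orbits on its `N` cosets are `{0}`, `[1, m)` and `[m, N)` is maximal if neither
`m` nor `N - m + 1` divides `N` -/
theorem isCoatom_of_rank3 {G : Type*} [Group G] (H : Subgroup G) {N : ℕ} (Φ : G ⧸ H ≃ Fin N)
    (m : ℕ) (h1m : 1 < m) (hmN : m < N) (hΦ0 : (Φ ((1 : G) : G ⧸ H)).val = 0)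
    (horb1 : Φ '' (orbit H (Φ.symm ⟨1, lt_trans h1m hmN⟩)) = {i : Fin N | 1 ≤ i.val ∧ i.val < m})
    (horb2 : Φ '' (orbit H (Φ.symm ⟨m, hmN⟩)) = {i : Fin N | m ≤ i.val ∧ i.val < N})
    (hd1 : ¬ m ∣ N) (hd2 : ¬ (N - m + 1) ∣ N) : IsCoatom H := by
  classical
  have hstab : stabilizer G ((1 : G) : G ⧸ H) = H := stabilizer_quotient H
  rw [← hstab]
  have hfinQ : Finite (G ⧸ H) := Finite.of_equiv _ Φ.symm
  let c : G ⧸ H → Fin 3 := fun q =>
    if (Φ q).val = 0 then 0 else if (Φ q).val < m then 1 else 2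
  let n : Fin 3 → ℕ := ![1, m - 1, N - m]
  have hc0 : ∀ q, c q = 0 ↔ (Φ q).val = 0 := by
    intro q
    simp only [c]
    split_ifs with h1 h2
    · exact ⟨fun _ => h1, fun _ => rfl⟩
    · exact ⟨fun h => absurd h (by decide), fun h => absurd h h1⟩
    · exact ⟨fun h => absurd h (by decide), fun h => absurd h h1⟩
  have hc1 : ∀ q, c q = 1 ↔ (1 ≤ (Φ q).val ∧ (Φ q).val < m) := by
    intro q
    simp only [c]
    split_ifs with h1 h2
    · exact ⟨fun h => absurd h (by decide), fun h => by omega⟩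
    · exact ⟨fun _ => ⟨by omega, h2⟩, fun _ => rfl⟩
    · exact ⟨fun h => absurd h (by decide), fun h => absurd h.2 h2⟩
  have hc2 : ∀ q, c q = 2 ↔ (m ≤ (Φ q).val ∧ (Φ q).val < N) := by
    intro q
    simp only [c]
    split_ifs with h1 h2
    · exact ⟨fun h => absurd h (by decide), fun h => by omega⟩
    · exact ⟨fun h => absurd h (by decide), fun h => by omega⟩
    · exact ⟨fun _ => ⟨by omega, (Φ q).isLt⟩, fun _ => rfl⟩
  have hx0 : c ((1 : G) : G ⧸ H) = 0 := (hc0 _).mpr hΦ0
  -- elements of the same orbit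
  have hsame : ∀ (b : Fin N) (S : Set (Fin N)), Φ '' (orbit H (Φ.symm b)) = S →
      ∀ y y' : G ⧸ H, Φ y ∈ S → Φ y' ∈ S → ∃ h ∈ stabilizer G ((1 : G) : G ⧸ H), h • y = y' := by
    intro b S hS y y' hy hy'
    rw [← hS] at hy hy'
    obtain ⟨z, hz, hzy⟩ := hy
    obtain ⟨z', hz', hzy'⟩ := hy'
    have e1 : z = y := Φ.injective hzy
    have e2 : z' = y' := Φ.injective hzy'
    rw [e1] at hz
    rw [e2] at hz'
    obtain ⟨⟨h1, hh1⟩, rfl⟩ := hz
    obtain ⟨⟨h2, hh2⟩, rfl⟩ := hz'
    refine ⟨h2 * h1⁻¹, ?_, ?_⟩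
    · rw [hstab]; exact H.mul_mem hh2 (H.inv_mem hh1)
    · show (h2 * h1⁻¹) • (h1 • Φ.symm b) = h2 • Φ.symm b
      rw [smul_smul, inv_mul_cancel_right]
  apply isCoatom_stabilizer_of_classes (G := G) (X := G ⧸ H) (ι := Fin 3) ((1 : G) : G ⧸ H)
    Set.univ (Set.toFinite _) _ c _ n _ _ _ _
  · intro y
    refine ⟨fun _ => ?_, fun _ => trivial⟩
    induction y using QuotientGroup.induction_on with
    | H g => exact ⟨g, by
        show ((g * 1 : G) : G ⧸ H) = (g : G ⧸ H)
        rw [mul_one]⟩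
  · intro y _ y' _ hcc
    rcases (by
        have : ∀ i : Fin 3, i = 0 ∨ i = 1 ∨ i = 2 := by decide
        exact this (c y) : c y = 0 ∨ c y = 1 ∨ c y = 2) with h | h | h
    · have h' : c y' = 0 := hcc ▸ h
      have e1 := (hc0 y).mp h
      have e2 := (hc0 y').mp h'
      have : y = y' := Φ.injective (Fin.ext (e1.trans e2.symm))
      exact ⟨1, (stabilizer G _).one_mem, by rw [one_smul, this]⟩
    · have h' : c y' = 1 := hcc ▸ h
      exact hsame _ _ horb1 y y' ((hc1 y).mp h) ((hc1 y').mp h')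
    · have h' : c y' = 2 := hcc ▸ h
      exact hsame _ _ horb2 y y' ((hc2 y).mp h) ((hc2 y').mp h')
  · intro i
    have himg : ∀ S : Set (Fin N), {y : G ⧸ H | Φ y ∈ S}.ncard = S.ncard := by
      intro S
      rw [← Set.ncard_image_of_injective _ Φ.injective]
      congr 1
      ext j
      constructor
      · rintro ⟨y, hy, rfl⟩; exact hy
      · intro hj; exact ⟨Φ.symm j, by show Φ (Φ.symm j) ∈ S; rw [Equiv.apply_symm_apply]; exact hj,
          Equiv.apply_symm_apply _ _⟩
    fin_cases i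
    · have : {y : G ⧸ H | y ∈ Set.univ ∧ c y = (0 : Fin 3)} =
          {y | Φ y ∈ ({j : Fin N | 0 ≤ j.val ∧ j.val < 1} : Set (Fin N))} := by
        ext y
        simp only [Set.mem_univ, true_and, Set.mem_ofPred_eq]
        rw [hc0]; omega
      show {y : G ⧸ H | y ∈ Set.univ ∧ c y = (0 : Fin 3)}.ncard = 1
      rw [this, himg, ncard_interval_fin (by omega)]
    · have : {y : G ⧸ H | y ∈ Set.univ ∧ c y = (1 : Fin 3)} =
          {y | Φ y ∈ ({j : Fin N | 1 ≤ j.val ∧ j.val < m} : Set (Fin N))} := by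
        ext y
        simp only [Set.mem_univ, true_and, Set.mem_ofPred_eq]
        rw [hc1]
      show {y : G ⧸ H | y ∈ Set.univ ∧ c y = (1 : Fin 3)}.ncard = m - 1
      rw [this, himg, ncard_interval_fin (by omega)]
    · have : {y : G ⧸ H | y ∈ Set.univ ∧ c y = (2 : Fin 3)} =
          {y | Φ y ∈ ({j : Fin N | m ≤ j.val ∧ j.val < N} : Set (Fin N))} := by
        ext y
        simp only [Set.mem_univ, true_and, Set.mem_ofPred_eq]
        rw [hc2]
      show {y : G ⧸ H | y ∈ Set.univ ∧ c y = (2 : Fin 3)}.ncard = N - m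
      rw [this, himg, ncard_interval_fin (le_refl N)]
  · intro y _ hcy
    rw [hx0] at hcy
    exact Φ.injective (Fin.ext (((hc0 y).mp hcy).trans hΦ0.symm))
  · refine ⟨Φ.symm ⟨1, lt_trans h1m hmN⟩, trivial, fun h => ?_⟩
    have := congrArg (fun q => (Φ q).val) h
    simp only [Equiv.apply_symm_apply] at this
    omega
  · intro I hI hnz hdvd
    rw [hx0] at hI ⊢
    have hY : (Set.univ : Set (G ⧸ H)).ncard = N := by
      rw [Set.ncard_univ, Nat.card_congr Φ, Nat.card_fin]
    rw [hY] at hdvd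
    have hn0 : n 0 = 1 := rfl
    have hn1 : n 1 = m - 1 := rfl
    have hn2 : n 2 = N - m := rfl
    by_cases h1 : (1 : Fin 3) ∈ I <;> by_cases h2 : (2 : Fin 3) ∈ I
    · right
      intro i _
      fin_cases i
      · exact hI
      · exact h1
      · exact h2
    · exfalso
      have hIeq : I = {0, 1} := by
        ext i
        fin_cases i <;> simp [hI, h1, h2]
      rw [hIeq] at hdvd
      have : ∑ i ∈ ({0, 1} : Finset (Fin 3)), n i = m := by
        rw [Finset.sum_pair (by decide), hn0, hn1]; omega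
      rw [this] at hdvd
      exact hd1 hdvd
    · exfalso
      have hIeq : I = {0, 2} := by
        ext i
        fin_cases i <;> simp [hI, h1, h2]
      rw [hIeq] at hdvd
      have : ∑ i ∈ ({0, 2} : Finset (Fin 3)), n i = N - m + 1 := by
        rw [Finset.sum_pair (by decide), hn0, hn2]; omega
      rw [this] at hdvd
      exact hd2 hdvd
    · left
      ext i
      fin_cases i <;> simp [hI, h1, h2]

end Cfsg.Agent.Lib.Helper12.Ord
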