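import Cfsg.Agent.Lib.Helper12.TC.Core

/-!
Products of involutions: the reversed word is the inverse (helper12).
-/

set_option autoImplicit false

namespace Cfsg.Agent.Lib.Helper12.Ord

open Cfsg.Agent.Lib.Helper12.TC

theorem wprod_reverse_of_invol {G : Type*} [Group G] (v : ℕ → G) (hsq : ∀ s, v s * v s = 1)
    (u : List ℕ) : wprod v u.reverse = (wprod v u)⁻¹ := by
  induction u with
  | nil => rw [List.reverse_nil, wprod_nil, inv_one]
  | cons s u ih =>
    rw [List.reverse_cons, wprod_append, ih, wprod_cons, wprod_cons, wprod_nil, mul_one, mul_inv_rev,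
      inv_eq_of_mul_eq_one_left (hsq s)]

/-- a word `u⁻¹ x u` as a conjugate -/
theorem wprod_conj_word {G : Type*} [Group G] (v : ℕ → G) (hsq : ∀ s, v s * v s = 1)
    (u : List ℕ) (x : ℕ) :
    wprod v (u.reverse ++ x :: u) = (wprod v u)⁻¹ * v x * wprod v u := by
  rw [wprod_append, wprod_cons, wprod_reverse_of_invol v hsq, mul_assoc]

end Cfsg.Agent.Lib.Helper12.Ord
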