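import Cfsg.Agent.Lib.Helper12.Ord.Fi23Order
import Cfsg.Agent.Lib.Helper12.Ord.Iwasawa
import Cfsg.Agent.Lib.Helper12.Ord.Rank3
import Cfsg.Agent.Lib.Helper12.Ord.Words

/-!
The presented group Fi23 is simple (generated, helper12).
-/

set_option autoImplicit false

namespace Cfsg.Agent.Lib.Helper12.Ord.Fi23Simple

open Cfsg.Spor Cfsg.Agent.Lib.Helper12.TC Cfsg.Agent.Lib.Helper12.TC.Fi23o31671
  Cfsg.Agent.Lib.Helper12.TC.Fi23Pres Cfsg.Agent.Lib.Helper12.Ord

/-- the relators -/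
abbrev R : Set (FreeGroup Cfsg.Spor.Fi23.Gen) := coxRelators Cfsg.Spor.Fi23.edges ∪ {r | r ∈ Cfsg.Spor.Fi23.extra}

/-- the generators -/
noncomputable def v (i : ℕ) : PresentedGroup R := PresentedGroup.mk R (FreeGroup.of (gen i))

/-- the subgroup -/
abbrev Hs : Subgroup (PresentedGroup R) := (Subgroup.closure S).map (PresentedGroup.mk R)

theorem hH : Hs = Subgroup.closure {γ | ∃ w ∈ sw, γ = wprod v w} := by
  show (Subgroup.closure S).map (PresentedGroup.mk R) = _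
  rw [MonoidHom.map_closure, hS]
  rfl

theorem conj_eq_of_braid {K : Type*} [Group K] (x y : K) (hx : x * x = 1) (hy : y * y = 1)
    (hxy : (x * y) ^ 3 = 1) : (x * y) * x * (x * y)⁻¹ = y := by
  have hx' : x⁻¹ = x := inv_eq_of_mul_eq_one_left hx
  have hy' : y⁻¹ = y := inv_eq_of_mul_eq_one_left hy
  have h1 : x * y * x * y * x * y = 1 := by
    rw [pow_succ, pow_succ, pow_one] at hxy
    simpa only [mul_assoc] using hxy
  have h2 : x * y * x * y * x = y := by
    have := congrArg (· * y) h1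
    simp only [one_mul, mul_assoc, hy, mul_one] at this
    simpa only [mul_assoc] using this
  rw [mul_inv_rev, hx', hy']
  simpa only [mul_assoc] using h2

theorem hmk : ∀ r ∈ R, PresentedGroup.mk R r = 1 := fun _ hr => PresentedGroup.one_of_mem hr

theorem hsq : ∀ y : Cfsg.Spor.Fi23.Gen, PresentedGroup.mk R (FreeGroup.of y) * PresentedGroup.mk R (FreeGroup.of y)
    = 1 :=
  cox_sq_of_hom Cfsg.Spor.Fi23.edges (PresentedGroup.mk R) hnodes (fun r hr => hmk r (Or.inl hr))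

theorem hvsq : ∀ s, v s * v s = 1 := fun s => hsq (gen s)

theorem hbraid (x y : Cfsg.Spor.Fi23.Gen) (h : coxLabel Cfsg.Spor.Fi23.edges x y = 3) :
    (PresentedGroup.mk R (FreeGroup.of x) * PresentedGroup.mk R (FreeGroup.of y)) ^ 3 = 1 := by
  rw [← map_mul, ← map_pow]
  apply hmk
  left
  exact ⟨x, hnodes x, y, hnodes y, by rw [h]⟩

/-- a property that spreads along the edges of the graph holds for all generators -/
theorem all_of_edges (P : Cfsg.Spor.Fi23.Gen → Prop) (h0 : P .j)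
    (hstep : ∀ x y, coxLabel Cfsg.Spor.Fi23.edges x y = 3 → P x → P y) : ∀ y, P y := by
  have hg : P .g := hstep .j .g (by decide) h0
  have hf : P .f := hstep .g .f (by decide) hg
  have he : P .e := hstep .f .e (by decide) hf
  have hd : P .d := hstep .e .d (by decide) he
  have hc : P .c := hstep .d .c (by decide) hd
  have hh : P .h := hstep .d .h (by decide) hd
  have hb : P .b := hstep .c .b (by decide) hc
  have hi : P .i := hstep .h .i (by decide) hh
  have ha : P .a := hstep .b .a (by decide) hb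
  have hj : P .j := h0
  intro y
  cases y <;> assumption

/-- the central element of the subgroup -/
noncomputable def tt : PresentedGroup R := uu 10

theorem tt_eq_uu : tt = uu 10 := rfl

theorem tt_eq : tt = (wprod v [6, 5, 4, 3, 8, 2, 3, 4, 1, 2, 3, 8, 5, 6, 4, 5, 3, 4, 2, 3, 8, 1, 2, 3, 4, 5, 6, 7])⁻¹ * v 7 * wprod v [6, 5, 4, 3, 8, 2, 3, 4, 1, 2, 3, 8, 5, 6, 4, 5, 3, 4, 2, 3, 8, 1, 2, 3, 4, 5, 6, 7] := by
  have h1 : uu (10 + 0) = wprod uu [7, 6, 5, 4, 3, 2, 1, 8, 3, 2, 4, 3, 5, 4, 6, 5, 8, 3, 2, 1, 4, 3, 2, 8, 3, 4, 5, 6, 7, 6, 5, 4, 3, 8, 2, 3, 4, 1, 2, 3, 8, 5, 6, 4, 5, 3, 4, 2, 3, 8, 1, 2, 3, 4, 5, 6, 7] := uu_spec 0 _ rfl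
  have h2 : wprod uu [7, 6, 5, 4, 3, 2, 1, 8, 3, 2, 4, 3, 5, 4, 6, 5, 8, 3, 2, 1, 4, 3, 2, 8, 3, 4, 5, 6, 7, 6, 5, 4, 3, 8, 2, 3, 4, 1, 2, 3, 8, 5, 6, 4, 5, 3, 4, 2, 3, 8, 1, 2, 3, 4, 5, 6, 7] = wprod v [7, 6, 5, 4, 3, 2, 1, 8, 3, 2, 4, 3, 5, 4, 6, 5, 8, 3, 2, 1, 4, 3, 2, 8, 3, 4, 5, 6, 7, 6, 5, 4, 3, 8, 2, 3, 4, 1, 2, 3, 8, 5, 6, 4, 5, 3, 4, 2, 3, 8, 1, 2, 3, 4, 5, 6, 7] :=
    Fn.wprod_congr _ _ _ (fun s hs => uu_gen s (by revert s; decide))
  have h3 : ([7, 6, 5, 4, 3, 2, 1, 8, 3, 2, 4, 3, 5, 4, 6, 5, 8, 3, 2, 1, 4, 3, 2, 8, 3, 4, 5, 6, 7, 6, 5, 4, 3, 8, 2, 3, 4, 1, 2, 3, 8, 5, 6, 4, 5, 3, 4, 2, 3, 8, 1, 2, 3, 4, 5, 6, 7] : List ℕ) = ([6, 5, 4, 3, 8, 2, 3, 4, 1, 2, 3, 8, 5, 6, 4, 5, 3, 4, 2, 3, 8, 1, 2, 3, 4, 5, 6, 7] : List ℕ).reverse ++ 7 :: [6, 5, 4, 3, 8, 2, 3, 4, 1, 2, 3, 8, 5, 6, 4, 5, 3, 4, 2, 3, 8, 1, 2, 3, 4, 5, 6, 7] := by decide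
  show uu (10 + 0) = _
  rw [h1, h2, h3]
  exact wprod_conj_word v hvsq _ _

theorem start_mem : PresentedGroup.mk R (FreeGroup.of Cfsg.Spor.Fi23.Gen.j) ∈ Subgroup.normalClosure {tt} := by
  have h0 : ∀ W x : PresentedGroup R, x = W * (W⁻¹ * x * W) * W⁻¹ := by
    intro W x; group
  have h1 : v 7 = wprod v [6, 5, 4, 3, 8, 2, 3, 4, 1, 2, 3, 8, 5, 6, 4, 5, 3, 4, 2, 3, 8, 1, 2, 3, 4, 5, 6, 7] * tt * (wprod v [6, 5, 4, 3, 8, 2, 3, 4, 1, 2, 3, 8, 5, 6, 4, 5, 3, 4, 2, 3, 8, 1, 2, 3, 4, 5, 6, 7])⁻¹ := by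
    rw [tt_eq]
    exact h0 _ _
  have h2 : PresentedGroup.mk R (FreeGroup.of Cfsg.Spor.Fi23.Gen.j) = v 7 := rfl
  rw [h2, h1]
  have h3 : tt ∈ Subgroup.normalClosure {tt} := Subgroup.subset_normalClosure rfl
  have h : (Subgroup.normalClosure ({tt} : Set (PresentedGroup R))).Normal := Subgroup.normalClosure_normal
  exact h.conj_mem tt h3 _

theorem normalClosure_eq_top : Subgroup.normalClosure {tt} = (⊤ : Subgroup (PresentedGroup R)) := by
  have hall : ∀ y : Cfsg.Spor.Fi23.Gen, PresentedGroup.mk R (FreeGroup.of y) ∈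
      Subgroup.normalClosure {tt} := by
    apply all_of_edges
    · exact start_mem
    · intro x y hxy hx
      rw [← conj_eq_of_braid _ _ (hsq x) (hsq y) (hbraid x y hxy)]
      exact Subgroup.normalClosure_normal.conj_mem _ hx _
  rw [eq_top_iff, ← PresentedGroup.closure_range_of R, Subgroup.closure_le]
  rintro _ ⟨y, rfl⟩
  exact hall y

theorem commutator_eq_top : commutator (PresentedGroup R) = ⊤ := by
  set π := (Abelianization.of : PresentedGroup R →* Abelianization (PresentedGroup R)) with hπ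
  set z := π (PresentedGroup.mk R (FreeGroup.of Cfsg.Spor.Fi23.Gen.j)) with hz
  have hall : ∀ y : Cfsg.Spor.Fi23.Gen, π (PresentedGroup.mk R (FreeGroup.of y)) = z := by
    apply all_of_edges
    · rfl
    · intro x y hxy hx
      rw [← hx]
      exact (map_eq_of_braid π _ _ (hsq x) (hsq y) (hbraid x y hxy)).symm
  have hz2 : z * z = 1 := by rw [hz, ← map_mul, hsq, map_one]
  have hrel : PresentedGroup.mk R ((FreeGroup.of Cfsg.Spor.Fi23.Gen.a * FreeGroup.of Cfsg.Spor.Fi23.Gen.b * FreeGroup.of Cfsg.Spor.Fi23.Gen.c * FreeGroup.of Cfsg.Spor.Fi23.Gen.d * FreeGroup.of Cfsg.Spor.Fi23.Gen.e * FreeGroup.of Cfsg.Spor.Fi23.Gen.f * FreeGroup.of Cfsg.Spor.Fi23.Gen.h) ^ 9) = 1 := by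
    apply hmk
    right
    exact List.mem_cons_of_mem _ (List.mem_cons_self)
  have h63 : z ^ 63 = 1 := by
    have := congrArg π hrel
    simp only [map_one, map_pow, map_mul, hall] at this
    have h7 : z * z * z * z * z * z * z = z ^ 7 := by
      simp only [pow_succ, pow_zero, one_mul]
    rw [h7, ← pow_mul] at this
    exact this
  have hz1 : z = 1 := by
    calc z = (z * z) ^ 31 * z := by rw [hz2, one_pow, one_mul]
      _ = z ^ 63 := by rw [← pow_two, ← pow_mul, ← pow_succ]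
      _ = 1 := h63
  apply commutator_eq_top_of_closure _ (PresentedGroup.closure_range_of R)
  rintro _ ⟨y, rfl⟩
  rw [← Abelianization.ker_of, MonoidHom.mem_ker]
  exact (hall y).trans hz1

theorem wprod_uu_eq (w : List ℕ) (hw : ∀ s ∈ w, s < 10) : wprod uu w = wprod v w :=
  Fn.wprod_congr _ _ _ (fun s hs => uu_gen s (hw s hs))

/-- commuting with the central element, from the equality of the permutations -/
theorem comm_of_rho (w : List ℕ) (hw : ∀ s ∈ w, s < 10)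
    (h : rho (wprod uu (w ++ [10])) = rho (wprod uu (10 :: w))) :
    wprod v w * tt = tt * wprod v w := by
  have h1 := Fi23Order.rho_injective h
  rw [wprod_append, wprod_cons, wprod_cons, wprod_nil, mul_one, wprod_uu_eq w hw, ← tt_eq_uu] at h1
  exact h1

theorem central : ∀ h ∈ Hs, h * tt = tt * h := by
  intro h hh
  rw [hH] at hh
  refine Subgroup.closure_induction (p := fun h _ => h * tt = tt * h) ?_ ?_ ?_ ?_ hh
  · rintro _ ⟨w, hw, rfl⟩
    simp only [sw, List.mem_cons, List.not_mem_nil, or_false] at hw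
    rcases hw with rfl | rfl | rfl | rfl | rfl | rfl | rfl | rfl | rfl
    · exact comm_of_rho _ (by decide) hc0
    · exact comm_of_rho _ (by decide) hc1
    · exact comm_of_rho _ (by decide) hc2
    · exact comm_of_rho _ (by decide) hc3
    · exact comm_of_rho _ (by decide) hc4
    · exact comm_of_rho _ (by decide) hc5
    · exact comm_of_rho _ (by decide) hc6
    · exact comm_of_rho _ (by decide) hc7
    · exact comm_of_rho _ (by decide) hc8
  · rw [one_mul, mul_one]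
  · intro x y _ _ hx hy
    rw [mul_assoc, hy, ← mul_assoc, hx, mul_assoc]
  · intro x _ hx
    have := congrArg (fun g => x⁻¹ * g * x⁻¹) hx
    simp only [mul_assoc, mul_inv_cancel, mul_one, inv_mul_cancel_left] at this
    exact this.symm

theorem rho_v : ∀ x < 10, ∀ i : Fin cN, ((rho (v x) i : Fin cN) : ℕ) = TT x i := rho_gen

theorem isCoatom_H : IsCoatom Hs := by
  obtain ⟨Φ, hΦ⟩ := rho_equiv
  have horb1 := Fn.orbit_image Hs v rho rho_v hH Φ hN0 hΦ hsub (lo := 1) (hi := 28161)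
    (by decide) (by decide) horbi0 horbc0
  have horb2 := Fn.orbit_image Hs v rho rho_v hH Φ hN0 hΦ hsub (lo := 28161) (hi := 31671)
    (by decide) (by decide) horbi1 horbc1
  refine isCoatom_of_rank3 Hs Φ 28161 (by decide) (by decide) ?_ horb1 horb2 (by decide) (by decide)
  rw [hΦ, map_one]
  rfl

theorem core_eq_bot : ∀ N : Subgroup (PresentedGroup R), N.Normal → N ≤ Hs → N = ⊥ := by
  intro N hN hle
  obtain ⟨Φ, hΦ⟩ := rho_equiv
  rw [eq_bot_iff]
  intro n hn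
  rw [Subgroup.mem_bot]
  apply Fi23Order.rho_injective
  rw [map_one]
  ext i
  obtain ⟨q, rfl⟩ := Φ.surjective i
  induction q using QuotientGroup.induction_on with
  | H γ =>
    have h1 : ((n * γ : PresentedGroup R) : PresentedGroup R ⧸ Hs) = (γ : PresentedGroup R ⧸ Hs) := by
      rw [QuotientGroup.eq]
      have : (n * γ)⁻¹ * γ = γ⁻¹ * n⁻¹ * γ⁻¹⁻¹ := by group
      rw [this]
      exact hle (hN.conj_mem _ (N.inv_mem hn) _)
    have h2 := congrArg Φ h1
    rw [hΦ, hΦ, map_mul, Equiv.Perm.mul_apply] at h2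
    rw [hΦ, h2]
    rfl

theorem card_gt_one : 1 < Nat.card (PresentedGroup R) := by
  rw [Fi23Order.card_eq]; decide

/-- the presented group is simple -/
theorem isSimpleGroup : IsSimpleGroup (PresentedGroup R) := by
  have : Finite (PresentedGroup R) := Fi23Order.finite
  have : Nontrivial (PresentedGroup R) := Finite.one_lt_card_iff_nontrivial.mp card_gt_one
  exact isSimpleGroup_of_central_elt Hs isCoatom_H core_eq_bot tt central normalClosure_eq_top
    commutator_eq_top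

end Cfsg.Agent.Lib.Helper12.Ord.Fi23Simple
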