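import Cfsg.Agent.Lib.Helper12.Ord.Iwasawa

/-!
Iwasawa's argument for groups that are not perfect, and the simplicity of a subgroup of index two whose order
is not a square (helper12).
-/

set_option autoImplicit false

namespace Cfsg.Agent.Lib.Helper12.Ord

/-- a normal subgroup not contained in the maximal subgroup `H`, which centralises an element `t` whose conjugates
generate the group, contains the commutator subgroup -/
theorem commutator_le_of_central_elt {G : Type*} [Group G] (H : Subgroup G)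
    (hmax : IsCoatom H)
    (t : G) (ht : ∀ h ∈ H, h * t = t * h) (hnc : Subgroup.normalClosure {t} = ⊤)
    (N : Subgroup G) (hN : N.Normal) (hle : ¬ N ≤ H) : commutator G ≤ N := by
  have hsup : N ⊔ H = ⊤ := by
    have hlt : H < N ⊔ H := by
      refine lt_of_le_of_ne le_sup_right (fun heq => hle ?_)
      rw [heq]; exact le_sup_left
    exact hmax.2 _ hlt
  set A : Subgroup G := Subgroup.zpowers t with hA
  set M : Subgroup G := N ⊔ A with hM
  have htA : t ∈ A := Subgroup.mem_zpowers t
  have hconjA : ∀ h ∈ H, ∀ a ∈ A, h * a * h⁻¹ = a := by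
    intro h hh a ha
    obtain ⟨k, rfl⟩ := Subgroup.mem_zpowers_iff.mp ha
    have hc : Commute h t := ht h hh
    have := (hc.zpow_right k).eq
    rw [this, mul_inv_cancel_right]
  have keyH : ∀ g ∈ H, ∀ x ∈ M, g * x * g⁻¹ ∈ M := by
    intro g hg x hx
    rw [hM] at hx
    refine sup_induction_of_group (C := fun x => g * x * g⁻¹ ∈ M) ?_ ?_ ?_ ?_ hx
    · intro n hn
      exact (le_sup_left : N ≤ M) (hN.conj_mem n hn g)
    · intro a ha
      rw [hconjA g hg a ha]
      exact (le_sup_right : A ≤ M) ha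
    · intro x y hx hy
      have : g * (x * y) * g⁻¹ = (g * x * g⁻¹) * (g * y * g⁻¹) := by group
      rw [this]
      exact M.mul_mem hx hy
    · intro x hx
      have : g * x⁻¹ * g⁻¹ = (g * x * g⁻¹)⁻¹ := by group
      rw [this]
      exact M.inv_mem hx
  have keyN : ∀ g ∈ N, ∀ x ∈ M, g * x * g⁻¹ ∈ M := by
    intro g hg x hx
    have hgM : g ∈ M := (le_sup_left : N ≤ M) hg
    exact M.mul_mem (M.mul_mem hgM hx) (M.inv_mem hgM)
  have keyall : ∀ g : G, (∀ x ∈ M, g * x * g⁻¹ ∈ M) ∧ (∀ x ∈ M, g⁻¹ * x * g ∈ M) := by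
    intro g
    have hg : g ∈ N ⊔ H := by rw [hsup]; trivial
    refine sup_induction_of_group
      (C := fun g => (∀ x ∈ M, g * x * g⁻¹ ∈ M) ∧ (∀ x ∈ M, g⁻¹ * x * g ∈ M)) ?_ ?_ ?_ ?_ hg
    · intro g hg
      refine ⟨keyN g hg, fun x hx => ?_⟩
      have := keyN g⁻¹ (N.inv_mem hg) x hx
      rwa [inv_inv] at this
    · intro g hg
      refine ⟨keyH g hg, fun x hx => ?_⟩
      have := keyH g⁻¹ (H.inv_mem hg) x hx
      rwa [inv_inv] at this
    · intro g₁ g₂ h₁ h₂
      constructor
      · intro x hx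
        have : g₁ * g₂ * x * (g₁ * g₂)⁻¹ = g₁ * (g₂ * x * g₂⁻¹) * g₁⁻¹ := by group
        rw [this]
        exact h₁.1 _ (h₂.1 x hx)
      · intro x hx
        have : (g₁ * g₂)⁻¹ * x * (g₁ * g₂) = g₂⁻¹ * (g₁⁻¹ * x * g₁) * g₂ := by group
        rw [this]
        exact h₂.2 _ (h₁.2 x hx)
    · intro g₁ h₁
      refine ⟨fun x hx => ?_, fun x hx => ?_⟩
      · have := h₁.2 x hx
        rwa [inv_inv]
      · have := h₁.1 x hx
        rwa [inv_inv]
  have hMn : M.Normal := ⟨fun x hx g => (keyall g).1 x hx⟩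
  have hMtop : M = ⊤ := by
    rw [eq_top_iff, ← hnc]
    refine Subgroup.normalClosure_le_normal ?_
    intro x hx
    rw [Set.mem_singleton_iff.mp hx]
    exact (le_sup_right : A ≤ M) htA
  have hcomm : IsMulCommutative A := by
    rw [hA]; infer_instance
  exact Subgroup.Normal.commutator_le_of_self_sup_commutative_eq_top (N := N) (H := A) hMtop hcomm

/-- a normal subgroup of the normal subgroup `D` that is invariant under conjugation by `t` is normal in the group
generated by `D` and `t` -/
theorem normal_map_subtype_of_invariant {G : Type*} [Group G] (D : Subgroup G) [hD : D.Normal]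
    (t : G) (htop : D ⊔ Subgroup.zpowers t = ⊤) (P : Subgroup D) (hP : P.Normal)
    (hinv : P.map (MulAut.conjNormal t : D ≃* D).toMonoidHom = P) :
    (P.map D.subtype).Normal := by
  rw [← Subgroup.normalizer_eq_top_iff, eq_top_iff, ← htop, sup_le_iff]
  constructor
  · intro g hg
    rw [Subgroup.mem_normalizer_iff]
    intro h
    constructor
    · rintro ⟨p, hp, rfl⟩
      refine ⟨⟨g, hg⟩ * p * ⟨g, hg⟩⁻¹, hP.conj_mem p hp _, ?_⟩
      simp
    · rintro ⟨q, hq, hqe⟩
      refine ⟨⟨g, hg⟩⁻¹ * q * ⟨g, hg⟩, ?_, ?_⟩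
      · have := hP.conj_mem q hq (⟨g, hg⟩⁻¹)
        rwa [inv_inv] at this
      · have h1 : (D.subtype q : G) = g * h * g⁻¹ := hqe
        simp only [map_mul, map_inv, Subgroup.subtype_apply] at h1 ⊢
        rw [h1]
        group
  · rw [Subgroup.zpowers_le, Subgroup.mem_normalizer_iff]
    intro h
    constructor
    · rintro ⟨p, hp, rfl⟩
      refine ⟨(MulAut.conjNormal t : D ≃* D) p, ?_, ?_⟩
      · rw [← hinv]
        exact ⟨p, hp, rfl⟩
      · simp [MulAut.conjNormal_apply]
    · rintro ⟨q, hq, hqe⟩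
      rw [← hinv] at hq
      obtain ⟨p, hp, rfl⟩ := hq
      refine ⟨p, hp, ?_⟩
      have h1 : ((MulAut.conjNormal t : D ≃* D) p : G) = t * h * t⁻¹ := hqe
      rw [MulAut.conjNormal_apply] at h1
      have h2 : (p : G) = h := by
        have := congrArg (fun x => t⁻¹ * x * t) h1
        simpa [mul_assoc] using this
      exact h2

/-- a normal subgroup `D`, generated with one more element `t` whose square lies in `D`, all of whose subgroups that
are normal in the whole group are trivial or `D`, is simple if its order is not a square -/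
theorem isSimpleGroup_of_not_square {G : Type*} [Group G] [Finite G] (D : Subgroup G) [hD : D.Normal]
    (t : G) (htop : D ⊔ Subgroup.zpowers t = ⊤) (ht2 : t * t ∈ D)
    (hnorm : ∀ M : Subgroup G, M.Normal → M ≤ D → M = ⊥ ∨ M = D)
    (hnt : Nontrivial D) (hsq : ¬ IsSquare (Nat.card D)) : IsSimpleGroup D := by
  refine ⟨fun N hN => ?_⟩
  set τ : D ≃* D := MulAut.conjNormal t with hτ
  set N₂ : Subgroup D := N.map τ.toMonoidHom with hN₂
  have hN₂n : N₂.Normal := Subgroup.Normal.map hN τ.toMonoidHom τ.surjective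
  -- the square of `τ` fixes `N`
  have hττ : N₂.map τ.toMonoidHom = N := by
    ext x
    constructor
    · rintro ⟨y, ⟨z, hz, rfl⟩, rfl⟩
      have h1 : τ.toMonoidHom (τ.toMonoidHom z) = ⟨t * t, ht2⟩ * z * ⟨t * t, ht2⟩⁻¹ := by
        apply Subtype.ext
        simp only [MulEquiv.toMonoidHom_eq_coe, MonoidHom.coe_coe, hτ, MulAut.conjNormal_apply,
          Subgroup.coe_mul, Subgroup.coe_inv]
        group
      rw [h1]
      exact hN.conj_mem z hz _
    · intro hx
      refine ⟨τ.toMonoidHom (⟨t * t, ht2⟩⁻¹ * x * ⟨t * t, ht2⟩), ⟨_, ?_, rfl⟩, ?_⟩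
      · have := hN.conj_mem x hx (⟨t * t, ht2⟩⁻¹)
        rwa [inv_inv] at this
      · apply Subtype.ext
        simp only [MulEquiv.toMonoidHom_eq_coe, MonoidHom.coe_coe, hτ, MulAut.conjNormal_apply,
          Subgroup.coe_mul, Subgroup.coe_inv]
        group
  have hinj : Function.Injective τ.toMonoidHom := τ.injective
  have hI : (N ⊓ N₂).map τ.toMonoidHom = N ⊓ N₂ := by
    rw [Subgroup.map_inf _ _ _ hinj, hττ, inf_comm]
  have hJ : (N ⊔ N₂).map τ.toMonoidHom = N ⊔ N₂ := by
    rw [Subgroup.map_sup, hττ, sup_comm]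
  have hIn : (N ⊓ N₂).Normal := Subgroup.normal_inf_normal N N₂
  have hJn : (N ⊔ N₂).Normal := Subgroup.sup_normal N N₂
  have hI0 := normal_map_subtype_of_invariant D t htop (N ⊓ N₂) hIn hI
  have hJ0 := normal_map_subtype_of_invariant D t htop (N ⊔ N₂) hJn hJ
  have htopD : (⊤ : Subgroup D).map D.subtype = D := by
    rw [← MonoidHom.range_eq_map, Subgroup.range_subtype]
  have hle : ∀ P : Subgroup D, P.map D.subtype ≤ D := by
    intro P
    calc P.map D.subtype ≤ (⊤ : Subgroup D).map D.subtype := Subgroup.map_mono le_top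
      _ = D := htopD
  have key : ∀ P : Subgroup D, (P.map D.subtype).Normal → P = ⊥ ∨ P = ⊤ := by
    intro P hP
    rcases hnorm _ hP (hle P) with h | h
    · left
      exact (Subgroup.map_eq_bot_iff_of_injective P D.subtype_injective).mp h
    · right
      apply Subgroup.map_injective D.subtype_injective
      rw [h, htopD]
  rcases key _ hJ0 with hJb | hJt
  · left
    rw [eq_bot_iff, ← hJb]
    exact le_sup_left
  · rcases key _ hI0 with hIb | hIt
    · exfalso
      apply hsq
      have h1 : N₂.relIndex (N ⊔ N₂) = N₂.relIndex N := Subgroup.relIndex_sup_right N N₂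
      rw [hJt, Subgroup.relIndex_top_right, ← Subgroup.inf_relIndex_right, inf_comm, hIb,
        Subgroup.relIndex_bot_left] at h1
      have h2 := N₂.index_mul_card
      have h3 : Nat.card N₂ = Nat.card N :=
        (Nat.card_congr (N.equivMapOfInjective τ.toMonoidHom hinj).toEquiv).symm
      rw [h1, h3] at h2
      exact ⟨Nat.card N, h2.symm⟩
    · right
      rw [eq_top_iff, ← hIt]
      exact inf_le_left

end Cfsg.Agent.Lib.Helper12.Ord
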