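import Mathlib

/-!
Involutions whose products have odd order (helper12).
-/

set_option autoImplicit false

namespace Cfsg.Agent.Lib.Helper12.Ord

/-- an involution of odd order is trivial -/
theorem eq_one_of_sq_of_odd {K : Type*} [Group K] (x : K) (hx : x * x = 1) (k : ℕ)
    (h : x ^ (2 * k + 1) = 1) : x = 1 := by
  rw [pow_succ, pow_mul, pow_two, hx, one_pow, one_mul] at h
  exact h

/-- if one of two involutions with a product of odd order is trivial, so is the other -/
theorem eq_one_of_odd_braid {K : Type*} [Group K] (x y : K) (hy : y * y = 1) (k : ℕ)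
    (hxy : (x * y) ^ (2 * k + 1) = 1) (hx : x = 1) : y = 1 := by
  rw [hx, one_mul] at hxy
  exact eq_one_of_sq_of_odd y hy k hxy

theorem eq_one_of_odd_braid' {K : Type*} [Group K] (x y : K) (hx : x * x = 1) (k : ℕ)
    (hxy : (x * y) ^ (2 * k + 1) = 1) (hy : y = 1) : x = 1 := by
  rw [hy, mul_one] at hxy
  exact eq_one_of_sq_of_odd x hx k hxy

/-- two involutions whose product has odd order have the same image in any commutative group -/
theorem map_eq_of_odd_braid {K A : Type*} [Group K] [CommGroup A] (π : K →* A) (x y : K)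
    (hx : x * x = 1) (hy : y * y = 1) (k : ℕ) (hxy : (x * y) ^ (2 * k + 1) = 1) : π x = π y := by
  have h1 : π x * π x = 1 := by rw [← map_mul, hx, map_one]
  have h2 : π y * π y = 1 := by rw [← map_mul, hy, map_one]
  have h3 : (π x * π y) ^ (2 * k + 1) = 1 := by rw [← map_mul, ← map_pow, hxy, map_one]
  have h4 : (π x * π y) * (π x * π y) = 1 := by
    calc (π x * π y) * (π x * π y) = (π x * π x) * (π y * π y) := by
          simp only [mul_comm, mul_left_comm]
      _ = 1 := by rw [h1, h2, one_mul]
  have h5 := eq_one_of_sq_of_odd _ h4 k h3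
  calc π x = π x * (π y * π y) := by rw [h2, mul_one]
    _ = (π x * π y) * π y := by rw [mul_assoc]
    _ = π y := by rw [h5, one_mul]

end Cfsg.Agent.Lib.Helper12.Ord
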