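import Cfsg.Agent.Lib.Helper12.Ord.Iwasawa

/-!
Simplicity from a maximal subgroup with trivial core that normalises a commutative subgroup whose
conjugates generate a perfect group (helper12).
-/

set_option autoImplicit false

namespace Cfsg.Agent.Lib.Helper12.Ord

/-- a perfect group with a maximal subgroup `H` of trivial core normalising a commutative subgroup `A`
whose conjugates generate the group is simple -/
theorem isSimpleGroup_of_normal_abelian {G : Type*} [Group G] [Nontrivial G] (H : Subgroup G)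
    (hmax : IsCoatom H)
    (hcore : ∀ N : Subgroup G, N.Normal → N ≤ H → N = ⊥)
    (A : Subgroup G) (hcomm : IsMulCommutative A)
    (hconjA : ∀ h ∈ H, ∀ a ∈ A, h * a * h⁻¹ ∈ A)
    (hnc : Subgroup.normalClosure (A : Set G) = ⊤)
    (hperf : commutator G = ⊤) : IsSimpleGroup G := by
  refine ⟨fun N hN => ?_⟩
  by_cases hle : N ≤ H
  · exact Or.inl (hcore N hN hle)
  · right
    have hsup : N ⊔ H = ⊤ := by
      have hlt : H < N ⊔ H := by
        refine lt_of_le_of_ne le_sup_right (fun heq => hle ?_)
        rw [heq]; exact le_sup_left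
      exact hmax.2 _ hlt
    set M : Subgroup G := N ⊔ A with hM
    have keyH : ∀ g ∈ H, ∀ x ∈ M, g * x * g⁻¹ ∈ M := by
      intro g hg x hx
      rw [hM] at hx
      refine sup_induction_of_group (C := fun x => g * x * g⁻¹ ∈ M) ?_ ?_ ?_ ?_ hx
      · intro n hn
        exact (le_sup_left : N ≤ M) (hN.conj_mem n hn g)
      · intro a ha
        exact (le_sup_right : A ≤ M) (hconjA g hg a ha)
      · intro x y hx hy
        have : g * (x * y) * g⁻¹ = (g * x * g⁻¹) * (g * y * g⁻¹) := by group
        rw [this]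
        exact M.mul_mem hx hy
      · intro x hx
        have : g * x⁻¹ * g⁻¹ = (g * x * g⁻¹)⁻¹ := by group
        rw [this]
        exact M.inv_mem hx
    have keyN : ∀ g ∈ N, ∀ x ∈ M, g * x * g⁻¹ ∈ M := by
      intro g hg x hx
      have hgM : g ∈ M := (le_sup_left : N ≤ M) hg
      exact M.mul_mem (M.mul_mem hgM hx) (M.inv_mem hgM)
    have keyall : ∀ g : G, (∀ x ∈ M, g * x * g⁻¹ ∈ M) ∧ (∀ x ∈ M, g⁻¹ * x * g ∈ M) := by
      intro g
      have hg : g ∈ N ⊔ H := by rw [hsup]; trivial
      refine sup_induction_of_group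
        (C := fun g => (∀ x ∈ M, g * x * g⁻¹ ∈ M) ∧ (∀ x ∈ M, g⁻¹ * x * g ∈ M)) ?_ ?_ ?_ ?_ hg
      · intro g hg
        refine ⟨keyN g hg, fun x hx => ?_⟩
        have := keyN g⁻¹ (N.inv_mem hg) x hx
        rwa [inv_inv] at this
      · intro g hg
        refine ⟨keyH g hg, fun x hx => ?_⟩
        have := keyH g⁻¹ (H.inv_mem hg) x hx
        rwa [inv_inv] at this
      · intro g₁ g₂ h₁ h₂
        constructor
        · intro x hx
          have : g₁ * g₂ * x * (g₁ * g₂)⁻¹ = g₁ * (g₂ * x * g₂⁻¹) * g₁⁻¹ := by group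
          rw [this]
          exact h₁.1 _ (h₂.1 x hx)
        · intro x hx
          have : (g₁ * g₂)⁻¹ * x * (g₁ * g₂) = g₂⁻¹ * (g₁⁻¹ * x * g₁) * g₂ := by group
          rw [this]
          exact h₂.2 _ (h₁.2 x hx)
      · intro g₁ h₁
        refine ⟨fun x hx => ?_, fun x hx => ?_⟩
        · have := h₁.2 x hx
          rwa [inv_inv]
        · have := h₁.1 x hx
          rwa [inv_inv]
    have hMn : M.Normal := ⟨fun x hx g => (keyall g).1 x hx⟩
    have hMtop : M = ⊤ := by
      rw [eq_top_iff, ← hnc]
      refine Subgroup.normalClosure_le_normal ?_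
      intro x hx
      exact (le_sup_right : A ≤ M) hx
    have h1 : commutator G ≤ N :=
      Subgroup.Normal.commutator_le_of_self_sup_commutative_eq_top (N := N) (H := A) hMtop hcomm
    rw [hperf] at h1
    exact eq_top_iff.mpr h1

/-- conjugation by `s` maps the closure of `T` into itself if it does so for the elements of `T` -/
theorem conj_mem_closure_of_gens {G : Type*} [Group G] (T : Set G) (s : G)
    (h : ∀ t ∈ T, s * t * s⁻¹ ∈ Subgroup.closure T) :
    ∀ a ∈ Subgroup.closure T, s * a * s⁻¹ ∈ Subgroup.closure T := by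
  intro a ha
  refine Subgroup.closure_induction (p := fun a _ => s * a * s⁻¹ ∈ Subgroup.closure T) ?_ ?_ ?_ ?_ ha
  · intro t ht
    exact h t ht
  · rw [mul_one, mul_inv_cancel]
    exact Subgroup.one_mem _
  · intro x y _ _ hx hy
    have : s * (x * y) * s⁻¹ = (s * x * s⁻¹) * (s * y * s⁻¹) := by group
    rw [this]
    exact Subgroup.mul_mem _ hx hy
  · intro x _ hx
    have : s * x⁻¹ * s⁻¹ = (s * x * s⁻¹)⁻¹ := by group
    rw [this]
    exact Subgroup.inv_mem _ hx

/-- the group generated by `X` normalises the group generated by `T` if the elements of `X` and their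
inverses conjugate the elements of `T` into it -/
theorem normalises_of_gens {G : Type*} [Group G] (T X : Set G)
    (h1 : ∀ s ∈ X, ∀ t ∈ T, s * t * s⁻¹ ∈ Subgroup.closure T)
    (h2 : ∀ s ∈ X, ∀ t ∈ T, s⁻¹ * t * s ∈ Subgroup.closure T) :
    ∀ h ∈ Subgroup.closure X, ∀ a ∈ Subgroup.closure T, h * a * h⁻¹ ∈ Subgroup.closure T := by
  have key : ∀ h ∈ Subgroup.closure X, (∀ a ∈ Subgroup.closure T, h * a * h⁻¹ ∈ Subgroup.closure T) ∧
      (∀ a ∈ Subgroup.closure T, h⁻¹ * a * h ∈ Subgroup.closure T) := by
    intro h hh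
    refine Subgroup.closure_induction
      (p := fun h _ => (∀ a ∈ Subgroup.closure T, h * a * h⁻¹ ∈ Subgroup.closure T) ∧
        (∀ a ∈ Subgroup.closure T, h⁻¹ * a * h ∈ Subgroup.closure T)) ?_ ?_ ?_ ?_ hh
    · intro s hs
      refine ⟨conj_mem_closure_of_gens T s (h1 s hs), ?_⟩
      have := conj_mem_closure_of_gens T s⁻¹ (by
        intro t ht
        rw [inv_inv]
        exact h2 s hs t ht)
      intro a ha
      have h3 := this a ha
      rwa [inv_inv] at h3
    · constructor
      · intro a ha
        rwa [one_mul, inv_one, mul_one]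
      · intro a ha
        rwa [inv_one, one_mul, mul_one]
    · intro x y _ _ hx hy
      constructor
      · intro a ha
        have : x * y * a * (x * y)⁻¹ = x * (y * a * y⁻¹) * x⁻¹ := by group
        rw [this]
        exact hx.1 _ (hy.1 a ha)
      · intro a ha
        have : (x * y)⁻¹ * a * (x * y) = y⁻¹ * (x⁻¹ * a * x) * y := by group
        rw [this]
        exact hy.2 _ (hx.2 a ha)
    · intro x _ hx
      constructor
      · intro a ha
        have := hx.2 a ha
        rwa [inv_inv]
      · intro a ha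
        have := hx.1 a ha
        rwa [inv_inv]
  intro h hh
  exact (key h hh).1

end Cfsg.Agent.Lib.Helper12.Ord
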