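import Cfsg.Agent.Lib.Helper12.Ord.RankN

/-!
Maximality of a point stabiliser from the suborbit lengths, where unions of suborbits of a size dividing
the degree may be excluded by showing that they are not blocks (helper12).
-/

set_option autoImplicit false

namespace Cfsg.Agent.Lib.Helper12.Ord

open MulAction Cfsg.Agent.Lib.Helper12

/-- as `isCoatom_stabilizer_of_classes`, but the union of classes may be assumed to be closed under the
elements of the group moving the point `x` into it -/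
theorem isCoatom_stabilizer_of_classes_closed {G X ι : Type*} [Group G] [MulAction G X] [DecidableEq ι]
    [Fintype ι] (x : X) (Y : Set X) (hYfin : Y.Finite)
    (htrans : ∀ y, y ∈ Y ↔ ∃ g : G, g • x = y)
    (c : X → ι)
    (hhom : ∀ y ∈ Y, ∀ y' ∈ Y, c y = c y' → ∃ h ∈ stabilizer G x, h • y = y')
    (n : ι → ℕ) (hn : ∀ i, {y | y ∈ Y ∧ c y = i}.ncard = n i)
    (hx : ∀ y ∈ Y, c y = c x → y = x) (hne : ∃ y ∈ Y, y ≠ x)
    (harith : ∀ I : Finset ι, c x ∈ I → (∀ i ∈ I, n i ≠ 0) → (∑ i ∈ I, n i) ∣ Y.ncard →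
      (∀ g : G, ∀ y ∈ Y, c (g • x) ∈ I → c y ∈ I → c (g • y) ∈ I) →
      I = {c x} ∨ ∀ i, n i ≠ 0 → i ∈ I) :
    IsCoatom (stabilizer G x) := by
  classical
  have hxY : x ∈ Y := (htrans x).mpr ⟨1, one_smul _ _⟩
  have hYorb : Y = orbit G x := by
    ext y
    rw [htrans y]
    rfl
  constructor
  · intro htop
    obtain ⟨y, hy, hyx⟩ := hne
    obtain ⟨g, rfl⟩ := (htrans y).mp hy
    apply hyx
    have : g ∈ stabilizer G x := by rw [htop]; trivial
    exact this
  · intro K hHK
    let H := stabilizer G x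
    have hle : H ≤ K := le_of_lt hHK
    -- the orbit of x under K
    set O : Set X := orbit K x with hO
    have hOY : O ⊆ Y := by
      intro y hy
      rw [hO, mem_orbit_subgroup] at hy
      obtain ⟨k, _, rfl⟩ := hy
      exact (htrans _).mpr ⟨k, rfl⟩
    let I : Finset ι := Finset.univ.filter fun i => ∃ y ∈ O, c y = i
    have hxO : x ∈ O := by
      rw [hO, mem_orbit_subgroup]
      exact ⟨1, K.one_mem, one_smul _ _⟩
    have hcxI : c x ∈ I := by
      simp only [I, Finset.mem_filter, Finset.mem_univ, true_and]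
      exact ⟨x, hxO, rfl⟩
    have hOeq : O = {y | y ∈ Y ∧ c y ∈ I} := by
      ext y
      constructor
      · intro hy
        refine ⟨hOY hy, ?_⟩
        simp only [I, Finset.mem_filter, Finset.mem_univ, true_and]
        exact ⟨y, hy, rfl⟩
      · rintro ⟨hyY, hyI⟩
        simp only [I, Finset.mem_filter, Finset.mem_univ, true_and] at hyI
        obtain ⟨y', hy'O, hcy'⟩ := hyI
        obtain ⟨h, hh, hhy⟩ := hhom y' (hOY hy'O) y hyY hcy'
        rw [hO, mem_orbit_subgroup] at hy'O ⊢
        obtain ⟨k, hk, rfl⟩ := hy'O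
        exact ⟨h * k, K.mul_mem (hle hh) hk, by rw [mul_smul, hhy]⟩
    have hOcard : O.ncard = ∑ i ∈ I, n i := by
      have hU : O = ⋃ i ∈ (I : Set ι), {y | y ∈ Y ∧ c y = i} := by
        rw [hOeq]
        ext y
        simp only [Set.mem_ofPred_eq, Set.mem_iUnion, Finset.mem_coe, exists_prop]
        constructor
        · rintro ⟨hy, hc⟩
          exact ⟨c y, hc, hy, rfl⟩
        · rintro ⟨i, hi, hy, rfl⟩
          exact ⟨hy, hi⟩
      rw [hU, Set.Finite.ncard_biUnion (Finset.finite_toSet I)]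
      · rw [finsum_mem_coe_finset]
        exact Finset.sum_congr rfl (fun i _ => hn i)
      · intro i _
        exact hYfin.subset (fun y hy => hy.1)
      · intro i _ j _ hij
        rw [Function.onFun, Set.disjoint_left]
        rintro y ⟨_, hyi⟩ ⟨_, hyj⟩
        exact hij (hyi.symm.trans hyj)
    have hdvd : (∑ i ∈ I, n i) ∣ Y.ncard := by
      rw [← hOcard, hO, ncard_orbit_subgroup, hYorb, ncard_orbit_top]
      exact Dvd.intro _ (Subgroup.relIndex_mul_index hle)
    have hInz : ∀ i ∈ I, n i ≠ 0 := by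
      intro i hi
      simp only [I, Finset.mem_filter, Finset.mem_univ, true_and] at hi
      obtain ⟨y, hyO, hcy⟩ := hi
      rw [← hn i]
      intro h0
      have hfin : {z | z ∈ Y ∧ c z = i}.Finite := hYfin.subset (fun z hz => hz.1)
      rw [Set.ncard_eq_zero hfin] at h0
      have : y ∈ {z | z ∈ Y ∧ c z = i} := ⟨hOY hyO, hcy⟩
      rw [h0] at this
      exact this
    have hclosed : ∀ g : G, ∀ y ∈ Y, c (g • x) ∈ I → c y ∈ I → c (g • y) ∈ I := by
      intro g y hyY hgx hy
      have hgxO : g • x ∈ O := by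
        rw [hOeq]
        exact ⟨(htrans _).mpr ⟨g, rfl⟩, hgx⟩
      have hyO : y ∈ O := by
        rw [hOeq]
        exact ⟨hyY, hy⟩
      rw [hO, mem_orbit_subgroup] at hgxO hyO
      obtain ⟨k, hk, hkx⟩ := hgxO
      obtain ⟨k', hk', rfl⟩ := hyO
      have hmem : k⁻¹ * g ∈ H := by
        show (k⁻¹ * g) • x = x
        rw [mul_smul, ← hkx, inv_smul_smul]
      have hgK : g ∈ K := by
        have : g = k * (k⁻¹ * g) := by group
        rw [this]
        exact K.mul_mem hk (hle hmem)
      have hO2 : g • k' • x ∈ O := by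
        rw [hO, mem_orbit_subgroup]
        exact ⟨g * k', K.mul_mem hgK hk', mul_smul _ _ _⟩
      rw [hOeq] at hO2
      exact hO2.2
    rcases harith I hcxI hInz hdvd hclosed with hI | hI
    · -- the orbit is {x}, so K = H
      exfalso
      have hO1 : O = {x} := by
        rw [hOeq, hI]
        ext y
        simp only [Set.mem_ofPred_eq, Finset.mem_singleton, Set.mem_singleton_iff]
        constructor
        · rintro ⟨hy, hc⟩
          exact hx y hy hc
        · rintro rfl
          exact ⟨hxY, rfl⟩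
      have : K ≤ H := by
        intro k hk
        have : k • x ∈ O := by
          rw [hO, mem_orbit_subgroup]
          exact ⟨k, hk, rfl⟩
        rw [hO1] at this
        exact this
      exact lt_irrefl _ (lt_of_lt_of_le hHK this)
    · -- the orbit is everything, so K = ⊤
      have hOY' : O = Y := by
        apply Set.Subset.antisymm hOY
        intro y hy
        rw [hOeq]
        refine ⟨hy, hI _ ?_⟩
        rw [← hn (c y)]
        intro h0
        have hfin : {z | z ∈ Y ∧ c z = c y}.Finite := hYfin.subset (fun z hz => hz.1)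
        rw [Set.ncard_eq_zero hfin] at h0
        have : y ∈ {z | z ∈ Y ∧ c z = c y} := ⟨hy, rfl⟩
        rw [h0] at this
        exact this
      rw [eq_top_iff]
      intro g _
      have : g • x ∈ O := by
        rw [hOY']
        exact (htrans _).mpr ⟨g, rfl⟩
      rw [hO, mem_orbit_subgroup] at this
      obtain ⟨k, hk, hkx⟩ := this
      have hmem : k⁻¹ * g ∈ H := by
        show (k⁻¹ * g) • x = x
        rw [mul_smul, ← hkx, inv_smul_smul]
      have : g = k * (k⁻¹ * g) := by group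
      rw [this]
      exact K.mul_mem hk (hle hmem)


/-- a subgroup `H` whose orbits on its `N` cosets are the intervals `[lo k, hi k)`, the first of them `{0}`,
is maximal if no union of intervals containing the first, other than the first alone and all of them, has
a size dividing `N` -/
theorem isCoatom_of_orbit_classes_closed {G : Type*} [Group G] (H : Subgroup G) {N : ℕ}
    (Φ : G ⧸ H ≃ Fin N) {r : ℕ} (c : Fin N → Fin (r + 1)) (lo hi : Fin (r + 1) → ℕ)
    (hc : ∀ i k, c i = k ↔ lo k ≤ i.val ∧ i.val < hi k) (hhi : ∀ k, hi k ≤ N)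
    (hlo0 : lo 0 = 0) (hhi0 : hi 0 = 1) (hΦ0 : (Φ ((1 : G) : G ⧸ H)).val = 0)
    (horb : ∀ k, k ≠ 0 → ∀ hk : lo k < N, Φ '' (orbit H (Φ.symm ⟨lo k, hk⟩)) =
      {i : Fin N | lo k ≤ i.val ∧ i.val < hi k})
    (hN : 1 < N)
    (harith : ∀ I : Finset (Fin (r + 1)), 0 ∈ I → (∀ k ∈ I, hi k - lo k ≠ 0) →
      (∑ k ∈ I, (hi k - lo k)) ∣ N →
      (∀ (g : G) (q : G ⧸ H), c (Φ (g • ((1 : G) : G ⧸ H))) ∈ I → c (Φ q) ∈ I → c (Φ (g • q)) ∈ I) →
      I = {0} ∨ ∀ k, hi k - lo k ≠ 0 → k ∈ I) :
    IsCoatom H := by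
  classical
  have hstab : stabilizer G ((1 : G) : G ⧸ H) = H := stabilizer_quotient H
  rw [← hstab]
  have hfinQ : Finite (G ⧸ H) := Finite.of_equiv _ Φ.symm
  let cq : G ⧸ H → Fin (r + 1) := fun q => c (Φ q)
  have hc0 : ∀ q, cq q = 0 ↔ (Φ q).val = 0 := by
    intro q
    show c (Φ q) = 0 ↔ _
    rw [hc, hlo0, hhi0]
    omega
  have hx0 : cq ((1 : G) : G ⧸ H) = 0 := (hc0 _).mpr hΦ0
  have hsame : ∀ (b : Fin N) (S : Set (Fin N)), Φ '' (orbit H (Φ.symm b)) = S →
      ∀ y y' : G ⧸ H, Φ y ∈ S → Φ y' ∈ S → ∃ h ∈ stabilizer G ((1 : G) : G ⧸ H), h • y = y' := by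
    intro b S hS y y' hy hy'
    rw [← hS] at hy hy'
    obtain ⟨z, hz, hzy⟩ := hy
    obtain ⟨z', hz', hzy'⟩ := hy'
    have e1 : z = y := Φ.injective hzy
    have e2 : z' = y' := Φ.injective hzy'
    rw [e1] at hz
    rw [e2] at hz'
    obtain ⟨⟨h1, hh1⟩, rfl⟩ := hz
    obtain ⟨⟨h2, hh2⟩, rfl⟩ := hz'
    refine ⟨h2 * h1⁻¹, ?_, ?_⟩
    · rw [hstab]; exact H.mul_mem hh2 (H.inv_mem hh1)
    · show (h2 * h1⁻¹) • (h1 • Φ.symm b) = h2 • Φ.symm b
      rw [smul_smul, inv_mul_cancel_right]
  apply isCoatom_stabilizer_of_classes_closed (G := G) (X := G ⧸ H) (ι := Fin (r + 1)) ((1 : G) : G ⧸ H)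
    Set.univ (Set.toFinite _) _ cq _ (fun k => hi k - lo k) _ _ _ _
  · intro y
    refine ⟨fun _ => ?_, fun _ => trivial⟩
    induction y using QuotientGroup.induction_on with
    | H g => exact ⟨g, by
        show ((g * 1 : G) : G ⧸ H) = (g : G ⧸ H)
        rw [mul_one]⟩
  · intro y _ y' _ hcc
    by_cases h : cq y = 0
    · have h' : cq y' = 0 := hcc ▸ h
      have e1 := (hc0 y).mp h
      have e2 := (hc0 y').mp h'
      have : y = y' := Φ.injective (Fin.ext (e1.trans e2.symm))
      exact ⟨1, (stabilizer G _).one_mem, by rw [one_smul, this]⟩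
    · have h1 : lo (cq y) ≤ (Φ y).val ∧ (Φ y).val < hi (cq y) := (hc (Φ y) (cq y)).mp rfl
      have h2 : lo (cq y) ≤ (Φ y').val ∧ (Φ y').val < hi (cq y) := (hc (Φ y') (cq y)).mp hcc.symm
      have hk : lo (cq y) < N := lt_of_le_of_lt h1.1 (Φ y).isLt
      exact hsame _ _ (horb (cq y) h hk) y y' h1 h2
  · intro k
    have himg : ∀ S : Set (Fin N), {y : G ⧸ H | Φ y ∈ S}.ncard = S.ncard := by
      intro S
      rw [← Set.ncard_image_of_injective _ Φ.injective]
      congr 1
      ext j
      constructor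
      · rintro ⟨y, hy, rfl⟩; exact hy
      · intro hj; exact ⟨Φ.symm j, by show Φ (Φ.symm j) ∈ S; rw [Equiv.apply_symm_apply]; exact hj,
          Equiv.apply_symm_apply _ _⟩
    have : {y : G ⧸ H | y ∈ Set.univ ∧ cq y = k} =
        {y | Φ y ∈ ({j : Fin N | lo k ≤ j.val ∧ j.val < hi k} : Set (Fin N))} := by
      ext y
      simp only [Set.mem_univ, true_and, Set.mem_ofPred_eq]
      exact hc (Φ y) k
    rw [this, himg, ncard_interval_fin (hhi k)]
  · intro y _ hcy
    rw [hx0] at hcy
    exact Φ.injective (Fin.ext (((hc0 y).mp hcy).trans hΦ0.symm))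
  · refine ⟨Φ.symm ⟨1, hN⟩, trivial, fun h => ?_⟩
    have := congrArg (fun q => (Φ q).val) h
    simp only [Equiv.apply_symm_apply] at this
    omega
  · intro I hI hnz hdvd hcl
    rw [hx0] at hI ⊢
    have hY : (Set.univ : Set (G ⧸ H)).ncard = N := by
      rw [Set.ncard_univ, Nat.card_congr Φ, Nat.card_fin]
    rw [hY] at hdvd
    exact harith I hI hnz hdvd (fun g q h1 h2 => hcl g q trivial h1 h2)


end Cfsg.Agent.Lib.Helper12.Ord
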