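import Cfsg.Agent.Lib.Helper12.Ord.HeOrder
import Cfsg.Agent.Lib.Helper12.Ord.Iwasawa3
import Cfsg.Agent.Lib.Helper12.Ord.RankN2
import Cfsg.Agent.Lib.Helper12.Ord.Words
import Cfsg.Agent.Lib.Helper12.Ord.Invol

/-!
The presented group He is simple (helper12).
-/

set_option autoImplicit false

namespace Cfsg.Agent.Lib.Helper12.Ord.HeSimple

open Cfsg.Spor Cfsg.Agent.Lib.Helper12.TC Cfsg.Agent.Lib.Helper12.TC.Heo8330
  Cfsg.Agent.Lib.Helper12.TC.HePres Cfsg.Agent.Lib.Helper12.Ord

/-- the relators -/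
abbrev R : Set (FreeGroup He.Gen) := coxRelators He.edges ∪ {r | r ∈ He.extra}

/-- the generators -/
noncomputable def v (i : ℕ) : PresentedGroup R := PresentedGroup.mk R (FreeGroup.of (gen i))

/-- the subgroup -/
abbrev Hs : Subgroup (PresentedGroup R) := (Subgroup.closure S).map (PresentedGroup.mk R)

theorem hH : Hs = Subgroup.closure {γ | ∃ w ∈ sw, γ = wprod v w} := by
  show (Subgroup.closure S).map (PresentedGroup.mk R) = _
  rw [MonoidHom.map_closure, hS]
  rfl

theorem hmk : ∀ r ∈ R, PresentedGroup.mk R r = 1 := fun _ hr => PresentedGroup.one_of_mem hr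

theorem hsq : ∀ y : He.Gen, PresentedGroup.mk R (FreeGroup.of y) * PresentedGroup.mk R (FreeGroup.of y)
    = 1 :=
  cox_sq_of_hom He.edges (PresentedGroup.mk R) hnodes (fun r hr => hmk r (Or.inl hr))

theorem hvsq : ∀ s, v s * v s = 1 := fun s => hsq (gen s)

theorem hcox (x y : He.Gen) (m : ℕ) (h : coxLabel He.edges x y = m) :
    (PresentedGroup.mk R (FreeGroup.of x) * PresentedGroup.mk R (FreeGroup.of y)) ^ m = 1 := by
  rw [← map_mul, ← map_pow]
  apply hmk
  left
  exact ⟨x, hnodes x, y, hnodes y, by rw [h]⟩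

/-- the relation `e = (f g) ^ 2` -/
theorem rel_e1 : v 4 = (v 5 * v 6) ^ 2 := by
  have h : PresentedGroup.mk R (He.e * ((He.f * He.g) ^ 2)⁻¹) = 1 := by
    apply hmk
    right
    exact List.mem_cons_self
  rw [map_mul, map_inv, map_pow, map_mul, mul_inv_eq_one] at h
  exact h

/-- the relation `e = (a b c) ^ 3` -/
theorem rel_e2 : v 4 = (v 0 * v 1 * v 2) ^ 3 := by
  have h : PresentedGroup.mk R (He.e * ((He.a * He.b * He.c) ^ 3)⁻¹) = 1 := by
    apply hmk
    right
    exact List.mem_cons_of_mem _ List.mem_cons_self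
  rw [map_mul, map_inv, map_pow, map_mul, map_mul, mul_inv_eq_one] at h
  exact h

/-- the relation `a = (c d) ^ 5` -/
theorem rel_a : v 0 = (v 2 * v 3) ^ 5 := by
  have h : PresentedGroup.mk R (He.a * ((He.c * He.d) ^ 5)⁻¹) = 1 := by
    apply hmk
    right
    exact List.mem_cons_of_mem _ (List.mem_cons_of_mem _ List.mem_cons_self)
  rw [map_mul, map_inv, map_pow, map_mul, mul_inv_eq_one] at h
  exact h

/-- a homomorphism killing the generator `a` kills all generators -/
theorem map_gen_eq_one {Q : Type*} [Group Q] (π : PresentedGroup R →* Q) (h : π (v 0) = 1) :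
    ∀ s, s < 7 → π (v s) = 1 := by
  have hq : ∀ s, π (v s) * π (v s) = 1 := fun s => by rw [← map_mul, hvsq, map_one]
  have hbr : ∀ (x y : He.Gen) (m : ℕ), coxLabel He.edges x y = m →
      (π (PresentedGroup.mk R (FreeGroup.of x)) * π (PresentedGroup.mk R (FreeGroup.of y))) ^ m = 1 := by
    intro x y m hm
    rw [← map_mul, ← map_pow, hcox x y m hm, map_one]
  have he : π (v 4) = 1 := by
    rw [rel_e2, map_pow, map_mul, map_mul, h, one_mul]
    exact hbr .b .c 3 (by decide)
  have hd : π (v 3) = 1 := eq_one_of_odd_braid' _ _ (hq 3) 1 (hbr .d .e 3 (by decide)) he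
  have hf : π (v 5) = 1 := eq_one_of_odd_braid _ _ (hq 5) 1 (hbr .d .f 3 (by decide)) hd
  have hg : π (v 6) = 1 := eq_one_of_odd_braid' _ _ (hq 6) 1 (hbr .g .d 3 (by decide)) hd
  have hc : π (v 2) = 1 := by
    have h1 : (π (v 2)) ^ (2 * 2 + 1) = 1 := by
      have := congrArg π rel_a
      rw [map_pow, map_mul, hd, mul_one, h] at this
      exact this.symm
    exact eq_one_of_sq_of_odd _ (hq 2) 2 h1
  have hb : π (v 1) = 1 := eq_one_of_odd_braid' _ _ (hq 1) 1 (hbr .b .c 3 (by decide)) hc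
  intro s hs
  interval_cases s <;> assumption

theorem closure_range_v : Subgroup.closure {γ | ∃ s, s < 7 ∧ γ = v s} =
    (⊤ : Subgroup (PresentedGroup R)) := by
  rw [eq_top_iff, ← PresentedGroup.closure_range_of R, Subgroup.closure_le]
  rintro _ ⟨y, rfl⟩
  apply Subgroup.subset_closure
  cases y
  · exact ⟨0, by decide, rfl⟩
  · exact ⟨1, by decide, rfl⟩
  · exact ⟨2, by decide, rfl⟩
  · exact ⟨3, by decide, rfl⟩
  · exact ⟨4, by decide, rfl⟩
  · exact ⟨5, by decide, rfl⟩
  · exact ⟨6, by decide, rfl⟩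

/-- the four group normalised by the subgroup -/
noncomputable def A : Subgroup (PresentedGroup R) := Subgroup.closure {uu 0, uu 7}

theorem uu0_eq : uu 0 = v 0 := uu_gen 0 (by decide)

theorem normalClosure_eq_top : Subgroup.normalClosure (A : Set (PresentedGroup R)) =
    (⊤ : Subgroup (PresentedGroup R)) := by
  set N : Subgroup (PresentedGroup R) := Subgroup.normalClosure (A : Set (PresentedGroup R)) with hN
  have h0 : v 0 ∈ N := by
    apply Subgroup.subset_normalClosure
    rw [← uu0_eq]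
    exact Subgroup.subset_closure (Or.inl rfl)
  have h1 : QuotientGroup.mk' N (v 0) = 1 := by
    rw [QuotientGroup.mk'_apply, QuotientGroup.eq_one_iff]
    exact h0
  have h2 := map_gen_eq_one (QuotientGroup.mk' N) h1
  rw [eq_top_iff, ← closure_range_v, Subgroup.closure_le]
  rintro _ ⟨s, hs, rfl⟩
  have := h2 s hs
  rwa [QuotientGroup.mk'_apply, QuotientGroup.eq_one_iff] at this

theorem commutator_eq_top : commutator (PresentedGroup R) = ⊤ := by
  set π := (Abelianization.of : PresentedGroup R →* Abelianization (PresentedGroup R)) with hπ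
  have hq : ∀ s, π (v s) * π (v s) = 1 := fun s => by rw [← map_mul, hvsq, map_one]
  have hbr : ∀ (x y : He.Gen) (k : ℕ), coxLabel He.edges x y = 2 * k + 1 →
      π (PresentedGroup.mk R (FreeGroup.of x)) = π (PresentedGroup.mk R (FreeGroup.of y)) := by
    intro x y k hm
    exact map_eq_of_odd_braid π _ _ (hsq x) (hsq y) k (hcox x y _ hm)
  have hbc : π (v 1) = π (v 2) := hbr .b .c 1 (by decide)
  have hde : π (v 3) = π (v 4) := hbr .d .e 1 (by decide)
  have hdf : π (v 3) = π (v 5) := hbr .d .f 1 (by decide)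
  have hgd : π (v 6) = π (v 3) := hbr .g .d 1 (by decide)
  have hd : π (v 3) = 1 := by
    have h1 : π (v 4) = (π (v 5) * π (v 6)) ^ 2 := by rw [rel_e1, map_pow, map_mul]
    rw [← hde, ← hdf, hgd, hq, one_pow] at h1
    exact h1
  have he : π (v 4) = 1 := hde ▸ hd
  have hf : π (v 5) = 1 := hdf ▸ hd
  have hg : π (v 6) = 1 := hgd.trans hd
  have hac : π (v 0) = π (v 2) := by
    have h1 : π (v 0) = (π (v 2) * π (v 3)) ^ 5 := by rw [rel_a, map_pow, map_mul]
    rw [hd, mul_one] at h1
    have h2 : π (v 2) ^ 5 = (π (v 2) * π (v 2)) * (π (v 2) * π (v 2)) * π (v 2) := by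
      simp only [pow_succ, pow_zero, one_mul, mul_assoc]
    rw [h1, h2, hq, one_mul, one_mul]
  have hc : π (v 2) = 1 := by
    have h1 : π (v 4) = (π (v 0) * π (v 1) * π (v 2)) ^ 3 := by
      rw [rel_e2, map_pow, map_mul, map_mul]
    rw [he, hac, hbc, hq, one_mul] at h1
    have h2 : π (v 2) ^ (2 * 1 + 1) = 1 := h1.symm
    exact eq_one_of_sq_of_odd _ (hq 2) 1 h2
  have hb : π (v 1) = 1 := hbc.trans hc
  have ha : π (v 0) = 1 := hac.trans hc
  apply commutator_eq_top_of_closure _ closure_range_v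
  rintro _ ⟨s, hs, rfl⟩
  rw [← Abelianization.ker_of, MonoidHom.mem_ker]
  interval_cases s <;> assumption

theorem isMulCommutative_A : IsMulCommutative A := by
  apply Subgroup.isMulCommutative_closure
  have h1 := HeOrder.rho_injective hcomm
  rw [wprod_cons, wprod_cons, wprod_nil, mul_one, wprod_cons, wprod_cons, wprod_nil, mul_one] at h1
  intro x hx y hy
  rcases hx with rfl | rfl <;> rcases hy with rfl | rfl
  · rfl
  · exact h1
  · exact h1.symm
  · rfl

theorem uu0_mem : wprod uu [0] ∈ A := by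
  rw [wprod_cons, wprod_nil, mul_one]
  exact Subgroup.subset_closure (Or.inl rfl)

theorem uu7_mem : wprod uu [7] ∈ A := by
  rw [wprod_cons, wprod_nil, mul_one]
  exact Subgroup.subset_closure (Or.inr rfl)

theorem uu07_mem : wprod uu [0, 7] ∈ A := by
  rw [wprod_cons, wprod_cons, wprod_nil, mul_one]
  exact Subgroup.mul_mem _ (Subgroup.subset_closure (Or.inl rfl)) (Subgroup.subset_closure (Or.inr rfl))

/-- conjugates from the equality of permutations -/
theorem conj_of_check (sc tc : ℕ) (x : List ℕ) (hx : wprod uu x ∈ A)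
    (h : rho (wprod uu [sc, tc]) = rho (wprod uu (x ++ [sc]))) :
    uu sc * uu tc * (uu sc)⁻¹ ∈ A := by
  have h1 := HeOrder.rho_injective h
  rw [wprod_cons, wprod_cons, wprod_nil, mul_one, wprod_append, wprod_cons, wprod_nil, mul_one] at h1
  rw [h1, mul_inv_cancel_right]
  exact hx

theorem conj_of_check' (sc tc : ℕ) (x : List ℕ) (hx : wprod uu x ∈ A)
    (h : rho (wprod uu [tc, sc]) = rho (wprod uu (sc :: x))) :
    (uu sc)⁻¹ * uu tc * uu sc ∈ A := by
  have h1 := HeOrder.rho_injective h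
  rw [wprod_cons, wprod_cons, wprod_nil, mul_one, wprod_cons] at h1
  rw [mul_assoc, h1, inv_mul_cancel_left]
  exact hx

theorem wprod_uu_eq (w : List ℕ) (hw : ∀ s ∈ w, s < 7) : wprod uu w = wprod v w :=
  Fn.wprod_congr _ _ _ (fun s hs => uu_gen s (hw s hs))

theorem uu8_eq : uu 8 = wprod v [0, 1, 0, 1] := by
  have h1 : uu (7 + 1) = wprod uu [0, 1, 0, 1] := uu_spec 1 _ rfl
  rw [wprod_uu_eq _ (by decide)] at h1
  exact h1

theorem uu9_eq : uu 9 = wprod v [1, 2, 3, 5, 4, 3, 2, 3, 4, 1, 2, 3, 2, 3, 1, 2, 3, 5, 4, 3, 2, 1] := by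
  have h1 : uu (7 + 2) = wprod uu [1, 2, 3, 5, 4, 3, 2, 3, 4, 1, 2, 3, 2, 3, 1, 2, 3, 5, 4, 3, 2, 1] :=
    uu_spec 2 _ rfl
  rw [wprod_uu_eq _ (by decide)] at h1
  exact h1

theorem normalises : ∀ h ∈ Hs, ∀ a ∈ A, h * a * h⁻¹ ∈ A := by
  rw [hH]
  apply normalises_of_gens
  · rintro _ ⟨w, hw, rfl⟩ t ht
    simp only [sw, List.mem_cons, List.not_mem_nil, or_false] at hw
    rcases hw with rfl | rfl | rfl | rfl | rfl | rfl
    · rw [← wprod_uu_eq _ (by decide), wprod_cons, wprod_nil, mul_one]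
      rcases ht with rfl | rfl
      · exact conj_of_check 2 0 [0] uu0_mem hn2_0
      · exact conj_of_check 2 7 [7] uu7_mem hn2_1
    · rw [← wprod_uu_eq _ (by decide), wprod_cons, wprod_nil, mul_one]
      rcases ht with rfl | rfl
      · exact conj_of_check 3 0 [0] uu0_mem hn3_0
      · exact conj_of_check 3 7 [7] uu7_mem hn3_1
    · rw [← wprod_uu_eq _ (by decide), wprod_cons, wprod_nil, mul_one]
      rcases ht with rfl | rfl
      · exact conj_of_check 5 0 [0] uu0_mem hn5_0
      · exact conj_of_check 5 7 [7] uu7_mem hn5_1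
    · rw [← wprod_uu_eq _ (by decide), wprod_cons, wprod_nil, mul_one]
      rcases ht with rfl | rfl
      · exact conj_of_check 6 0 [0] uu0_mem hn6_0
      · exact conj_of_check 6 7 [7] uu7_mem hn6_1
    · rw [← uu8_eq]
      rcases ht with rfl | rfl
      · exact conj_of_check 8 0 [0] uu0_mem hn8_0
      · exact conj_of_check 8 7 [0, 7] uu07_mem hn8_1
    · rw [← uu9_eq]
      rcases ht with rfl | rfl
      · exact conj_of_check 9 0 [7] uu7_mem hn9_0
      · exact conj_of_check 9 7 [0, 7] uu07_mem hn9_1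
  · rintro _ ⟨w, hw, rfl⟩ t ht
    simp only [sw, List.mem_cons, List.not_mem_nil, or_false] at hw
    rcases hw with rfl | rfl | rfl | rfl | rfl | rfl
    · rw [← wprod_uu_eq _ (by decide), wprod_cons, wprod_nil, mul_one]
      rcases ht with rfl | rfl
      · exact conj_of_check' 2 0 [0] uu0_mem hni2_0
      · exact conj_of_check' 2 7 [7] uu7_mem hni2_1
    · rw [← wprod_uu_eq _ (by decide), wprod_cons, wprod_nil, mul_one]
      rcases ht with rfl | rfl
      · exact conj_of_check' 3 0 [0] uu0_mem hni3_0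
      · exact conj_of_check' 3 7 [7] uu7_mem hni3_1
    · rw [← wprod_uu_eq _ (by decide), wprod_cons, wprod_nil, mul_one]
      rcases ht with rfl | rfl
      · exact conj_of_check' 5 0 [0] uu0_mem hni5_0
      · exact conj_of_check' 5 7 [7] uu7_mem hni5_1
    · rw [← wprod_uu_eq _ (by decide), wprod_cons, wprod_nil, mul_one]
      rcases ht with rfl | rfl
      · exact conj_of_check' 6 0 [0] uu0_mem hni6_0
      · exact conj_of_check' 6 7 [7] uu7_mem hni6_1
    · rw [← uu8_eq]
      rcases ht with rfl | rfl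
      · exact conj_of_check' 8 0 [0] uu0_mem hni8_0
      · exact conj_of_check' 8 7 [0, 7] uu07_mem hni8_1
    · rw [← uu9_eq]
      rcases ht with rfl | rfl
      · exact conj_of_check' 9 0 [0, 7] uu07_mem hni9_0
      · exact conj_of_check' 9 7 [0] uu0_mem hni9_1

theorem rho_v : ∀ x < 7, ∀ i : Fin cN, ((rho (v x) i : Fin cN) : ℕ) = TT x i := rho_gen

/-- the lower ends of the orbits -/
def lo : Fin 7 → ℕ := ![0, 1, 721, 2065, 6545, 6650, 7490]

/-- the upper ends of the orbits -/
def hi : Fin 7 → ℕ := ![1, 721, 2065, 6545, 6650, 7490, 8330]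

/-- the orbit of a point -/
def cls (i : Fin cN) : Fin 7 :=
  if i.val < 1 then 0 else if i.val < 721 then 1 else if i.val < 2065 then 2
  else if i.val < 6545 then 3 else if i.val < 6650 then 4 else if i.val < 7490 then 5 else 6

theorem cls_spec : ∀ (i : Fin cN) (k : Fin 7), cls i = k ↔ lo k ≤ i.val ∧ i.val < hi k := by
  intro i k
  have hi' : i.val < 8330 := i.isLt
  unfold cls
  fin_cases k <;> simp only [lo, hi] <;> split_ifs <;> simp <;> omega

set_option maxRecDepth 100000 in
theorem harith0 : ∀ I : Finset (Fin 7), 0 ∈ I → (∀ k ∈ I, hi k - lo k ≠ 0) →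
    (∑ k ∈ I, (hi k - lo k)) ∣ cN →
    I = {0} ∨ (∀ k, hi k - lo k ≠ 0 → k ∈ I) ∨ I = {0, 1, 4, 5} ∨ I = {0, 1, 4, 6} := by
  decide +kernel

theorem tt_1_0 : TT 1 0 = 1 := by decide +kernel

theorem tt_1_3 : TT 1 3 = 721 := by decide +kernel

theorem isCoatom_H : IsCoatom Hs := by
  obtain ⟨Φ, hΦ⟩ := rho_equiv
  have horb1 := Fn.orbit_image Hs v rho rho_v hH Φ hN0 hΦ hsub (lo := 1) (hi := 721)
    (by decide) (by decide) horbi0 horbc0
  have horb2 := Fn.orbit_image Hs v rho rho_v hH Φ hN0 hΦ hsub (lo := 721) (hi := 2065)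
    (by decide) (by decide) horbi1 horbc1
  have horb3 := Fn.orbit_image Hs v rho rho_v hH Φ hN0 hΦ hsub (lo := 2065) (hi := 6545)
    (by decide) (by decide) horbi2 horbc2
  have horb4 := Fn.orbit_image Hs v rho rho_v hH Φ hN0 hΦ hsub (lo := 6545) (hi := 6650)
    (by decide) (by decide) horbi3 horbc3
  have horb5 := Fn.orbit_image Hs v rho rho_v hH Φ hN0 hΦ hsub (lo := 6650) (hi := 7490)
    (by decide) (by decide) horbi4 horbc4
  have horb6 := Fn.orbit_image Hs v rho rho_v hH Φ hN0 hΦ hsub (lo := 7490) (hi := 8330)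
    (by decide) (by decide) horbi5 horbc5
  have hact : ∀ (γ : PresentedGroup R) (q : PresentedGroup R ⧸ Hs), Φ (γ • q) = rho γ (Φ q) := by
    intro γ q
    induction q using QuotientGroup.induction_on with
    | H δ =>
      have : γ • (δ : PresentedGroup R ⧸ Hs) = ((γ * δ : PresentedGroup R) : PresentedGroup R ⧸ Hs) := rfl
      rw [this, hΦ, hΦ, map_mul, Equiv.Perm.mul_apply]
  have hΦ1 : Φ ((1 : PresentedGroup R) : PresentedGroup R ⧸ Hs) = ⟨0, hN0⟩ := by
    rw [hΦ, map_one]
    rfl
  -- the images of the points `0` and `3` under the generator `b`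
  have hb0 : (Φ (v 1 • ((1 : PresentedGroup R) : PresentedGroup R ⧸ Hs))).val = 1 := by
    rw [hact, hΦ1, rho_v 1 (by decide)]
    exact tt_1_0
  have hb3 : (Φ (v 1 • Φ.symm ⟨3, by decide⟩)).val = 721 := by
    rw [hact, Equiv.apply_symm_apply, rho_v 1 (by decide)]
    exact tt_1_3
  have hcls1 : ∀ i : Fin cN, i.val = 1 → cls i = 1 := by
    intro i hi1
    rw [cls_spec]
    simp only [lo, hi]
    simp
    omega
  have hcls3 : ∀ i : Fin cN, i.val = 3 → cls i = 1 := by
    intro i hi1
    rw [cls_spec]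
    simp only [lo, hi]
    simp
    omega
  have hcls721 : ∀ i : Fin cN, i.val = 721 → cls i = 2 := by
    intro i hi1
    rw [cls_spec]
    simp only [lo, hi]
    simp
    omega
  refine isCoatom_of_orbit_classes_closed Hs Φ cls lo hi cls_spec ?_ rfl rfl ?_ ?_ (by decide) ?_
  · intro k
    fin_cases k <;> decide
  · rw [hΦ1]
  · intro k hk0 hk
    fin_cases k
    · exact absurd rfl hk0
    · exact horb1
    · exact horb2
    · exact horb3
    · exact horb4
    · exact horb5
    · exact horb6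
  · intro I h0 hnz hdvd hcl
    have hwit := hcl (v 1) (Φ.symm ⟨3, by decide⟩)
    rw [hcls1 _ hb0, Equiv.apply_symm_apply, hcls3 _ rfl, hcls721 _ hb3] at hwit
    rcases harith0 I h0 hnz hdvd with h | h | h | h
    · exact Or.inl h
    · exact Or.inr h
    · exfalso
      rw [h] at hwit
      exact absurd (hwit (by decide) (by decide)) (by decide)
    · exfalso
      rw [h] at hwit
      exact absurd (hwit (by decide) (by decide)) (by decide)

theorem core_eq_bot : ∀ N : Subgroup (PresentedGroup R), N.Normal → N ≤ Hs → N = ⊥ := by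
  intro N hN hle
  obtain ⟨Φ, hΦ⟩ := rho_equiv
  rw [eq_bot_iff]
  intro n hn
  rw [Subgroup.mem_bot]
  apply HeOrder.rho_injective
  rw [map_one]
  ext i
  obtain ⟨q, rfl⟩ := Φ.surjective i
  induction q using QuotientGroup.induction_on with
  | H γ =>
    have h1 : ((n * γ : PresentedGroup R) : PresentedGroup R ⧸ Hs) = (γ : PresentedGroup R ⧸ Hs) := by
      rw [QuotientGroup.eq]
      have : (n * γ)⁻¹ * γ = γ⁻¹ * n⁻¹ * γ⁻¹⁻¹ := by group
      rw [this]
      exact hle (hN.conj_mem _ (N.inv_mem hn) _)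
    have h2 := congrArg Φ h1
    rw [hΦ, hΦ, map_mul, Equiv.Perm.mul_apply] at h2
    rw [hΦ, h2]
    rfl

theorem card_gt_one : 1 < Nat.card (PresentedGroup R) := by
  rw [HeOrder.card_eq]; decide

/-- the presented group is simple -/
theorem isSimpleGroup : IsSimpleGroup (PresentedGroup R) := by
  have : Finite (PresentedGroup R) := HeOrder.finite
  have : Nontrivial (PresentedGroup R) := Finite.one_lt_card_iff_nontrivial.mp card_gt_one
  exact isSimpleGroup_of_normal_abelian Hs isCoatom_H core_eq_bot A isMulCommutative_A normalises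
    normalClosure_eq_top commutator_eq_top

end Cfsg.Agent.Lib.Helper12.Ord.HeSimple
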