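import Cfsg.Agent.Lib.Helper12.Maximal

/-!
Lower bounds for the order of a finite group from a chain of point stabilisers (helper12).
-/

set_option autoImplicit false

namespace Cfsg.Agent.Lib.Helper12.Ord

open MulAction

variable {G X : Type*} [Group G] [MulAction G X]

/-- orbit-stabiliser for a subgroup -/
theorem card_eq_orbit_mul (K : Subgroup G) [Finite K] (b : X) :
    Nat.card K = (orbit K b).ncard * Nat.card ↥(K ⊓ stabilizer G b) := by
  rw [ncard_orbit_subgroup K b]
  have h1 := Subgroup.relIndex_mul_relIndex (⊥ : Subgroup G) (K ⊓ stabilizer G b) K bot_le inf_le_left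
  rw [Subgroup.relIndex_bot_left, Subgroup.relIndex_bot_left, Subgroup.inf_relIndex_left] at h1
  rw [← h1, mul_comm]

/-- the end of the chain of stabilisers of the points of the list, starting with `K` -/
def chainEnd (K : Subgroup G) : List (X × ℕ) → Subgroup G
  | [] => K
  | (b, _) :: l => chainEnd (K ⊓ stabilizer G b) l

/-- the numbers of the list are lower bounds for the lengths of the basic orbits -/
def ChainOK (K : Subgroup G) : List (X × ℕ) → Prop
  | [] => True
  | (b, m) :: l => m ≤ (orbit K b).ncard ∧ ChainOK (K ⊓ stabilizer G b) l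

theorem chainEnd_le (K : Subgroup G) (l : List (X × ℕ)) : chainEnd K l ≤ K := by
  induction l generalizing K with
  | nil => exact le_refl K
  | cons p l ih =>
    obtain ⟨b, m⟩ := p
    exact le_trans (ih _) inf_le_left

theorem chain_bound [Finite G] (l : List (X × ℕ)) (K : Subgroup G) (h : ChainOK K l) :
    (l.map Prod.snd).prod * Nat.card ↥(chainEnd K l) ≤ Nat.card K := by
  induction l generalizing K with
  | nil => simp [chainEnd]
  | cons p l ih =>
    obtain ⟨b, m⟩ := p
    obtain ⟨h1, h2⟩ := h
    have h3 := ih _ h2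
    rw [card_eq_orbit_mul K b]
    simp only [List.map_cons, List.prod_cons, chainEnd]
    calc m * (List.map Prod.snd l).prod * Nat.card ↥(chainEnd (K ⊓ stabilizer G b) l)
        = m * ((List.map Prod.snd l).prod * Nat.card ↥(chainEnd (K ⊓ stabilizer G b) l)) := by ring
      _ ≤ (orbit K b).ncard * Nat.card ↥(K ⊓ stabilizer G b) := Nat.mul_le_mul h1 h3

/-- elements fixing all points lie in the end of the chain -/
theorem mem_chainEnd (K : Subgroup G) (l : List (X × ℕ)) (γ : G) (hK : γ ∈ K)
    (hfix : ∀ x : X, γ • x = x) : γ ∈ chainEnd K l := by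
  induction l generalizing K with
  | nil => exact hK
  | cons p l ih =>
    obtain ⟨b, m⟩ := p
    exact ih _ ⟨hK, hfix b⟩

/-- the lower bound for the order, and faithfulness if the bound is attained -/
theorem chain_top [Finite G] (l : List (X × ℕ)) (h : ChainOK (⊤ : Subgroup G) l) :
    (l.map Prod.snd).prod ≤ Nat.card G ∧
    (Nat.card G ≤ (l.map Prod.snd).prod → ∀ γ : G, (∀ x : X, γ • x = x) → γ = 1) := by
  have h1 := chain_bound l ⊤ h
  rw [Subgroup.card_top] at h1
  have hpos : 0 < Nat.card ↥(chainEnd (⊤ : Subgroup G) l) := Nat.card_pos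
  constructor
  · calc (l.map Prod.snd).prod = (l.map Prod.snd).prod * 1 := (mul_one _).symm
      _ ≤ (l.map Prod.snd).prod * Nat.card ↥(chainEnd (⊤ : Subgroup G) l) :=
          Nat.mul_le_mul_left _ hpos
      _ ≤ Nat.card G := h1
  · intro h2 γ hγ
    have hGpos : 0 < Nat.card G := Nat.card_pos
    have hprodpos : 0 < (l.map Prod.snd).prod := by
      by_contra h0
      have : (l.map Prod.snd).prod = 0 := by omega
      omega
    have h3 : Nat.card ↥(chainEnd (⊤ : Subgroup G) l) ≤ 1 := by
      by_contra h4
      have h5 : 2 ≤ Nat.card ↥(chainEnd (⊤ : Subgroup G) l) := by omega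
      have : (l.map Prod.snd).prod * 2 ≤ Nat.card G :=
        le_trans (Nat.mul_le_mul_left _ h5) h1
      omega
    have h4 : chainEnd (⊤ : Subgroup G) l = ⊥ := by
      rw [← Subgroup.card_le_one_iff_eq_bot]
      exact h3
    have h5 := mem_chainEnd ⊤ l γ (Subgroup.mem_top γ) hγ
    rw [h4] at h5
    exact h5

end Cfsg.Agent.Lib.Helper12.Ord
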