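import Cfsg.Agent.Lib.Helper12.TC.ONP2x144.Link
import Cfsg.Agent.Lib.Helper12.TC.ONP1x26068.Link
import Cfsg.Agent.Lib.Helper12.TCG.ONx122760.Low

/-!
The order of the presented O'Nan group, the order of its subgroup generated by `a`, ..., `f`, and the
faithfulness of the permutation representation on the cosets of that subgroup (helper12).
-/

set_option autoImplicit false

namespace Cfsg.Agent.Lib.Helper12.Ord.ONOrder

open Cfsg.Spor Cfsg.Agent.Lib.Helper12.TC Cfsg.Agent.Lib.Helper12.TCG Cfsg.Agent.Lib.Helper12.TCG.ONPres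
  Cfsg.Agent.Lib.Helper12.TCG.ONx122760 Cfsg.Agent.Lib.Helper12.Ord

theorem S_eq : ({ON.a, ON.b, ON.c, ON.d, ON.e, ON.f} : Set (FreeGroup ON.Gen)) = ONP1.Sι := by
  ext x
  constructor
  · rintro (rfl | rfl | rfl | rfl | rfl | rfl)
    · exact ⟨.a, rfl⟩
    · exact ⟨.b, rfl⟩
    · exact ⟨.c, rfl⟩
    · exact ⟨.d, rfl⟩
    · exact ⟨.e, rfl⟩
    · exact ⟨.f, rfl⟩
  · rintro ⟨y, rfl⟩
    cases y
    · exact Or.inl rfl
    · exact Or.inr (Or.inl rfl)
    · exact Or.inr (Or.inr (Or.inl rfl))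
    · exact Or.inr (Or.inr (Or.inr (Or.inl rfl)))
    · exact Or.inr (Or.inr (Or.inr (Or.inr (Or.inl rfl))))
    · exact Or.inr (Or.inr (Or.inr (Or.inr (Or.inr rfl))))

theorem finite_card_P1 : Finite ONP1.Grp ∧ Nat.card ONP1.Grp ≤ 3753792 := by
  obtain ⟨f0, c0⟩ := ONP2x144.card_eq
  exact ONP1x26068.card_le f0 _ (le_of_eq c0)

theorem finite_card_Hs : Finite ↥Hs ∧ Nat.card ↥Hs ≤ 3753792 := by
  obtain ⟨f1, c1⟩ := finite_card_P1
  obtain ⟨h1, h2⟩ := ONP1.card_le f1
  rw [← S_eq] at h1 h2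
  exact ⟨h1, h2.trans c1⟩

instance finite_Hs : Finite ↥Hs := finite_card_Hs.1

theorem finite_card_le : Finite ON ∧ Nat.card ON ≤ 460815505920 :=
  card_le_of_index Hs 122760 3753792 (by decide) rho_index finite_card_Hs.1 finite_card_Hs.2

instance finite : Finite ON := finite_card_le.1

theorem card_eq : Nat.card ON = 460815505920 :=
  le_antisymm finite_card_le.2 lower.1

theorem rho_injective : Function.Injective rho :=
  lower.2 finite_card_le.2

theorem card_Hs : Nat.card ↥Hs = 3753792 := by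
  have h1 := Hs.index_mul_card
  rw [rho_index, card_eq] at h1
  have h2 : (122760 : ℕ) * Nat.card ↥Hs = 122760 * 3753792 := by
    rw [show cN = 122760 from rfl] at h1
    rw [h1]
  exact Nat.eq_of_mul_eq_mul_left (by decide) h2

end Cfsg.Agent.Lib.Helper12.Ord.ONOrder
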