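import Cfsg.Agent.Lib.Helper12.Ord.Perfect
import Cfsg.Prelude.Def_SporadicB

/-!
A subgroup generated by elements satisfying the relators of a simple presented group up to elements
of its centre, of twice the order of that group and perfect, is a double cover of it that is not split
(helper12).
-/

set_option autoImplicit false

namespace Cfsg.Agent.Lib.Helper12.Ord

/-- the generators of a subgroup generated by a family, as elements of the subgroup -/
def genSub {G α : Type*} [Group G] (H : Subgroup G) (q : α → G) (hq : ∀ x, q x ∈ H) (x : α) : ↥H :=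
  ⟨q x, hq x⟩

theorem coe_lift_genSub {G α : Type*} [Group G] (H : Subgroup G) (q : α → G) (hq : ∀ x, q x ∈ H)
    (w : FreeGroup α) : ((FreeGroup.lift (genSub H q hq) w : ↥H) : G) = FreeGroup.lift q w := by
  have : H.subtype.comp (FreeGroup.lift (genSub H q hq)) = FreeGroup.lift q := by
    ext x
    simp [genSub]
  exact DFunLike.congr_fun this w

theorem lift_genSub_surjective {G α : Type*} [Group G] (H : Subgroup G) (q : α → G)
    (hq : ∀ x, q x ∈ H) (hH : H = Subgroup.closure (Set.range q)) :
    Function.Surjective (FreeGroup.lift (genSub H q hq)) := by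
  rintro ⟨h, hh⟩
  have h1 : h ∈ (FreeGroup.lift q).range := by
    rw [FreeGroup.range_lift_eq_closure, ← hH]; exact hh
  obtain ⟨w, hw⟩ := h1
  refine ⟨w, Subtype.ext ?_⟩
  rw [coe_lift_genSub]
  exact hw

theorem closure_range_genSub {G α : Type*} [Group G] (H : Subgroup G) (q : α → G)
    (hq : ∀ x, q x ∈ H) (hH : H = Subgroup.closure (Set.range q)) :
    Subgroup.closure (Set.range (genSub H q hq)) = ⊤ := by
  rw [← FreeGroup.range_lift_eq_closure, MonoidHom.range_eq_top]
  exact lift_genSub_surjective H q hq hH

/-- the double cover -/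
theorem isNonsplitDoubleCover_of_presented {G α : Type} [Group G] (H : Subgroup G)
    [Finite H] (rels : Set (FreeGroup α)) (hsimple : IsSimpleGroup (PresentedGroup rels))
    (q : α → G) (hH : H = Subgroup.closure (Set.range q))
    (hrel : ∀ r ∈ rels, ∀ h ∈ H, h * FreeGroup.lift q r = FreeGroup.lift q r * h)
    (hnc : ∃ x y, q x * q y ≠ q y * q x)
    (hcard : Nat.card H = 2 * Nat.card (PresentedGroup rels))
    (hperf : commutator ↥H = ⊤) :
    Cfsg.IsNonsplitDoubleCover ↥H (PresentedGroup rels) := by
  have hq : ∀ x, q x ∈ H := fun x => by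
    rw [hH]; exact Subgroup.subset_closure ⟨x, rfl⟩
  set Z := Subgroup.center ↥H with hZ
  set θ := FreeGroup.lift (genSub H q hq) with hθ
  have hθsurj : Function.Surjective θ := lift_genSub_surjective H q hq hH
  -- the relators go to the centre
  have hcen : ∀ r ∈ rels, θ r ∈ Z := by
    intro r hr
    rw [hZ, Subgroup.mem_center_iff]
    rintro ⟨h, hh⟩
    apply Subtype.ext
    show h * ((θ r : ↥H) : G) = ((θ r : ↥H) : G) * h
    rw [hθ, coe_lift_genSub]
    exact hrel r hr h hh
  let f : α → ↥H ⧸ Z := fun x => ((genSub H q hq x : ↥H) : ↥H ⧸ Z)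
  have hlift : FreeGroup.lift f = (QuotientGroup.mk' Z).comp θ := by
    ext x
    simp [f, hθ]
  have hf : ∀ r ∈ rels, FreeGroup.lift f r = 1 := by
    intro r hr
    rw [hlift, MonoidHom.comp_apply, QuotientGroup.mk'_apply, QuotientGroup.eq_one_iff]
    exact hcen r hr
  let ψ : PresentedGroup rels →* ↥H ⧸ Z := PresentedGroup.toGroup hf
  have hψmk : ∀ w : FreeGroup α, ψ (PresentedGroup.mk rels w) = ((θ w : ↥H) : ↥H ⧸ Z) := by
    intro w
    show PresentedGroup.toGroup hf (PresentedGroup.mk rels w) = _
    have : (PresentedGroup.toGroup hf).comp (PresentedGroup.mk rels) = FreeGroup.lift f := by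
      ext x
      rw [MonoidHom.comp_apply, FreeGroup.lift_apply_of]
      exact PresentedGroup.toGroup.of hf
    have h2 := DFunLike.congr_fun this w
    rw [MonoidHom.comp_apply] at h2
    rw [h2, hlift]
    rfl
  have hψsurj : Function.Surjective ψ := by
    intro y
    induction y using QuotientGroup.induction_on with
    | H h =>
      obtain ⟨w, rfl⟩ := hθsurj h
      exact ⟨PresentedGroup.mk rels w, hψmk w⟩
  have hψinj : Function.Injective ψ := by
    rw [← MonoidHom.ker_eq_bot_iff]
    rcases hsimple.eq_bot_or_eq_top_of_normal ψ.ker inferInstance with h | h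
    · exact h
    · exfalso
      -- then the quotient is trivial and `H` is commutative
      obtain ⟨x, y, hxy⟩ := hnc
      apply hxy
      have hall : ∀ h : ↥H, h ∈ Z := by
        intro h'
        obtain ⟨g, hg⟩ := hψsurj (h' : ↥H ⧸ Z)
        have : g ∈ ψ.ker := by rw [h]; trivial
        rw [MonoidHom.mem_ker, hg, QuotientGroup.eq_one_iff] at this
        exact this
      have h1 := hall (genSub H q hq x)
      rw [hZ, Subgroup.mem_center_iff] at h1
      have h2 := h1 (genSub H q hq y)
      have h3 := congrArg (fun z : ↥H => (z : G)) h2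
      exact h3.symm
  have e : PresentedGroup rels ≃* ↥H ⧸ Z := MulEquiv.ofBijective ψ ⟨hψinj, hψsurj⟩
  have hcardq : Nat.card (↥H ⧸ Z) = Nat.card (PresentedGroup rels) :=
    (Nat.card_congr e.toEquiv).symm
  have hpos : 0 < Nat.card (PresentedGroup rels) := by
    have h1 : 0 < Nat.card ↥H := Nat.card_pos
    rw [hcard] at h1
    by_contra h0
    have : Nat.card (PresentedGroup rels) = 0 := by omega
    rw [this] at h1
    exact absurd h1 (by decide)
  have hZcard : Nat.card Z = 2 := by
    have h1 := Subgroup.card_eq_card_quotient_mul_card_subgroup Z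
    rw [hcardq, hcard] at h1
    have h2 : Nat.card (PresentedGroup rels) * 2 = Nat.card (PresentedGroup rels) * Nat.card Z := by
      rw [← h1]; ring
    exact (Nat.eq_of_mul_eq_mul_left hpos h2).symm
  refine ⟨hZcard, ⟨e.symm⟩, ?_⟩
  intro L hL
  have h1 := hL.index_eq_card
  rw [hZcard] at h1
  exact index_ne_two_of_perfect hperf L h1

end Cfsg.Agent.Lib.Helper12.Ord
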