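import Cfsg.Agent.Lib.Helper12.Ord.Cover

/-!
Double covers that are not split, along isomorphisms, and centralisers of conjugate elements (helper12).
-/

set_option autoImplicit false

namespace Cfsg.Agent.Lib.Helper12.Ord

theorem map_center_of_mulEquiv {H H' : Type*} [Group H] [Group H'] (e : H ≃* H') :
    (Subgroup.center H).map e.toMonoidHom = Subgroup.center H' := by
  ext z
  constructor
  · rintro ⟨y, hy, rfl⟩
    rw [Subgroup.mem_center_iff]
    intro g
    obtain ⟨g', rfl⟩ := e.surjective g
    have := (Subgroup.mem_center_iff.mp hy) g'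
    show e g' * e y = e y * e g'
    rw [← map_mul, ← map_mul, this]
  · intro hz
    refine ⟨e.symm z, ?_, by simp⟩
    rw [SetLike.mem_coe, Subgroup.mem_center_iff]
    intro g
    have := (Subgroup.mem_center_iff.mp hz) (e g)
    apply e.injective
    rw [map_mul, map_mul, MulEquiv.apply_symm_apply]
    exact this

/-- a double cover that is not split, along an isomorphism -/
theorem isNonsplitDoubleCover_of_mulEquiv {H H' K : Type*} [Group H] [Group H'] [Group K] [Finite H]
    (e : H ≃* H') (h : Cfsg.IsNonsplitDoubleCover H K) : Cfsg.IsNonsplitDoubleCover H' K := by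
  obtain ⟨h1, ⟨φ⟩, h3⟩ := h
  have hfin' : Finite H' := Finite.of_equiv H e.toEquiv
  have hmap : (Subgroup.center H).map e.toMonoidHom = Subgroup.center H' := map_center_of_mulEquiv e
  refine ⟨?_, ?_, ?_⟩
  · rw [← h1]
    exact (Nat.card_congr (Subgroup.centerCongr e).toEquiv).symm
  · exact ⟨(QuotientGroup.congr (Subgroup.center H) (Subgroup.center H') e hmap).symm.trans φ⟩
  · intro L' hL'
    apply h3 (L'.comap e.toMonoidHom)
    rw [Subgroup.isComplement'_iff_card_mul_and_disjoint] at hL' ⊢
    obtain ⟨hc, hd⟩ := hL'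
    have hcardL : Nat.card ↥(L'.comap e.toMonoidHom) = Nat.card ↥L' := by
      apply Nat.card_congr
      exact
        { toFun := fun x => ⟨e x.1, x.2⟩
          invFun := fun y => ⟨e.symm y.1, by
            show e (e.symm y.1) ∈ L'
            rw [MulEquiv.apply_symm_apply]; exact y.2⟩
          left_inv := fun x => Subtype.ext (e.symm_apply_apply x.1)
          right_inv := fun y => Subtype.ext (e.apply_symm_apply y.1) }
    constructor
    · rw [hcardL, Nat.card_congr (Subgroup.centerCongr e).toEquiv, hc, Nat.card_congr e.toEquiv]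
    · rw [Subgroup.disjoint_def] at hd ⊢
      intro x hx1 hx2
      have : e x = 1 := by
        apply hd
        · rw [← hmap]; exact ⟨x, hx1, rfl⟩
        · exact hx2
      exact e.injective (this.trans (map_one e).symm)

/-- the centraliser of a conjugate -/
theorem centralizer_conj_eq_map {G : Type*} [Group G] (t x : G) :
    Subgroup.centralizer {x * t * x⁻¹} =
      (Subgroup.centralizer {t}).map (MulAut.conj x).toMonoidHom := by
  ext g
  rw [Subgroup.mem_centralizer_singleton_iff]
  constructor
  · intro hg
    refine ⟨x⁻¹ * g * x, ?_, ?_⟩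
    · rw [SetLike.mem_coe, Subgroup.mem_centralizer_singleton_iff]
      have h1 : x⁻¹ * g * x * t = x⁻¹ * (g * (x * t * x⁻¹)) * x := by group
      have h2 : t * (x⁻¹ * g * x) = x⁻¹ * (x * t * x⁻¹ * g) * x := by group
      rw [h1, h2, hg]
    · show x * (x⁻¹ * g * x) * x⁻¹ = g
      group
  · rintro ⟨y, hy, rfl⟩
    rw [SetLike.mem_coe, Subgroup.mem_centralizer_singleton_iff] at hy
    show x * y * x⁻¹ * (x * t * x⁻¹) = x * t * x⁻¹ * (x * y * x⁻¹)
    have h1 : x * y * x⁻¹ * (x * t * x⁻¹) = x * (y * t) * x⁻¹ := by group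
    have h2 : x * t * x⁻¹ * (x * y * x⁻¹) = x * (t * y) * x⁻¹ := by group
    rw [h1, h2, hy]

/-- the centralisers of conjugate elements are isomorphic -/
noncomputable def centralizerConjEquiv {G : Type*} [Group G] (t x : G) :
    ↥(Subgroup.centralizer {t}) ≃* ↥(Subgroup.centralizer {x * t * x⁻¹}) :=
  ((MulAut.conj x).subgroupMap (Subgroup.centralizer {t})).trans
    (MulEquiv.subgroupCongr (centralizer_conj_eq_map t x).symm)

end Cfsg.Agent.Lib.Helper12.Ord
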