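import Cfsg.Agent.Lib.Helper12.Ord.SubPres2
import Cfsg.Agent.Lib.Helper12.Ord.Fi24P10

/-!
The presentation Fi24P9 on a part of the generators of Fi24P10 (generated, helper12).
-/

set_option autoImplicit false

namespace Cfsg.Agent.Lib.Helper12.Ord.Fi24P9

open Cfsg.Spor

/-- the generators -/
inductive Gen
  | l
  | k
  | a
  | b
  | c
  | d
  | e
  | f
  | h
  deriving DecidableEq

/-- a generator as a word -/ abbrev l : FreeGroup Gen := FreeGroup.of Gen.l
/-- a generator as a word -/ abbrev k : FreeGroup Gen := FreeGroup.of Gen.k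
/-- a generator as a word -/ abbrev a : FreeGroup Gen := FreeGroup.of Gen.a
/-- a generator as a word -/ abbrev b : FreeGroup Gen := FreeGroup.of Gen.b
/-- a generator as a word -/ abbrev c : FreeGroup Gen := FreeGroup.of Gen.c
/-- a generator as a word -/ abbrev d : FreeGroup Gen := FreeGroup.of Gen.d
/-- a generator as a word -/ abbrev e : FreeGroup Gen := FreeGroup.of Gen.e
/-- a generator as a word -/ abbrev f : FreeGroup Gen := FreeGroup.of Gen.f
/-- a generator as a word -/ abbrev h : FreeGroup Gen := FreeGroup.of Gen.h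

/-- the graph -/
def edges : List (Gen × ℕ × Gen) :=
  [(.l, 3, .k), (.k, 3, .a), (.a, 3, .b), (.b, 3, .c), (.c, 3, .d), (.d, 3, .e), (.d, 3, .h), (.e, 3, .f)]

/-- the further relators -/
def extra : List (FreeGroup Gen) := [l * ((a * b * c * d * e * f * h) ^ 9)⁻¹]

/-- the generators as generators of the larger presentation -/
def ι : Gen → Cfsg.Agent.Lib.Helper12.Ord.Fi24P10.Gen
  | .l => .l
  | .k => .k
  | .a => .a
  | .b => .b
  | .c => .c
  | .d => .d
  | .e => .e
  | .f => .f
  | .h => .h

theorem sub_nodes : ∀ x ∈ coxNodes edges, ι x ∈ coxNodes Cfsg.Agent.Lib.Helper12.Ord.Fi24P10.edges := by decide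

theorem sub_lab : ∀ x ∈ coxNodes edges, ∀ y ∈ coxNodes edges,
    coxLabel Cfsg.Agent.Lib.Helper12.Ord.Fi24P10.edges (ι x) (ι y) = coxLabel edges x y := by decide

theorem sub_extra : ∀ r ∈ extra, FreeGroup.map ι r ∈ Cfsg.Agent.Lib.Helper12.Ord.Fi24P10.extra := by
  intro r hr
  have hr' : r = l * ((a * b * c * d * e * f * h) ^ 9)⁻¹ := by
    simpa only [extra, List.mem_cons, List.not_mem_nil, or_false] using hr
  rcases hr' with rfl
  · simp only [map_pow, map_mul, map_inv, FreeGroup.map.of]
    exact List.mem_cons_self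

/-- the presented group -/
abbrev Grp : Type := CoxPresented Gen edges extra

/-- the generators of the subgroup of the larger group -/
def Sι : Set (FreeGroup Cfsg.Agent.Lib.Helper12.Ord.Fi24P10.Gen) :=
  Set.range fun y : Gen => (FreeGroup.of (ι y) : FreeGroup Cfsg.Agent.Lib.Helper12.Ord.Fi24P10.Gen)

/-- the subgroup of the larger group has at most the order of the presented group -/
theorem card_le (hfin : Finite Grp) :
    Finite ↥((Subgroup.closure Sι).map
      (PresentedGroup.mk (coxRelators Cfsg.Agent.Lib.Helper12.Ord.Fi24P10.edges ∪ {r | r ∈ Cfsg.Agent.Lib.Helper12.Ord.Fi24P10.extra}))) ∧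
    Nat.card ↥((Subgroup.closure Sι).map
      (PresentedGroup.mk (coxRelators Cfsg.Agent.Lib.Helper12.Ord.Fi24P10.edges ∪ {r | r ∈ Cfsg.Agent.Lib.Helper12.Ord.Fi24P10.extra}))) ≤ Nat.card Grp :=
  subpres_card_le Cfsg.Agent.Lib.Helper12.Ord.Fi24P10.edges Cfsg.Agent.Lib.Helper12.Ord.Fi24P10.extra edges extra ι sub_nodes sub_lab sub_extra hfin

end Cfsg.Agent.Lib.Helper12.Ord.Fi24P9
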