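import Cfsg.Agent.Lib.Helper12.Ord.CoxE6
import Cfsg.Agent.Lib.Helper12.Ord.CoxE7

/-!
The presentation CoxE6 on a part of the generators of CoxE7 (generated, helper12).
-/

set_option autoImplicit false

namespace Cfsg.Agent.Lib.Helper12.Ord.CoxE6inCoxE7

open Cfsg.Spor

/-- the generators as generators of the larger presentation -/
def ι : Cfsg.Agent.Lib.Helper12.Ord.CoxE6.Gen → Cfsg.Agent.Lib.Helper12.Ord.CoxE7.Gen
  | .b => .b
  | .c => .c
  | .d => .d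
  | .e => .e
  | .f => .f
  | .h => .h

theorem sub_nodes : ∀ x ∈ coxNodes Cfsg.Agent.Lib.Helper12.Ord.CoxE6.edges, ι x ∈ coxNodes Cfsg.Agent.Lib.Helper12.Ord.CoxE7.edges := by decide

theorem sub_lab : ∀ x ∈ coxNodes Cfsg.Agent.Lib.Helper12.Ord.CoxE6.edges, ∀ y ∈ coxNodes Cfsg.Agent.Lib.Helper12.Ord.CoxE6.edges,
    coxLabel Cfsg.Agent.Lib.Helper12.Ord.CoxE7.edges (ι x) (ι y) = coxLabel Cfsg.Agent.Lib.Helper12.Ord.CoxE6.edges x y := by decide

theorem sub_extra : ∀ r ∈ Cfsg.Agent.Lib.Helper12.Ord.CoxE6.extra, FreeGroup.map ι r ∈ Cfsg.Agent.Lib.Helper12.Ord.CoxE7.extra := by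
  intro r hr
  exact absurd hr List.not_mem_nil

/-- the generators of the subgroup of the larger group -/
def Sι : Set (FreeGroup Cfsg.Agent.Lib.Helper12.Ord.CoxE7.Gen) :=
  Set.range fun y : Cfsg.Agent.Lib.Helper12.Ord.CoxE6.Gen => (FreeGroup.of (ι y) : FreeGroup Cfsg.Agent.Lib.Helper12.Ord.CoxE7.Gen)

/-- the subgroup of the larger group has at most the order of the presented group -/
theorem card_le (hfin : Finite Cfsg.Agent.Lib.Helper12.Ord.CoxE6.Grp) :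
    Finite ↥((Subgroup.closure Sι).map
      (PresentedGroup.mk (coxRelators Cfsg.Agent.Lib.Helper12.Ord.CoxE7.edges ∪ {r | r ∈ Cfsg.Agent.Lib.Helper12.Ord.CoxE7.extra}))) ∧
    Nat.card ↥((Subgroup.closure Sι).map
      (PresentedGroup.mk (coxRelators Cfsg.Agent.Lib.Helper12.Ord.CoxE7.edges ∪ {r | r ∈ Cfsg.Agent.Lib.Helper12.Ord.CoxE7.extra}))) ≤ Nat.card Cfsg.Agent.Lib.Helper12.Ord.CoxE6.Grp :=
  subpres_card_le Cfsg.Agent.Lib.Helper12.Ord.CoxE7.edges Cfsg.Agent.Lib.Helper12.Ord.CoxE7.extra Cfsg.Agent.Lib.Helper12.Ord.CoxE6.edges Cfsg.Agent.Lib.Helper12.Ord.CoxE6.extra ι sub_nodes sub_lab sub_extra hfin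

end Cfsg.Agent.Lib.Helper12.Ord.CoxE6inCoxE7
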