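import Cfsg.Agent.Lib.Helper12.TC.Fi22x14080.Link
import Cfsg.Agent.Lib.Helper12.TC.Fi22P1x364.Link
import Cfsg.Agent.Lib.Helper12.TC.Fi22P2x243.Link
import Cfsg.Agent.Lib.Helper12.TC.CoxE6x51840.Link
import Cfsg.Agent.Lib.Helper12.TC.Fi22o3510.Low

/-!
The order of the presented group Fi22, and the faithfulness of its permutation representation on 3510
points (helper12).
-/

set_option autoImplicit false

namespace Cfsg.Agent.Lib.Helper12.Ord.Fi22Order

open Cfsg.Agent.Lib.Helper12.TC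

theorem finite_card_le : Finite Cfsg.Spor.Fi22 ∧ Nat.card Cfsg.Spor.Fi22 ≤ 64561751654400 := by
  obtain ⟨f3, c3⟩ := CoxE6x51840.card_eq
  obtain ⟨f2, c2⟩ := Fi22P2x243.card_le f3 51840 (le_of_eq c3)
  obtain ⟨f1, c1⟩ := Fi22P1x364.card_le f2 _ c2
  obtain ⟨f0, c0⟩ := Fi22x14080.card_le f1 _ c1
  exact ⟨f0, c0⟩

theorem finite : Finite Cfsg.Spor.Fi22 := finite_card_le.1

theorem card_eq : Nat.card Cfsg.Spor.Fi22 = 64561751654400 := by
  haveI := finite
  exact le_antisymm finite_card_le.2 Fi22o3510.lower.1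

theorem rho_injective : Function.Injective Fi22o3510.rho := by
  haveI := finite
  exact Fi22o3510.lower.2 finite_card_le.2

end Cfsg.Agent.Lib.Helper12.Ord.Fi22Order
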