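import Cfsg.Agent.Lib.Helper12.Ord.SubPres
import Cfsg.Prelude.Def_Spor_Fi23

/-!
The presentation Fi23P1 on a part of the generators of Fi23 (generated, helper12).
-/

set_option autoImplicit false

namespace Cfsg.Agent.Lib.Helper12.Ord.Fi23P1

open Cfsg.Spor

/-- the generators -/
inductive Gen
  | a
  | b
  | c
  | d
  | e
  | f
  | g
  | h
  | i
  deriving DecidableEq

/-- a generator as a word -/ abbrev a : FreeGroup Gen := FreeGroup.of Gen.a
/-- a generator as a word -/ abbrev b : FreeGroup Gen := FreeGroup.of Gen.b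
/-- a generator as a word -/ abbrev c : FreeGroup Gen := FreeGroup.of Gen.c
/-- a generator as a word -/ abbrev d : FreeGroup Gen := FreeGroup.of Gen.d
/-- a generator as a word -/ abbrev e : FreeGroup Gen := FreeGroup.of Gen.e
/-- a generator as a word -/ abbrev f : FreeGroup Gen := FreeGroup.of Gen.f
/-- a generator as a word -/ abbrev g : FreeGroup Gen := FreeGroup.of Gen.g
/-- a generator as a word -/ abbrev h : FreeGroup Gen := FreeGroup.of Gen.h
/-- a generator as a word -/ abbrev i : FreeGroup Gen := FreeGroup.of Gen.i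

/-- the graph -/
def edges : List (Gen × ℕ × Gen) :=
  [(.a, 3, .b), (.b, 3, .c), (.c, 3, .d), (.d, 3, .e), (.d, 3, .h), (.e, 3, .f), (.f, 3, .g), (.h, 3, .i)]

/-- the further relators -/
def extra : List (FreeGroup Gen) := [(d * c * b * d * e * f * d * h * i) ^ 10,
  (a * b * c * d * e * f * h) ^ 9]

/-- the generators as generators of the larger presentation -/
def ι : Gen → Cfsg.Spor.Fi23.Gen
  | .a => .a
  | .b => .b
  | .c => .c
  | .d => .d
  | .e => .e
  | .f => .f
  | .g => .g
  | .h => .h
  | .i => .i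

theorem sub_nodes : ∀ x ∈ coxNodes edges, ι x ∈ coxNodes Cfsg.Spor.Fi23.edges := by decide

theorem sub_lab : ∀ x ∈ coxNodes edges, ∀ y ∈ coxNodes edges,
    coxLabel Cfsg.Spor.Fi23.edges (ι x) (ι y) = coxLabel edges x y := by decide

theorem sub_extra : ∀ r ∈ extra, FreeGroup.map ι r ∈ Cfsg.Spor.Fi23.extra := by
  intro r hr
  have hr' : r = (d * c * b * d * e * f * d * h * i) ^ 10 ∨ r = (a * b * c * d * e * f * h) ^ 9 := by
    simpa only [extra, List.mem_cons, List.not_mem_nil, or_false] using hr
  rcases hr' with rfl | rfl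
  · rw [map_pow, map_mul]
    simp only [FreeGroup.map.of]
    exact List.mem_cons_self
  · rw [map_pow, map_mul]
    simp only [FreeGroup.map.of]
    exact List.mem_cons_of_mem _ (List.mem_cons_self)

/-- the presented group -/
abbrev Grp : Type := CoxPresented Gen edges extra

/-- the generators of the subgroup of the larger group -/
def Sι : Set (FreeGroup Cfsg.Spor.Fi23.Gen) :=
  Set.range fun y : Gen => (FreeGroup.of (ι y) : FreeGroup Cfsg.Spor.Fi23.Gen)

/-- the subgroup of the larger group has at most the order of the presented group -/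
theorem card_le (hfin : Finite Grp) :
    Finite ↥((Subgroup.closure Sι).map
      (PresentedGroup.mk (coxRelators Cfsg.Spor.Fi23.edges ∪ {r | r ∈ Cfsg.Spor.Fi23.extra}))) ∧
    Nat.card ↥((Subgroup.closure Sι).map
      (PresentedGroup.mk (coxRelators Cfsg.Spor.Fi23.edges ∪ {r | r ∈ Cfsg.Spor.Fi23.extra}))) ≤ Nat.card Grp :=
  subpres_card_le Cfsg.Spor.Fi23.edges Cfsg.Spor.Fi23.extra edges extra ι sub_nodes sub_lab sub_extra hfin

end Cfsg.Agent.Lib.Helper12.Ord.Fi23P1
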