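import Cfsg.Agent.Lib.Helper12.Ord.Fi22P2
import Cfsg.Agent.Lib.Helper12.Ord.Fi23P2

/-!
The presentation Fi22P2 on a part of the generators of Fi23P2 (generated, helper12).
-/

set_option autoImplicit false

namespace Cfsg.Agent.Lib.Helper12.Ord.Fi22P2inFi23P2

open Cfsg.Spor

/-- the generators as generators of the larger presentation -/
def ι : Cfsg.Agent.Lib.Helper12.Ord.Fi22P2.Gen → Cfsg.Agent.Lib.Helper12.Ord.Fi23P2.Gen
  | .b => .b
  | .c => .c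
  | .d => .d
  | .e => .e
  | .f => .f
  | .h => .h
  | .i => .i

theorem sub_nodes : ∀ x ∈ coxNodes Cfsg.Agent.Lib.Helper12.Ord.Fi22P2.edges, ι x ∈ coxNodes Cfsg.Agent.Lib.Helper12.Ord.Fi23P2.edges := by decide

theorem sub_lab : ∀ x ∈ coxNodes Cfsg.Agent.Lib.Helper12.Ord.Fi22P2.edges, ∀ y ∈ coxNodes Cfsg.Agent.Lib.Helper12.Ord.Fi22P2.edges,
    coxLabel Cfsg.Agent.Lib.Helper12.Ord.Fi23P2.edges (ι x) (ι y) = coxLabel Cfsg.Agent.Lib.Helper12.Ord.Fi22P2.edges x y := by decide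

theorem sub_extra : ∀ r ∈ Cfsg.Agent.Lib.Helper12.Ord.Fi22P2.extra, FreeGroup.map ι r ∈ Cfsg.Agent.Lib.Helper12.Ord.Fi23P2.extra := by
  intro r hr
  have hr' : r = (Cfsg.Agent.Lib.Helper12.Ord.Fi22P2.d * Cfsg.Agent.Lib.Helper12.Ord.Fi22P2.c * Cfsg.Agent.Lib.Helper12.Ord.Fi22P2.b * Cfsg.Agent.Lib.Helper12.Ord.Fi22P2.d * Cfsg.Agent.Lib.Helper12.Ord.Fi22P2.e * Cfsg.Agent.Lib.Helper12.Ord.Fi22P2.f * Cfsg.Agent.Lib.Helper12.Ord.Fi22P2.d * Cfsg.Agent.Lib.Helper12.Ord.Fi22P2.h * Cfsg.Agent.Lib.Helper12.Ord.Fi22P2.i) ^ 10 := by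
    simpa only [Cfsg.Agent.Lib.Helper12.Ord.Fi22P2.extra, List.mem_cons, List.not_mem_nil, or_false] using hr
  rcases hr' with rfl
  · rw [map_pow, map_mul]
    simp only [FreeGroup.map.of]
    exact List.mem_cons_self

/-- the generators of the subgroup of the larger group -/
def Sι : Set (FreeGroup Cfsg.Agent.Lib.Helper12.Ord.Fi23P2.Gen) :=
  Set.range fun y : Cfsg.Agent.Lib.Helper12.Ord.Fi22P2.Gen => (FreeGroup.of (ι y) : FreeGroup Cfsg.Agent.Lib.Helper12.Ord.Fi23P2.Gen)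

/-- the subgroup of the larger group has at most the order of the presented group -/
theorem card_le (hfin : Finite Cfsg.Agent.Lib.Helper12.Ord.Fi22P2.Grp) :
    Finite ↥((Subgroup.closure Sι).map
      (PresentedGroup.mk (coxRelators Cfsg.Agent.Lib.Helper12.Ord.Fi23P2.edges ∪ {r | r ∈ Cfsg.Agent.Lib.Helper12.Ord.Fi23P2.extra}))) ∧
    Nat.card ↥((Subgroup.closure Sι).map
      (PresentedGroup.mk (coxRelators Cfsg.Agent.Lib.Helper12.Ord.Fi23P2.edges ∪ {r | r ∈ Cfsg.Agent.Lib.Helper12.Ord.Fi23P2.extra}))) ≤ Nat.card Cfsg.Agent.Lib.Helper12.Ord.Fi22P2.Grp :=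
  subpres_card_le Cfsg.Agent.Lib.Helper12.Ord.Fi23P2.edges Cfsg.Agent.Lib.Helper12.Ord.Fi23P2.extra Cfsg.Agent.Lib.Helper12.Ord.Fi22P2.edges Cfsg.Agent.Lib.Helper12.Ord.Fi22P2.extra ι sub_nodes sub_lab sub_extra hfin

end Cfsg.Agent.Lib.Helper12.Ord.Fi22P2inFi23P2
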