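import Cfsg.Agent.Lib.Helper12.Ord.Fi22Order
import Cfsg.Agent.Lib.Helper12.Ord.Iwasawa
import Cfsg.Agent.Lib.Helper12.Ord.Rank3

/-!
The presented group Fi22 is simple (helper12).
-/

set_option autoImplicit false

namespace Cfsg.Agent.Lib.Helper12.Ord.Fi22Simple

open Cfsg.Spor Cfsg.Agent.Lib.Helper12.TC Cfsg.Agent.Lib.Helper12.TC.Fi22o3510
  Cfsg.Agent.Lib.Helper12.TC.Fi22Pres Cfsg.Agent.Lib.Helper12.Ord

/-- the relators -/
abbrev R : Set (FreeGroup Fi22.Gen) := coxRelators Fi22.edges ∪ {r | r ∈ Fi22.extra}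

/-- the generators -/
noncomputable def v (i : ℕ) : PresentedGroup R := PresentedGroup.mk R (FreeGroup.of (gen i))

/-- the subgroup -/
abbrev Hs : Subgroup (PresentedGroup R) := (Subgroup.closure S).map (PresentedGroup.mk R)

theorem hH : Hs = Subgroup.closure {γ | ∃ w ∈ sw, γ = wprod v w} := by
  show (Subgroup.closure S).map (PresentedGroup.mk R) = _
  rw [MonoidHom.map_closure, hS]
  rfl

theorem conj_eq_of_braid {K : Type*} [Group K] (x y : K) (hx : x * x = 1) (hy : y * y = 1)
    (hxy : (x * y) ^ 3 = 1) : (x * y) * x * (x * y)⁻¹ = y := by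
  have hx' : x⁻¹ = x := inv_eq_of_mul_eq_one_left hx
  have hy' : y⁻¹ = y := inv_eq_of_mul_eq_one_left hy
  have h1 : x * y * x * y * x * y = 1 := by
    rw [pow_succ, pow_succ, pow_one] at hxy
    simpa only [mul_assoc] using hxy
  have h2 : x * y * x * y * x = y := by
    have := congrArg (· * y) h1
    simp only [one_mul, mul_assoc, hy, mul_one] at this
    simpa only [mul_assoc] using this
  rw [mul_inv_rev, hx', hy']
  simpa only [mul_assoc] using h2

theorem hmk : ∀ r ∈ R, PresentedGroup.mk R r = 1 := fun _ hr => PresentedGroup.one_of_mem hr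

theorem hsq : ∀ y : Fi22.Gen, PresentedGroup.mk R (FreeGroup.of y) * PresentedGroup.mk R (FreeGroup.of y)
    = 1 :=
  cox_sq_of_hom Fi22.edges (PresentedGroup.mk R) hnodes (fun r hr => hmk r (Or.inl hr))

theorem hbraid (x y : Fi22.Gen) (h : coxLabel Fi22.edges x y = 3) :
    (PresentedGroup.mk R (FreeGroup.of x) * PresentedGroup.mk R (FreeGroup.of y)) ^ 3 = 1 := by
  rw [← map_mul, ← map_pow]
  apply hmk
  left
  exact ⟨x, hnodes x, y, hnodes y, by rw [h]⟩

/-- a property that spreads along the edges of the graph holds for all generators -/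
theorem all_of_edges (P : Fi22.Gen → Prop) (ha : P .a)
    (hstep : ∀ x y, coxLabel Fi22.edges x y = 3 → P x → P y) : ∀ y, P y := by
  have hb : P .b := hstep .a .b (by decide) ha
  have hc : P .c := hstep .b .c (by decide) hb
  have hd : P .d := hstep .c .d (by decide) hc
  have he : P .e := hstep .d .e (by decide) hd
  have hf : P .f := hstep .e .f (by decide) he
  have hg : P .g := hstep .f .g (by decide) hf
  have hh : P .h := hstep .d .h (by decide) hd
  have hi : P .i := hstep .h .i (by decide) hh
  intro y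
  cases y <;> assumption

theorem normalClosure_eq_top : Subgroup.normalClosure {v 0} = (⊤ : Subgroup (PresentedGroup R)) := by
  have hall : ∀ y : Fi22.Gen, PresentedGroup.mk R (FreeGroup.of y) ∈
      Subgroup.normalClosure {v 0} := by
    apply all_of_edges
    · exact Subgroup.subset_normalClosure rfl
    · intro x y hxy hx
      rw [← conj_eq_of_braid _ _ (hsq x) (hsq y) (hbraid x y hxy)]
      exact Subgroup.normalClosure_normal.conj_mem _ hx _
  rw [eq_top_iff, ← PresentedGroup.closure_range_of R, Subgroup.closure_le]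
  rintro _ ⟨y, rfl⟩
  exact hall y

theorem commutator_eq_top : commutator (PresentedGroup R) = ⊤ := by
  set π := (Abelianization.of : PresentedGroup R →* Abelianization (PresentedGroup R)) with hπ
  set z := π (PresentedGroup.mk R (FreeGroup.of Fi22.Gen.a)) with hz
  have hall : ∀ y : Fi22.Gen, π (PresentedGroup.mk R (FreeGroup.of y)) = z := by
    apply all_of_edges
    · rfl
    · intro x y hxy hx
      rw [← hx]
      exact (map_eq_of_braid π _ _ (hsq x) (hsq y) (hbraid x y hxy)).symm
  have hz2 : z * z = 1 := by rw [hz, ← map_mul, hsq, map_one]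
  have hrel : PresentedGroup.mk R ((FreeGroup.of Fi22.Gen.a * FreeGroup.of Fi22.Gen.b *
      FreeGroup.of Fi22.Gen.c * FreeGroup.of Fi22.Gen.d * FreeGroup.of Fi22.Gen.e *
      FreeGroup.of Fi22.Gen.f * FreeGroup.of Fi22.Gen.h) ^ 9) = 1 := by
    apply hmk
    right
    exact List.mem_cons_of_mem _ List.mem_cons_self
  have h63 : z ^ 63 = 1 := by
    have := congrArg π hrel
    simp only [map_one, map_pow, map_mul, hall] at this
    have h7 : z * z * z * z * z * z * z = z ^ 7 := by
      simp only [pow_succ, pow_zero, one_mul]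
    rw [h7, ← pow_mul] at this
    exact this
  have hz1 : z = 1 := by
    calc z = (z * z) ^ 31 * z := by rw [hz2, one_pow, one_mul]
      _ = z ^ 63 := by rw [← pow_two, ← pow_mul, ← pow_succ]
      _ = 1 := h63
  apply commutator_eq_top_of_closure _ (PresentedGroup.closure_range_of R)
  rintro _ ⟨y, rfl⟩
  rw [← Abelianization.ker_of, MonoidHom.mem_ker]
  exact (hall y).trans hz1

theorem uu_eq_v : ∀ x < 9, uu x = v x := uu_gen

theorem wprod_uu_eq (w : List ℕ) (hw : ∀ s ∈ w, s < 9) : wprod uu w = wprod v w :=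
  Fn.wprod_congr _ _ _ (fun s hs => uu_eq_v s (hw s hs))

/-- commuting with the first generator, from the equality of the permutations -/
theorem comm_of_rho (w : List ℕ) (hw : ∀ s ∈ w, s < 9)
    (h : rho (wprod uu (w ++ [0])) = rho (wprod uu (0 :: w))) :
    wprod v w * v 0 = v 0 * wprod v w := by
  have h1 := Fi22Order.rho_injective h
  rw [wprod_uu_eq _ (by
      intro s hs
      rcases List.mem_append.mp hs with h2 | h2
      · exact hw s h2
      · rw [List.mem_singleton.mp h2]; decide),
    wprod_uu_eq _ (by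
      intro s hs
      rcases List.mem_cons.mp hs with h2 | h2
      · rw [h2]; decide
      · exact hw s h2), wprod_append, wprod_cons, wprod_cons, wprod_nil, mul_one] at h1
  exact h1

theorem central : ∀ h ∈ Hs, h * v 0 = v 0 * h := by
  intro h hh
  rw [hH] at hh
  refine Subgroup.closure_induction (p := fun h _ => h * v 0 = v 0 * h) ?_ ?_ ?_ ?_ hh
  · rintro _ ⟨w, hw, rfl⟩
    simp only [sw, List.mem_cons, List.not_mem_nil, or_false] at hw
    rcases hw with rfl | rfl | rfl | rfl | rfl | rfl | rfl | rfl | rfl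
    · exact comm_of_rho _ (by decide) hc0
    · exact comm_of_rho _ (by decide) hc1
    · exact comm_of_rho _ (by decide) hc2
    · exact comm_of_rho _ (by decide) hc3
    · exact comm_of_rho _ (by decide) hc4
    · exact comm_of_rho _ (by decide) hc5
    · exact comm_of_rho _ (by decide) hc6
    · exact comm_of_rho _ (by decide) hc7
    · exact comm_of_rho _ (by decide) hc8
  · rw [one_mul, mul_one]
  · intro x y _ _ hx hy
    rw [mul_assoc, hy, ← mul_assoc, hx, mul_assoc]
  · intro x _ hx
    have := congrArg (fun g => x⁻¹ * g * x⁻¹) hx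
    simp only [mul_assoc, mul_inv_cancel, mul_one, inv_mul_cancel_left] at this
    exact this.symm

theorem rho_v : ∀ x < 9, ∀ i : Fin cN, ((rho (v x) i : Fin cN) : ℕ) = TT x i := rho_gen

theorem isCoatom_H : IsCoatom Hs := by
  obtain ⟨Φ, hΦ⟩ := rho_equiv
  have horb1 := Fn.orbit_image Hs v rho rho_v hH Φ hN0 hΦ hsub (lo := 1) (hi := 2817)
    (by decide) (by decide) horbi0 horbc0
  have horb2 := Fn.orbit_image Hs v rho rho_v hH Φ hN0 hΦ hsub (lo := 2817) (hi := 3510)
    (by decide) (by decide) horbi1 horbc1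
  refine isCoatom_of_rank3 Hs Φ 2817 (by decide) (by decide) ?_ horb1 horb2 (by decide) (by decide)
  rw [hΦ, map_one]
  rfl

theorem core_eq_bot : ∀ N : Subgroup (PresentedGroup R), N.Normal → N ≤ Hs → N = ⊥ := by
  intro N hN hle
  obtain ⟨Φ, hΦ⟩ := rho_equiv
  rw [eq_bot_iff]
  intro n hn
  rw [Subgroup.mem_bot]
  apply Fi22Order.rho_injective
  rw [map_one]
  ext i
  obtain ⟨q, rfl⟩ := Φ.surjective i
  induction q using QuotientGroup.induction_on with
  | H γ =>
    have h1 : ((n * γ : PresentedGroup R) : PresentedGroup R ⧸ Hs) = (γ : PresentedGroup R ⧸ Hs) := by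
      rw [QuotientGroup.eq]
      have : (n * γ)⁻¹ * γ = γ⁻¹ * n⁻¹ * γ⁻¹⁻¹ := by group
      rw [this]
      exact hle (hN.conj_mem _ (N.inv_mem hn) _)
    have h2 := congrArg Φ h1
    rw [hΦ, hΦ, map_mul, Equiv.Perm.mul_apply] at h2
    rw [hΦ, h2]
    rfl

theorem card_gt_one : 1 < Nat.card (PresentedGroup R) := by
  rw [Fi22Order.card_eq]; decide

/-- the presented group is simple -/
theorem isSimpleGroup : IsSimpleGroup (PresentedGroup R) := by
  have : Finite (PresentedGroup R) := Fi22Order.finite
  have : Nontrivial (PresentedGroup R) := Finite.one_lt_card_iff_nontrivial.mp card_gt_one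
  exact isSimpleGroup_of_central_elt Hs isCoatom_H core_eq_bot (v 0) central normalClosure_eq_top
    commutator_eq_top

end Cfsg.Agent.Lib.Helper12.Ord.Fi22Simple
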