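import Cfsg.Agent.Lib.Helper12.Ord.Fi23Simple
import Cfsg.Agent.Lib.Helper12.Ord.Fi22Simple
import Cfsg.Agent.Lib.Helper12.Ord.Cover

/-!
The subgroup of the presented group Fi23 generated by all generators but one is a double cover of the
presented group Fi22 that is not split (helper12).
-/

set_option autoImplicit false

namespace Cfsg.Agent.Lib.Helper12.Ord.Fi23Cover

open Cfsg.Spor Cfsg.Agent.Lib.Helper12.TC Cfsg.Agent.Lib.Helper12.TC.Fi23o31671
  Cfsg.Agent.Lib.Helper12.TC.Fi23Pres Cfsg.Agent.Lib.Helper12.Ord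

/-- the relators of Fi23 -/
abbrev R23 : Set (FreeGroup Fi23.Gen) := Fi23Simple.R

/-- the relators of Fi22 -/
abbrev R22 : Set (FreeGroup Fi22.Gen) := Fi22Simple.R

/-- the generators of Fi22 as generators of Fi23 -/
def ι : Fi22.Gen → Fi23.Gen
  | .a => .a
  | .b => .b
  | .c => .c
  | .d => .d
  | .e => .e
  | .f => .f
  | .g => .g
  | .h => .h
  | .i => .i

/-- the images of the generators -/
noncomputable def q (x : Fi22.Gen) : PresentedGroup R23 := PresentedGroup.mk R23 (FreeGroup.of (ι x))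

theorem lift_q (w : FreeGroup Fi22.Gen) :
    FreeGroup.lift q w = PresentedGroup.mk R23 (FreeGroup.map ι w) := by
  have : FreeGroup.lift q = (PresentedGroup.mk R23).comp (FreeGroup.map ι) := by
    ext x
    simp [q]
  exact DFunLike.congr_fun this w

theorem hH : Fi23Simple.Hs = Subgroup.closure (Set.range q) := by
  show (Subgroup.closure S).map (PresentedGroup.mk R23) = _
  rw [MonoidHom.map_closure]
  congr 1
  ext γ
  constructor
  · rintro ⟨x, hx, rfl⟩
    rcases hx with rfl | rfl | rfl | rfl | rfl | rfl | rfl | rfl | rfl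
    · exact ⟨.a, rfl⟩
    · exact ⟨.b, rfl⟩
    · exact ⟨.c, rfl⟩
    · exact ⟨.d, rfl⟩
    · exact ⟨.e, rfl⟩
    · exact ⟨.f, rfl⟩
    · exact ⟨.g, rfl⟩
    · exact ⟨.h, rfl⟩
    · exact ⟨.i, rfl⟩
  · rintro ⟨y, rfl⟩
    cases y
    · exact ⟨_, Or.inl rfl, rfl⟩
    · exact ⟨_, Or.inr (Or.inl rfl), rfl⟩
    · exact ⟨_, Or.inr (Or.inr (Or.inl rfl)), rfl⟩
    · exact ⟨_, Or.inr (Or.inr (Or.inr (Or.inl rfl))), rfl⟩
    · exact ⟨_, Or.inr (Or.inr (Or.inr (Or.inr (Or.inl rfl)))), rfl⟩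
    · exact ⟨_, Or.inr (Or.inr (Or.inr (Or.inr (Or.inr (Or.inl rfl))))), rfl⟩
    · exact ⟨_, Or.inr (Or.inr (Or.inr (Or.inr (Or.inr (Or.inr (Or.inl rfl)))))), rfl⟩
    · exact ⟨_, Or.inr (Or.inr (Or.inr (Or.inr (Or.inr (Or.inr (Or.inr (Or.inl rfl))))))), rfl⟩
    · exact ⟨_, Or.inr (Or.inr (Or.inr (Or.inr (Or.inr (Or.inr (Or.inr (Or.inr rfl))))))), rfl⟩

theorem lab_eq : ∀ x y : Fi22.Gen, coxLabel Fi23.edges (ι x) (ι y) = coxLabel Fi22.edges x y := by
  intro x y
  cases x <;> cases y <;> decide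

theorem hsqq : ∀ x, q x * q x = 1 := fun x => Fi23Simple.hsq (ι x)

theorem hbraidq (x y : Fi22.Gen) (h : coxLabel Fi22.edges x y = 3) : (q x * q y) ^ 3 = 1 :=
  Fi23Simple.hbraid (ι x) (ι y) ((lab_eq x y).trans h)

/-- the last relator of Fi22 as a word -/
def w63 : List ℕ :=
  [1, 2, 3, 4, 5, 6, 8, 1, 2, 3, 4, 5, 6, 8, 1, 2, 3, 4, 5, 6, 8, 1, 2, 3, 4, 5, 6, 8, 1, 2, 3, 4, 5, 6, 8,
   1, 2, 3, 4, 5, 6, 8, 1, 2, 3, 4, 5, 6, 8, 1, 2, 3, 4, 5, 6, 8, 1, 2, 3, 4, 5, 6, 8]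

theorem tt_eq_w63 : Fi23Simple.tt = wprod Fi23Simple.v w63 := by
  have h1 := Fi23Order.rho_injective hz
  rw [wprod_cons, wprod_nil, mul_one, Fi23Simple.wprod_uu_eq _ (by decide)] at h1
  exact h1

set_option maxRecDepth 10000 in
theorem mk_w63 : PresentedGroup.mk R23 ((FreeGroup.of Fi23.Gen.b * FreeGroup.of Fi23.Gen.c *
    FreeGroup.of Fi23.Gen.d * FreeGroup.of Fi23.Gen.e * FreeGroup.of Fi23.Gen.f *
    FreeGroup.of Fi23.Gen.g * FreeGroup.of Fi23.Gen.h) ^ 9) = wprod Fi23Simple.v w63 := by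
  simp [wprod, w63, Fi23Simple.v, gen, pow_succ, mul_assoc]

theorem hrel : ∀ r ∈ R22, ∀ h ∈ Fi23Simple.Hs, h * FreeGroup.lift q r = FreeGroup.lift q r * h := by
  intro r hr h hh
  rw [lift_q]
  rcases hr with hr | hr
  · obtain ⟨x, _, y, _, rfl⟩ := hr
    have h1 : PresentedGroup.mk R23 (FreeGroup.map ι ((FreeGroup.of x * FreeGroup.of y) ^
        coxLabel Fi22.edges x y)) = 1 := by
      rw [map_pow, map_mul, FreeGroup.map.of, FreeGroup.map.of, ← lab_eq x y]
      apply Fi23Simple.hmk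
      left
      exact ⟨ι x, hnodes _, ι y, hnodes _, rfl⟩
    rw [h1, mul_one, one_mul]
  · have hr' : r = (Fi22.d * Fi22.c * Fi22.b * Fi22.d * Fi22.e * Fi22.f * Fi22.d * Fi22.h * Fi22.i) ^ 10 ∨
        r = (Fi22.a * Fi22.b * Fi22.c * Fi22.d * Fi22.e * Fi22.f * Fi22.h) ^ 9 ∨
        r = (Fi22.b * Fi22.c * Fi22.d * Fi22.e * Fi22.f * Fi22.g * Fi22.h) ^ 9 := by
      have h2 : r ∈ Fi22.extra := hr
      simpa only [Fi22.extra, List.mem_cons, List.not_mem_nil, or_false] using h2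
    rcases hr' with rfl | rfl | rfl
    · have h1 : PresentedGroup.mk R23 (FreeGroup.map ι ((Fi22.d * Fi22.c * Fi22.b * Fi22.d * Fi22.e *
          Fi22.f * Fi22.d * Fi22.h * Fi22.i) ^ 10)) = 1 := by
        rw [map_pow, map_mul]
        simp only [map_mul, FreeGroup.map.of]
        apply Fi23Simple.hmk
        right
        exact List.mem_cons_self
      rw [h1, mul_one, one_mul]
    · have h1 : PresentedGroup.mk R23 (FreeGroup.map ι ((Fi22.a * Fi22.b * Fi22.c * Fi22.d * Fi22.e *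
          Fi22.f * Fi22.h) ^ 9)) = 1 := by
        rw [map_pow, map_mul]
        simp only [map_mul, FreeGroup.map.of]
        apply Fi23Simple.hmk
        right
        exact List.mem_cons_of_mem _ List.mem_cons_self
      rw [h1, mul_one, one_mul]
    · have h1 : PresentedGroup.mk R23 (FreeGroup.map ι ((Fi22.b * Fi22.c * Fi22.d * Fi22.e * Fi22.f *
          Fi22.g * Fi22.h) ^ 9)) = Fi23Simple.tt := by
        rw [map_pow, map_mul]
        simp only [map_mul, FreeGroup.map.of]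
        rw [tt_eq_w63]
        exact mk_w63
      rw [h1]
      exact Fi23Simple.central h hh

theorem hne : Nat.beq (TT 0 (TT 1 6)) (TT 1 (TT 0 6)) = false := by decide +kernel

theorem hnc : ∃ x y, q x * q y ≠ q y * q x := by
  refine ⟨.a, .b, fun h => ?_⟩
  have h1 := congrArg (fun γ => ((rho γ ⟨6, by decide⟩ : Fin cN) : ℕ)) h
  simp only [map_mul, Equiv.Perm.mul_apply] at h1
  have e0 : ∀ i : Fin cN, ((rho (q .a) i : Fin cN) : ℕ) = TT 0 i := rho_gen 0 (by decide)
  have e1 : ∀ i : Fin cN, ((rho (q .b) i : Fin cN) : ℕ) = TT 1 i := rho_gen 1 (by decide)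
  rw [e0, e1, e1, e0] at h1
  have h2 := hne
  rw [h1] at h2
  rw [Nat.beq_refl] at h2
  exact Bool.noConfusion h2

theorem card_Hs : Nat.card Fi23Simple.Hs = 2 * Nat.card (PresentedGroup R22) := by
  have h1 := Subgroup.index_mul_card Fi23Simple.Hs
  have h2 : Fi23Simple.Hs.index = 31671 := rho_index
  have h3 : Nat.card (PresentedGroup R23) = 4089470473293004800 := Fi23Order.card_eq
  have h4 : Nat.card (PresentedGroup R22) = 64561751654400 := Fi22Order.card_eq
  rw [h2, h3] at h1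
  rw [h4]
  omega

theorem perfect_Hs : commutator ↥Fi23Simple.Hs = ⊤ := by
  have hq : ∀ x, q x ∈ Fi23Simple.Hs := fun x => by
    rw [hH]; exact Subgroup.subset_closure ⟨x, rfl⟩
  refine commutator_eq_top_of_braid (genSub Fi23Simple.Hs q hq)
    (closure_range_genSub Fi23Simple.Hs q hq hH) ?_ (fun x y => coxLabel Fi22.edges x y = 3) ?_ .a
    Fi22Simple.all_of_edges [.a, .b, .c, .d, .e, .f, .h] 9 ?_ (by decide)
  · intro x
    exact Subtype.ext (hsqq x)
  · intro x y hxy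
    apply Subtype.ext
    show (q x * q y) ^ 3 = 1
    exact hbraidq x y hxy
  · apply Subtype.ext
    show (q .a * (q .b * (q .c * (q .d * (q .e * (q .f * (q .h * 1))))))) ^ 9 = 1
    have h1 : PresentedGroup.mk R23 ((FreeGroup.of Fi23.Gen.a * FreeGroup.of Fi23.Gen.b *
        FreeGroup.of Fi23.Gen.c * FreeGroup.of Fi23.Gen.d * FreeGroup.of Fi23.Gen.e *
        FreeGroup.of Fi23.Gen.f * FreeGroup.of Fi23.Gen.h) ^ 9) = 1 := by
      apply Fi23Simple.hmk
      right
      exact List.mem_cons_of_mem _ List.mem_cons_self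
    have h2 : q .a * (q .b * (q .c * (q .d * (q .e * (q .f * (q .h * 1)))))) =
        PresentedGroup.mk R23 (FreeGroup.of Fi23.Gen.a * FreeGroup.of Fi23.Gen.b *
        FreeGroup.of Fi23.Gen.c * FreeGroup.of Fi23.Gen.d * FreeGroup.of Fi23.Gen.e *
        FreeGroup.of Fi23.Gen.f * FreeGroup.of Fi23.Gen.h) := by
      simp only [map_mul, mul_one, mul_assoc]
      rfl
    rw [h2, ← map_pow]
    exact h1

/-- the double cover -/
theorem main : Cfsg.IsNonsplitDoubleCover ↥Fi23Simple.Hs (PresentedGroup R22) := by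
  have : Finite (PresentedGroup R23) := Fi23Order.finite
  exact isNonsplitDoubleCover_of_presented Fi23Simple.Hs R22 Fi22Simple.isSimpleGroup q hH hrel hnc
    card_Hs perfect_Hs

end Cfsg.Agent.Lib.Helper12.Ord.Fi23Cover
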