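import Cfsg.Agent.Lib.Helper12.TC.CoxE6x51840.Link
import Cfsg.Agent.Lib.Helper12.TC.Fi22P2x243.Link
import Cfsg.Agent.Lib.Helper12.TC.Fi23P2x728.Link
import Cfsg.Agent.Lib.Helper12.TC.Fi23P1x14080.Link
import Cfsg.Agent.Lib.Helper12.TC.Fi23o31671.Link
import Cfsg.Agent.Lib.Helper12.TC.Fi23o31671.Low

/-!
The order of the presented group Fi23, and the faithfulness of its permutation representation
(generated, helper12).
-/

set_option autoImplicit false

namespace Cfsg.Agent.Lib.Helper12.Ord.Fi23Order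

open Cfsg.Agent.Lib.Helper12.TC

theorem finite_card_le : Finite Cfsg.Spor.Fi23 ∧ Nat.card Cfsg.Spor.Fi23 ≤ 4089470473293004800 := by
  obtain ⟨f0, c0⟩ := CoxE6x51840.card_eq
  obtain ⟨f1, c1⟩ := Fi22P2x243.card_le f0 _ (le_of_eq c0)
  obtain ⟨f2, c2⟩ := Fi23P2x728.card_le f1 _ c1
  obtain ⟨f3, c3⟩ := Fi23P1x14080.card_le f2 _ c2
  obtain ⟨f4, c4⟩ := Fi23o31671.card_le f3 _ c3
  exact ⟨f4, c4⟩

theorem finite : Finite Cfsg.Spor.Fi23 := finite_card_le.1

theorem card_eq : Nat.card Cfsg.Spor.Fi23 = 4089470473293004800 := by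
  have := finite
  exact le_antisymm finite_card_le.2 Fi23o31671.lower.1

theorem rho_injective : Function.Injective Fi23o31671.rho := by
  have := finite
  exact Fi23o31671.lower.2 finite_card_le.2

end Cfsg.Agent.Lib.Helper12.Ord.Fi23Order
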