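import Cfsg.Agent.Lib.Helper12.Ord.Fi23Cover
import Cfsg.Agent.Lib.Helper12.Ord.ThreeTransp
import Cfsg.Prelude.Def_Sporadic

/-!
The presented group Fi23 as a group generated by a class of 31671 3-transpositions whose centralisers
are double covers of Fi22 that are not split (helper12).
-/

set_option autoImplicit false

namespace Cfsg.Agent.Lib.Helper12.Ord.Fi23Transp

open Cfsg.Spor Cfsg.Agent.Lib.Helper12.TC Cfsg.Agent.Lib.Helper12.TC.Fi23o31671
  Cfsg.Agent.Lib.Helper12.TC.Fi23Pres Cfsg.Agent.Lib.Helper12.Ord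
  Cfsg.Agent.Lib.Helper12.Ord.Fi23Simple

/-- the word of the representative of the second orbit -/
def u₂ : List ℕ := [7, 6, 5, 4, 3, 8, 2, 3, 4, 5, 6, 7]

theorem hpt1 : Nat.beq (TT 7 0) 1 = true := by decide +kernel

theorem hpt2 : Nat.beq (Fn.applyW TT u₂ 0) 28161 = true := by decide +kernel

theorem tt_sq : tt * tt = 1 := by
  rw [tt_eq]
  have : ∀ g x : PresentedGroup R, g⁻¹ * x * g * (g⁻¹ * x * g) = g⁻¹ * (x * x) * g := by
    intro g x; group
  rw [this, hvsq, mul_one, inv_mul_cancel]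

theorem rho_v7 : rho (v 7) ⟨0, hN0⟩ = ⟨1, by decide⟩ := by
  apply Fin.ext
  rw [rho_v 7 (by decide)]
  exact Nat.eq_of_beq_eq_true hpt1

theorem rho_u₂ : rho (wprod v u₂) ⟨0, hN0⟩ = ⟨28161, by decide⟩ := by
  apply Fin.ext
  rw [Fn.rho_word v rho rho_v u₂ (by decide)]
  exact Nat.eq_of_beq_eq_true hpt2

theorem tt_ne_one : tt ≠ 1 := by
  intro h
  have h1 : v 7 = 1 := by
    have h2 := tt_eq
    rw [h] at h2
    have : v 7 = wprod v [6, 5, 4, 3, 8, 2, 3, 4, 1, 2, 3, 8, 5, 6, 4, 5, 3, 4, 2, 3, 8, 1, 2, 3, 4, 5, 6, 7] *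
        ((wprod v [6, 5, 4, 3, 8, 2, 3, 4, 1, 2, 3, 8, 5, 6, 4, 5, 3, 4, 2, 3, 8, 1, 2, 3, 4, 5, 6, 7])⁻¹ *
          v 7 * wprod v [6, 5, 4, 3, 8, 2, 3, 4, 1, 2, 3, 8, 5, 6, 4, 5, 3, 4, 2, 3, 8, 1, 2, 3, 4, 5, 6, 7]) *
        (wprod v [6, 5, 4, 3, 8, 2, 3, 4, 1, 2, 3, 8, 5, 6, 4, 5, 3, 4, 2, 3, 8, 1, 2, 3, 4, 5, 6, 7])⁻¹ := by
      group
    rw [this, ← h2, mul_one, mul_inv_cancel]
  have h3 := rho_v7
  rw [h1, map_one] at h3
  have h4 := congrArg Fin.val h3
  exact absurd h4 (by decide)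

theorem center_eq_bot : Subgroup.center (PresentedGroup R) = ⊥ := by
  rcases isSimpleGroup.eq_bot_or_eq_top_of_normal (Subgroup.center (PresentedGroup R))
    inferInstance with h | h
  · exact h
  · exfalso
    obtain ⟨x, y, hxy⟩ := Fi23Cover.hnc
    apply hxy
    have : Fi23Cover.q y ∈ Subgroup.center (PresentedGroup R) := by rw [h]; trivial
    exact Subgroup.mem_center_iff.mp this (Fi23Cover.q x)

theorem centralizer_tt : Subgroup.centralizer {tt} = Hs := by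
  have hle : Hs ≤ Subgroup.centralizer {tt} := by
    intro h hh
    rw [Subgroup.mem_centralizer_singleton_iff]
    exact central h hh
  by_contra hne
  have hlt : Hs < Subgroup.centralizer {tt} := lt_of_le_of_ne hle (fun h => hne h.symm)
  have htop := isCoatom_H.2 _ hlt
  have hcen : tt ∈ Subgroup.center (PresentedGroup R) := by
    rw [Subgroup.mem_center_iff]
    intro g
    have : g ∈ Subgroup.centralizer {tt} := by rw [htop]; trivial
    exact Subgroup.mem_centralizer_singleton_iff.mp this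
  rw [center_eq_bot, Subgroup.mem_bot] at hcen
  exact tt_ne_one hcen

theorem h₁ : (tt * (v 7 * tt * (v 7)⁻¹)) ^ 3 = 1 := by
  have h1 := Fi23Order.rho_injective h3t0
  rw [wprod_nil] at h1
  have h7 : uu 7 = v 7 := uu_gen 7 (by decide)
  have hinv : (v 7)⁻¹ = v 7 := inv_eq_of_mul_eq_one_left (hvsq 7)
  rw [hinv, ← h1, tt_eq_uu, ← h7]
  simp only [wprod, List.map, List.prod_cons, List.prod_nil, mul_one, pow_succ, pow_zero, one_mul,
    mul_assoc]

theorem h₂ : (tt * (wprod v u₂ * tt * (wprod v u₂)⁻¹)) ^ 2 = 1 := by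
  have h1 := Fi23Order.rho_injective h3t1
  rw [wprod_nil] at h1
  have e : ([10, 7, 6, 5, 4, 3, 8, 2, 3, 4, 5, 6, 7, 10, 7, 6, 5, 4, 3, 2, 8, 3, 4, 5, 6, 7, 10, 7, 6, 5, 4,
      3, 8, 2, 3, 4, 5, 6, 7, 10, 7, 6, 5, 4, 3, 2, 8, 3, 4, 5, 6, 7] : List ℕ) =
      (10 :: (u₂ ++ 10 :: u₂.reverse)) ++ (10 :: (u₂ ++ 10 :: u₂.reverse)) := by decide
  have hW : wprod uu (10 :: (u₂ ++ 10 :: u₂.reverse)) =
      tt * (wprod v u₂ * tt * (wprod v u₂)⁻¹) := by
    rw [wprod_cons, wprod_append, wprod_cons, wprod_uu_eq u₂ (by decide),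
      wprod_uu_eq u₂.reverse (by decide), wprod_reverse_of_invol v hvsq, ← tt_eq_uu, mul_assoc]
  rw [e, wprod_append, hW] at h1
  rw [pow_two]
  exact h1

theorem hcover : ∀ i : Fin cN, i = ⟨0, hN0⟩ ∨ (∃ h ∈ Hs, rho h (rho (v 7) ⟨0, hN0⟩) = i) ∨
    (∃ h ∈ Hs, rho h (rho (wprod v u₂) ⟨0, hN0⟩) = i) := by
  obtain ⟨Φ, hΦ⟩ := rho_equiv
  have horb1 := Fn.orbit_image Hs v rho rho_v hH Φ hN0 hΦ hsub (lo := 1) (hi := 28161)
    (by decide) (by decide) horbi0 horbc0
  have horb2 := Fn.orbit_image Hs v rho rho_v hH Φ hN0 hΦ hsub (lo := 28161) (hi := 31671)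
    (by decide) (by decide) horbi1 horbc1
  have hact : ∀ (γ : PresentedGroup R) (q : PresentedGroup R ⧸ Hs), Φ (γ • q) = rho γ (Φ q) := by
    intro γ q
    induction q using QuotientGroup.induction_on with
    | H δ =>
      have : γ • (δ : PresentedGroup R ⧸ Hs) = ((γ * δ : PresentedGroup R) : PresentedGroup R ⧸ Hs) := rfl
      rw [this, hΦ, hΦ, map_mul, Equiv.Perm.mul_apply]
  have hpick : ∀ (b : Fin cN) (S : Set (Fin cN)), Φ '' MulAction.orbit Hs (Φ.symm b) = S →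
      ∀ i ∈ S, ∃ h ∈ Hs, rho h b = i := by
    intro b S hS i hi
    rw [← hS] at hi
    obtain ⟨q, ⟨⟨h, hh⟩, rfl⟩, rfl⟩ := hi
    refine ⟨h, hh, ?_⟩
    show rho h b = Φ (h • Φ.symm b)
    rw [hact, Equiv.apply_symm_apply]
  intro i
  rcases Nat.lt_or_ge i.val 1 with h0 | h0
  · left
    apply Fin.ext
    show i.val = 0
    omega
  · rcases Nat.lt_or_ge i.val 28161 with h1 | h1
    · right; left
      rw [rho_v7]
      exact hpick _ _ horb1 i ⟨h0, h1⟩
    · right; right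
      rw [rho_u₂]
      exact hpick _ _ horb2 i ⟨h1, i.isLt⟩

theorem isThreeTranspositionClass : Cfsg.IsThreeTranspositionClass (conjugatesOf tt) := by
  obtain ⟨Φ, hΦ⟩ := rho_equiv
  exact isThreeTranspositionClass_of_data Hs rho hN0 Φ hΦ tt tt_sq tt_ne_one central
    normalClosure_eq_top (v 7) (wprod v u₂) hcover 3 2 (Or.inr rfl) (Or.inl rfl) h₁ h₂

theorem card_class : Nat.card (conjugatesOf tt) = 31671 := by
  rw [card_conjugatesOf_eq_index, centralizer_tt]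
  exact rho_index

/-- the centralisers of the elements of the class -/
theorem centralizer_cover (d : PresentedGroup R) (hd : d ∈ conjugatesOf tt) :
    Cfsg.IsNonsplitDoubleCover ↥(Subgroup.centralizer ({d} : Set (PresentedGroup R)))
      (PresentedGroup Fi23Cover.R22) := by
  have : Finite (PresentedGroup R) := Fi23Order.finite
  obtain ⟨x, rfl⟩ := isConj_iff.mp hd
  have h1 : Cfsg.IsNonsplitDoubleCover ↥(Subgroup.centralizer ({tt} : Set (PresentedGroup R)))
      (PresentedGroup Fi23Cover.R22) := by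
    rw [centralizer_tt]
    exact Fi23Cover.main
  exact isNonsplitDoubleCover_of_mulEquiv (centralizerConjEquiv tt x) h1

end Cfsg.Agent.Lib.Helper12.Ord.Fi23Transp
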