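import Cfsg.Agent.Lib.Helper12.TC.CoxE6x51840.Link
import Cfsg.Agent.Lib.Helper12.TC.CoxE7x56.Link
import Cfsg.Agent.Lib.Helper12.TC.Fi24P9x120.Link
import Cfsg.Agent.Lib.Helper12.TC.Fi24P10o28431.Link
import Cfsg.Agent.Lib.Helper12.TC.Fi24P10o28431.Low

/-!
The order of the group presented on the generators `l, k, a, b, c, d, e, f, h, i` of Fi24 with the relation
`l = (a b c d e f h)^9`, and the faithfulness of its permutation representation on 28431 points; the spider
relation holds in it (helper12).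
-/

set_option autoImplicit false

namespace Cfsg.Agent.Lib.Helper12.Ord.Fi24P10Order

open Cfsg.Agent.Lib.Helper12.TC

theorem finite_card_le : Finite Fi24P10.Grp ∧ Nat.card Fi24P10.Grp ≤ 9904359628800 := by
  obtain ⟨f0, c0⟩ := CoxE6x51840.card_eq
  obtain ⟨f1, c1⟩ := CoxE7x56.card_le f0 _ (le_of_eq c0)
  obtain ⟨f2, c2⟩ := Fi24P9x120.card_le f1 _ c1
  obtain ⟨f3, c3⟩ := Fi24P10o28431.card_le f2 _ c2
  exact ⟨f3, c3⟩

theorem finite : Finite Fi24P10.Grp := finite_card_le.1

theorem card_eq : Nat.card Fi24P10.Grp = 9904359628800 := by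
  have := finite
  exact le_antisymm finite_card_le.2 Fi24P10o28431.lower.1

theorem rho_injective : Function.Injective Fi24P10o28431.rho := by
  have := finite
  exact Fi24P10o28431.lower.2 finite_card_le.2

end Cfsg.Agent.Lib.Helper12.Ord.Fi24P10Order
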