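import Cfsg.Agent.Lib.Helper12.Ord.SubPres2
import Cfsg.Prelude.Def_Spor_He
import Cfsg.Agent.Lib.Helper12.TC.HeW1.Main

/-!
The presentation HeP1 on a part of the generators of He (generated, helper12).
-/

set_option autoImplicit false

namespace Cfsg.Agent.Lib.Helper12.Ord.HeP1

open Cfsg.Spor

/-- the generators -/
inductive Gen
  | a
  | c
  | d
  | e
  | f
  | g
  deriving DecidableEq

/-- a generator as a word -/ abbrev a : FreeGroup Gen := FreeGroup.of Gen.a
/-- a generator as a word -/ abbrev c : FreeGroup Gen := FreeGroup.of Gen.c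
/-- a generator as a word -/ abbrev d : FreeGroup Gen := FreeGroup.of Gen.d
/-- a generator as a word -/ abbrev e : FreeGroup Gen := FreeGroup.of Gen.e
/-- a generator as a word -/ abbrev f : FreeGroup Gen := FreeGroup.of Gen.f
/-- a generator as a word -/ abbrev g : FreeGroup Gen := FreeGroup.of Gen.g

/-- the graph -/
def edges : List (Gen × ℕ × Gen) :=
  [(.c, 10, .d), (.d, 3, .e), (.d, 3, .f), (.f, 4, .g), (.g, 3, .d), (.a, 2, .c)]

/-- the further relators -/
def extra : List (FreeGroup Gen) := [e * ((f * g) ^ 2)⁻¹,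
  a * ((c * d) ^ 5)⁻¹,
  (c * d * f * g) ^ 4,
  (c * d * f * g * d) ^ 5]

/-- the generators as generators of the larger presentation -/
def ι : Gen → Cfsg.Spor.He.Gen
  | .a => .a
  | .c => .c
  | .d => .d
  | .e => .e
  | .f => .f
  | .g => .g

theorem sub_nodes : ∀ x ∈ coxNodes edges, ι x ∈ coxNodes Cfsg.Spor.He.edges := by decide

theorem sub_lab : ∀ x ∈ coxNodes edges, ∀ y ∈ coxNodes edges,
    coxLabel Cfsg.Spor.He.edges (ι x) (ι y) = coxLabel edges x y := by decide

theorem sub_extra : ∀ r ∈ extra, PresentedGroup.mk (coxRelators Cfsg.Spor.He.edges ∪ {r | r ∈ Cfsg.Spor.He.extra})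
    (FreeGroup.map ι r) = 1 := by
  intro r hr
  have hr' : r = e * ((f * g) ^ 2)⁻¹ ∨ r = a * ((c * d) ^ 5)⁻¹ ∨ r = (c * d * f * g) ^ 4 ∨ r = (c * d * f * g * d) ^ 5 := by
    simpa only [extra, List.mem_cons, List.not_mem_nil, or_false] using hr
  rcases hr' with rfl | rfl | rfl | rfl
  · apply PresentedGroup.one_of_mem
    right
    simp only [map_pow, map_mul, map_inv, FreeGroup.map.of]
    exact List.mem_cons_self
  · apply PresentedGroup.one_of_mem
    right
    simp only [map_pow, map_mul, map_inv, FreeGroup.map.of]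
    exact List.mem_cons_of_mem _ (List.mem_cons_of_mem _ (List.mem_cons_self))
  · apply PresentedGroup.one_of_mem
    right
    simp only [map_pow, map_mul, map_inv, FreeGroup.map.of]
    exact List.mem_cons_of_mem _ (List.mem_cons_of_mem _ (List.mem_cons_of_mem _ (List.mem_cons_self)))
  · have h := Cfsg.Agent.Lib.Helper12.TC.HeW1.word_eq_one
    simp only [Cfsg.Agent.Lib.Helper12.TC.HeW1.ww, Cfsg.Agent.Lib.Helper12.TC.wprod, List.map, List.prod_cons,
      List.prod_nil, mul_one, Cfsg.Agent.Lib.Helper12.TC.HePres.gen, mul_assoc] at h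
    simp only [map_pow, map_mul, map_inv, FreeGroup.map.of, pow_succ, pow_zero, one_mul, mul_assoc, ι]
    exact h

/-- the presented group -/
abbrev Grp : Type := CoxPresented Gen edges extra

/-- the generators of the subgroup of the larger group -/
def Sι : Set (FreeGroup Cfsg.Spor.He.Gen) :=
  Set.range fun y : Gen => (FreeGroup.of (ι y) : FreeGroup Cfsg.Spor.He.Gen)

/-- the subgroup of the larger group has at most the order of the presented group -/
theorem card_le (hfin : Finite Grp) :
    Finite ↥((Subgroup.closure Sι).map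
      (PresentedGroup.mk (coxRelators Cfsg.Spor.He.edges ∪ {r | r ∈ Cfsg.Spor.He.extra}))) ∧
    Nat.card ↥((Subgroup.closure Sι).map
      (PresentedGroup.mk (coxRelators Cfsg.Spor.He.edges ∪ {r | r ∈ Cfsg.Spor.He.extra}))) ≤ Nat.card Grp :=
  subpres_card_le_of_holds Cfsg.Spor.He.edges Cfsg.Spor.He.extra edges extra ι sub_nodes sub_lab sub_extra hfin

end Cfsg.Agent.Lib.Helper12.Ord.HeP1
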