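import Cfsg.Agent.Lib.Helper12.Ord.SubPres2
import Cfsg.Agent.Lib.Helper12.Ord.HeP1

/-!
The presentation HeP2 on a part of the generators of HeP1 (generated, helper12).
-/

set_option autoImplicit false

namespace Cfsg.Agent.Lib.Helper12.Ord.HeP2

open Cfsg.Spor

/-- the generators -/
inductive Gen
  | d
  | e
  | f
  | g
  deriving DecidableEq

/-- a generator as a word -/ abbrev d : FreeGroup Gen := FreeGroup.of Gen.d
/-- a generator as a word -/ abbrev e : FreeGroup Gen := FreeGroup.of Gen.e
/-- a generator as a word -/ abbrev f : FreeGroup Gen := FreeGroup.of Gen.f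
/-- a generator as a word -/ abbrev g : FreeGroup Gen := FreeGroup.of Gen.g

/-- the graph -/
def edges : List (Gen × ℕ × Gen) :=
  [(.d, 3, .e), (.d, 3, .f), (.f, 4, .g), (.g, 3, .d)]

/-- the further relators -/
def extra : List (FreeGroup Gen) := [e * ((f * g) ^ 2)⁻¹]

/-- the generators as generators of the larger presentation -/
def ι : Gen → Cfsg.Agent.Lib.Helper12.Ord.HeP1.Gen
  | .d => .d
  | .e => .e
  | .f => .f
  | .g => .g

theorem sub_nodes : ∀ x ∈ coxNodes edges, ι x ∈ coxNodes Cfsg.Agent.Lib.Helper12.Ord.HeP1.edges := by decide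

theorem sub_lab : ∀ x ∈ coxNodes edges, ∀ y ∈ coxNodes edges,
    coxLabel Cfsg.Agent.Lib.Helper12.Ord.HeP1.edges (ι x) (ι y) = coxLabel edges x y := by decide

theorem sub_extra : ∀ r ∈ extra, FreeGroup.map ι r ∈ Cfsg.Agent.Lib.Helper12.Ord.HeP1.extra := by
  intro r hr
  have hr' : r = e * ((f * g) ^ 2)⁻¹ := by
    simpa only [extra, List.mem_cons, List.not_mem_nil, or_false] using hr
  rcases hr' with rfl
  · simp only [map_pow, map_mul, map_inv, FreeGroup.map.of]
    exact List.mem_cons_self

/-- the presented group -/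
abbrev Grp : Type := CoxPresented Gen edges extra

/-- the generators of the subgroup of the larger group -/
def Sι : Set (FreeGroup Cfsg.Agent.Lib.Helper12.Ord.HeP1.Gen) :=
  Set.range fun y : Gen => (FreeGroup.of (ι y) : FreeGroup Cfsg.Agent.Lib.Helper12.Ord.HeP1.Gen)

/-- the subgroup of the larger group has at most the order of the presented group -/
theorem card_le (hfin : Finite Grp) :
    Finite ↥((Subgroup.closure Sι).map
      (PresentedGroup.mk (coxRelators Cfsg.Agent.Lib.Helper12.Ord.HeP1.edges ∪ {r | r ∈ Cfsg.Agent.Lib.Helper12.Ord.HeP1.extra}))) ∧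
    Nat.card ↥((Subgroup.closure Sι).map
      (PresentedGroup.mk (coxRelators Cfsg.Agent.Lib.Helper12.Ord.HeP1.edges ∪ {r | r ∈ Cfsg.Agent.Lib.Helper12.Ord.HeP1.extra}))) ≤ Nat.card Grp :=
  subpres_card_le Cfsg.Agent.Lib.Helper12.Ord.HeP1.edges Cfsg.Agent.Lib.Helper12.Ord.HeP1.extra edges extra ι sub_nodes sub_lab sub_extra hfin

end Cfsg.Agent.Lib.Helper12.Ord.HeP2
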