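import Cfsg.Agent.Lib.Helper12.TC.HeP2x168.Link
import Cfsg.Agent.Lib.Helper12.TC.HeP1x480.Link
import Cfsg.Agent.Lib.Helper12.TC.He49980.Link
import Cfsg.Agent.Lib.Helper12.TC.Heo8330.Low

/-!
The order of the presented group He, and the faithfulness of its permutation representation
(generated, helper12).
-/

set_option autoImplicit false

namespace Cfsg.Agent.Lib.Helper12.Ord.HeOrder

open Cfsg.Agent.Lib.Helper12.TC

theorem finite_card_le : Finite Cfsg.Spor.He ∧ Nat.card Cfsg.Spor.He ≤ 4030387200 := by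
  obtain ⟨f0, c0⟩ := HeP2x168.card_eq
  obtain ⟨f1, c1⟩ := HeP1x480.card_le f0 _ (le_of_eq c0)
  obtain ⟨f2, c2⟩ := He49980.card_le f1 _ c1
  exact ⟨f2, c2⟩

theorem finite : Finite Cfsg.Spor.He := finite_card_le.1

theorem card_eq : Nat.card Cfsg.Spor.He = 4030387200 := by
  have := finite
  exact le_antisymm finite_card_le.2 Heo8330.lower.1

theorem rho_injective : Function.Injective Heo8330.rho := by
  have := finite
  exact Heo8330.lower.2 finite_card_le.2

end Cfsg.Agent.Lib.Helper12.Ord.HeOrder
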