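import Cfsg.Agent.Lib.Helper12.Ord.Iwasawa

/-!
Simplicity from a maximal subgroup with trivial core that normalises a cyclic subgroup whose conjugates
generate a perfect group (helper12).
-/

set_option autoImplicit false

namespace Cfsg.Agent.Lib.Helper12.Ord

/-- a perfect group with a maximal subgroup `H` of trivial core normalising the cyclic group of an
element `t` whose conjugates generate the group is simple -/
theorem isSimpleGroup_of_normal_cyclic {G : Type*} [Group G] [Nontrivial G] (H : Subgroup G)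
    (hmax : IsCoatom H)
    (hcore : ∀ N : Subgroup G, N.Normal → N ≤ H → N = ⊥)
    (t : G) (ht : ∀ h ∈ H, h * t * h⁻¹ ∈ Subgroup.zpowers t) (hnc : Subgroup.normalClosure {t} = ⊤)
    (hperf : commutator G = ⊤) : IsSimpleGroup G := by
  refine ⟨fun N hN => ?_⟩
  by_cases hle : N ≤ H
  · exact Or.inl (hcore N hN hle)
  · right
    have hsup : N ⊔ H = ⊤ := by
      have hlt : H < N ⊔ H := by
        refine lt_of_le_of_ne le_sup_right (fun heq => hle ?_)
        rw [heq]; exact le_sup_left
      exact hmax.2 _ hlt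
    set A : Subgroup G := Subgroup.zpowers t with hA
    set M : Subgroup G := N ⊔ A with hM
    have htA : t ∈ A := Subgroup.mem_zpowers t
    -- `M` is normalised by `N` and by `H`
    have hconjA : ∀ h ∈ H, ∀ a ∈ A, h * a * h⁻¹ ∈ A := by
      intro h hh a ha
      obtain ⟨k, rfl⟩ := Subgroup.mem_zpowers_iff.mp ha
      have : h * t ^ k * h⁻¹ = (h * t * h⁻¹) ^ k := (conj_zpow).symm
      rw [this]
      exact A.zpow_mem (ht h hh) k
    have keyH : ∀ g ∈ H, ∀ x ∈ M, g * x * g⁻¹ ∈ M := by
      intro g hg x hx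
      rw [hM] at hx
      refine sup_induction_of_group (C := fun x => g * x * g⁻¹ ∈ M) ?_ ?_ ?_ ?_ hx
      · intro n hn
        exact (le_sup_left : N ≤ M) (hN.conj_mem n hn g)
      · intro a ha
        exact (le_sup_right : A ≤ M) (hconjA g hg a ha)
      · intro x y hx hy
        have : g * (x * y) * g⁻¹ = (g * x * g⁻¹) * (g * y * g⁻¹) := by group
        rw [this]
        exact M.mul_mem hx hy
      · intro x hx
        have : g * x⁻¹ * g⁻¹ = (g * x * g⁻¹)⁻¹ := by group
        rw [this]
        exact M.inv_mem hx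
    have keyN : ∀ g ∈ N, ∀ x ∈ M, g * x * g⁻¹ ∈ M := by
      intro g hg x hx
      have hgM : g ∈ M := (le_sup_left : N ≤ M) hg
      exact M.mul_mem (M.mul_mem hgM hx) (M.inv_mem hgM)
    have keyall : ∀ g : G, (∀ x ∈ M, g * x * g⁻¹ ∈ M) ∧ (∀ x ∈ M, g⁻¹ * x * g ∈ M) := by
      intro g
      have hg : g ∈ N ⊔ H := by rw [hsup]; trivial
      refine sup_induction_of_group
        (C := fun g => (∀ x ∈ M, g * x * g⁻¹ ∈ M) ∧ (∀ x ∈ M, g⁻¹ * x * g ∈ M)) ?_ ?_ ?_ ?_ hg
      · intro g hg
        refine ⟨keyN g hg, fun x hx => ?_⟩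
        have := keyN g⁻¹ (N.inv_mem hg) x hx
        rwa [inv_inv] at this
      · intro g hg
        refine ⟨keyH g hg, fun x hx => ?_⟩
        have := keyH g⁻¹ (H.inv_mem hg) x hx
        rwa [inv_inv] at this
      · intro g₁ g₂ h₁ h₂
        constructor
        · intro x hx
          have : g₁ * g₂ * x * (g₁ * g₂)⁻¹ = g₁ * (g₂ * x * g₂⁻¹) * g₁⁻¹ := by group
          rw [this]
          exact h₁.1 _ (h₂.1 x hx)
        · intro x hx
          have : (g₁ * g₂)⁻¹ * x * (g₁ * g₂) = g₂⁻¹ * (g₁⁻¹ * x * g₁) * g₂ := by group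
          rw [this]
          exact h₂.2 _ (h₁.2 x hx)
      · intro g₁ h₁
        refine ⟨fun x hx => ?_, fun x hx => ?_⟩
        · have := h₁.2 x hx
          rwa [inv_inv]
        · have := h₁.1 x hx
          rwa [inv_inv]
    have hMn : M.Normal := ⟨fun x hx g => (keyall g).1 x hx⟩
    have hMtop : M = ⊤ := by
      rw [eq_top_iff, ← hnc]
      refine Subgroup.normalClosure_le_normal ?_
      intro x hx
      rw [Set.mem_singleton_iff.mp hx]
      exact (le_sup_right : A ≤ M) htA
    have hcomm : IsMulCommutative A := by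
      rw [hA]; infer_instance
    have h1 : commutator G ≤ N :=
      Subgroup.Normal.commutator_le_of_self_sup_commutative_eq_top (N := N) (H := A) hMtop hcomm
    rw [hperf] at h1
    exact eq_top_iff.mpr h1

end Cfsg.Agent.Lib.Helper12.Ord
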