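import Cfsg.Agent.Lib.Helper12.TC.Core

/-!
A criterion for the simplicity of a finite group with a maximal subgroup of trivial core, and some lemmas for its
hypotheses (helper12).
-/

set_option autoImplicit false

namespace Cfsg.Agent.Lib.Helper12.Ord

open Cfsg.Agent.Lib.Helper12.TC

/-- the subgroup generated by a single word, a power of which is trivial -/
theorem card_closure_word_le {G : Type*} [Group G] (v : ℕ → G) (w : List ℕ) (m : ℕ) (hm : 0 < m)
    (h : wprod v w ^ m = 1) :
    Finite ↥(Subgroup.closure {γ : G | ∃ w' ∈ [w], γ = wprod v w'}) ∧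
      Nat.card ↥(Subgroup.closure {γ : G | ∃ w' ∈ [w], γ = wprod v w'}) ≤ m := by
  have e : {γ : G | ∃ w' ∈ [w], γ = wprod v w'} = {wprod v w} := by
    ext γ
    constructor
    · rintro ⟨w', hw', rfl⟩
      rw [List.mem_singleton.mp hw']
      rfl
    · intro hγ
      exact ⟨w, List.mem_singleton.mpr rfl, hγ⟩
  rw [e, ← Subgroup.zpowers_eq_closure]
  have hfo : IsOfFinOrder (wprod v w) := isOfFinOrder_iff_pow_eq_one.mpr ⟨m, hm, h⟩
  have hfin : Finite ↥(Subgroup.zpowers (wprod v w)) := by
    apply Nat.finite_of_card_ne_zero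
    rw [Nat.card_zpowers]
    exact hfo.orderOf_pos.ne'
  refine ⟨hfin, ?_⟩
  rw [Nat.card_zpowers]
  exact orderOf_le_of_pow_eq_one hm h

/-- a subgroup of prime index is maximal -/
theorem isCoatom_of_index_prime {G : Type*} [Group G] (H : Subgroup G) (p : ℕ) (hp : p.Prime)
    (h : H.index = p) : IsCoatom H := by
  constructor
  · intro htop
    rw [htop, Subgroup.index_top] at h
    exact hp.one_lt.ne h
  · intro K hK
    have h1 := Subgroup.relIndex_mul_index (le_of_lt hK)
    rw [h] at h1
    have h2 : K.index ∣ p := Dvd.intro_left _ h1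
    rcases (Nat.dvd_prime hp).mp h2 with h3 | h3
    · exact Subgroup.index_eq_one.mp h3
    · exfalso
      rw [h3] at h1
      have h4 : H.relIndex K = 1 := by
        have hp0 : 0 < p := hp.pos
        exact Nat.eq_of_mul_eq_mul_right hp0 (by rw [h1, one_mul])
      exact (not_le_of_gt hK) (Subgroup.relIndex_eq_one.mp h4)

/-- the core of a subgroup is trivial if the permutation representation on its cosets is injective -/
theorem core_eq_bot_of_injective {G : Type*} [Group G] (H : Subgroup G) {N : ℕ} (hN : 0 < N)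
    (ρ : G →* Equiv.Perm (Fin N)) (Φ : G ⧸ H ≃ Fin N)
    (hΦ : ∀ γ : G, Φ (γ : G ⧸ H) = ρ γ ⟨0, hN⟩) (hinj : Function.Injective ρ) :
    ∀ K : Subgroup G, K.Normal → K ≤ H → K = ⊥ := by
  intro K hK hle
  rw [eq_bot_iff]
  intro n hn
  rw [Subgroup.mem_bot]
  apply hinj
  rw [map_one]
  ext i
  obtain ⟨q, rfl⟩ := Φ.surjective i
  induction q using QuotientGroup.induction_on with
  | H γ =>
    have h1 : ((n * γ : G) : G ⧸ H) = (γ : G ⧸ H) := by
      rw [QuotientGroup.eq]
      have : (n * γ)⁻¹ * γ = γ⁻¹ * n⁻¹ * γ⁻¹⁻¹ := by group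
      rw [this]
      exact hle (hK.conj_mem _ (K.inv_mem hn) _)
    have h2 := congrArg Φ h1
    rw [hΦ, hΦ, map_mul, Equiv.Perm.mul_apply] at h2
    rw [hΦ, h2]
    rfl

/-- a finite group with a maximal subgroup `H` of trivial core, and with an element `x` of order dividing a
number `p` prime to the order of `H` such that every normal subgroup containing `x` is the whole group, is
simple -/
theorem isSimpleGroup_of_coatom_coprime {G : Type*} [Group G] [Finite G] [Nontrivial G] (H : Subgroup G)
    (hco : IsCoatom H) (hcore : ∀ K : Subgroup G, K.Normal → K ≤ H → K = ⊥) (m p : ℕ)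
    (hm : Nat.card H = m) (hp : Nat.Coprime p m) (x : G) (hx : x ^ p = 1)
    (htriv : ∀ K : Subgroup G, K.Normal → x ∈ K → K = ⊤) : IsSimpleGroup G := by
  refine ⟨fun K hK => ?_⟩
  by_cases hle : K ≤ H
  · exact Or.inl (hcore K hK hle)
  · right
    have hsup : H ⊔ K = ⊤ := by
      apply hco.2
      apply lt_of_le_of_ne le_sup_left
      intro h
      exact hle (h ▸ le_sup_right)
    have hidx : K.index ∣ m := by
      rw [← hm, ← Subgroup.relIndex_top_right, ← hsup, Subgroup.relIndex_sup_right]
      exact Subgroup.relIndex_dvd_card K H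
    apply htriv K hK
    have h1 : ((QuotientGroup.mk' K) x) ^ p = 1 := by
      rw [← map_pow, hx, map_one]
    have h2 : ((QuotientGroup.mk' K) x) ^ Nat.card (G ⧸ K) = 1 := pow_card_eq_one'
    have h3 : Nat.card (G ⧸ K) = K.index := rfl
    rw [h3] at h2
    have h4 : Nat.Coprime p K.index := Nat.Coprime.coprime_dvd_right hidx hp
    have h5 := pow_gcd_eq_one.mpr ⟨h1, h2⟩
    rw [Nat.Coprime.gcd_eq_one h4, pow_one] at h5
    exact (QuotientGroup.eq_one_iff x).mp h5

/-- a normal subgroup is the whole group if the quotient map is trivial on a generating set -/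
theorem normal_eq_top_of_gens {G : Type*} [Group G] (K : Subgroup G) [K.Normal] (S : Set G)
    (hS : ∀ γ : G, γ ∈ Subgroup.closure S) (h : ∀ s ∈ S, (QuotientGroup.mk' K) s = 1) : K = ⊤ := by
  rw [eq_top_iff]
  intro γ _
  rw [← QuotientGroup.eq_one_iff]
  refine Subgroup.closure_induction (p := fun γ _ => ((γ : G) : G ⧸ K) = 1) ?_ ?_ ?_ ?_ (hS γ)
  · intro s hs
    exact h s hs
  · rfl
  · intro a b _ _ ha hb
    rw [QuotientGroup.mk_mul, ha, hb, mul_one]
  · intro a _ ha
    rw [QuotientGroup.mk_inv, ha, inv_one]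

/-- a word in letters with the same value -/
theorem wprod_const {Q : Type*} [Group Q] (f : ℕ → Q) (A : Q) (w : List ℕ) (h : ∀ s ∈ w, f s = A) :
    wprod f w = A ^ w.length := by
  induction w with
  | nil => rw [wprod_nil, List.length_nil, pow_zero]
  | cons s l ih =>
    rw [wprod_cons, ih (fun t ht => h t (List.mem_cons_of_mem _ ht)), h s List.mem_cons_self,
      List.length_cons, pow_succ']

theorem wprod_hom {G K : Type*} [Group G] [Group K] (φ : G →* K) (u : ℕ → G) (l : List ℕ) :
    wprod (fun s => φ (u s)) l = φ (wprod u l) := by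
  induction l with
  | nil => rw [wprod_nil, wprod_nil, map_one]
  | cons s l ih => rw [wprod_cons, wprod_cons, ih, map_mul]

/-- for a group generated by an involution `v 0` and an element `v 1` with the inverse `v 2`, with a relator of odd
length: a normal subgroup containing `v 0 * v 1` is the whole group -/
theorem normal_eq_top_of_ab {G : Type*} [Group G] (v : ℕ → G) (hv2 : v 2 = (v 1)⁻¹)
    (h00 : v 0 * v 0 = 1) (hgen : ∀ γ : G, γ ∈ Subgroup.closure {y | ∃ x < 3, y = v x})
    (w : List ℕ) (hw : wprod v w = 1) (hl : ∀ s ∈ w, s < 3) (hodd : w.length % 2 = 1)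
    (K : Subgroup G) (hK : K.Normal) (hx : v 0 * v 1 ∈ K) : K = ⊤ := by
  set π := QuotientGroup.mk' K with hπ
  have hA : π (v 0) * π (v 0) = 1 := by rw [← map_mul, h00, map_one]
  have hAB : π (v 0) * π (v 1) = 1 := by
    rw [← map_mul]
    exact (QuotientGroup.eq_one_iff _).mpr hx
  have hAi : (π (v 0))⁻¹ = π (v 0) := inv_eq_of_mul_eq_one_left hA
  have hB : π (v 1) = π (v 0) := by
    rw [← hAi]
    exact eq_inv_of_mul_eq_one_right hAB
  have hB2 : π (v 2) = π (v 0) := by
    rw [hv2, map_inv, hB, hAi]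
  have hall : ∀ s ∈ w, (fun s => π (v s)) s = π (v 0) := by
    intro s hs
    have := hl s hs
    interval_cases s
    · rfl
    · exact hB
    · exact hB2
  have h1 : π (v 0) ^ w.length = 1 := by
    rw [← wprod_const (fun s => π (v s)) (π (v 0)) w hall, wprod_hom, hw, map_one]
  have h2 : π (v 0) ^ 2 = 1 := by rw [pow_two]; exact hA
  have h3 : π (v 0) = 1 := by
    have h4 := pow_gcd_eq_one.mpr ⟨h1, h2⟩
    have h5 : Nat.gcd w.length 2 = 1 := by
      rw [Nat.gcd_comm, Nat.gcd_rec, hodd]
      rfl
    rwa [h5, pow_one] at h4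
  apply normal_eq_top_of_gens K {y | ∃ x < 3, y = v x} hgen
  rintro y ⟨x, hx3, rfl⟩
  interval_cases x
  · exact h3
  · exact hB.trans h3
  · exact hB2.trans h3

end Cfsg.Agent.Lib.Helper12.Ord
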