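import Cfsg.Agent.Lib.Helper12.TCG.J1x25080.Rho
import Cfsg.Agent.Lib.Helper12.TCG.J1x266.Low
import Cfsg.Agent.Lib.Helper12.Ord.SimpleCrit
import Cfsg.Agent.Lib.Helper12.Ord.SubPres
import Cfsg.Agent.Lib.Helper12.Ord.RankN2

/-!
The group presented by `a^2 = b^3 = (ab)^7 = (ab(abab⁻¹)^3)^5 = (ab(abab⁻¹)^6abab(ab⁻¹)^2)^2 = 1` is simple of
order `175560`: the cyclic subgroup generated by `ab` has index `25080`, there is a maximal subgroup of index `266`
and the permutation representation on its cosets has an image of order at least `175560` (helper12).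
-/

set_option autoImplicit false

namespace Cfsg.Agent.Lib.Helper12.Ord.J1Simple

open Cfsg.Agent.Lib.Helper12.TC Cfsg.Agent.Lib.Helper12.TCG Cfsg.Agent.Lib.Helper12.TCG.J1Pres
  Cfsg.Agent.Lib.Helper12.Ord Cfsg.Agent.Lib.Helper12.TCG.J1x266

theorem ab_pow : (v 0 * v 1) ^ 7 = 1 := by
  have h := hbase [0, 1, 0, 1, 0, 1, 0, 1, 0, 1, 0, 1, 0, 1] (by decide)
  simpa [wprod, pow_succ, mul_assoc] using h

theorem finite_card_le : Finite Grp ∧ Nat.card Grp ≤ 175560 := by
  have h := card_closure_word_le v [0, 1] 7 (by decide) (by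
    rw [wprod_cons, wprod_cons, wprod_nil, mul_one]
    exact ab_pow)
  exact card_le_of_index J1x25080.Hs 25080 7 (by decide) J1x25080.rho_index h.1 h.2

instance finite : Finite Grp := finite_card_le.1

theorem card_eq : Nat.card Grp = 175560 :=
  le_antisymm finite_card_le.2 lower.1

theorem rho_injective : Function.Injective rho :=
  lower.2 finite_card_le.2

theorem card_Hs : Nat.card ↥Hs = 660 := by
  have h1 := Hs.index_mul_card
  rw [rho_index, card_eq] at h1
  have h2 : (266 : ℕ) * Nat.card ↥Hs = 266 * 660 := by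
    rw [show cN = 266 from rfl] at h1
    rw [h1]
  exact Nat.eq_of_mul_eq_mul_left (by decide) h2

/-- the lower ends of the orbits -/
def lo : Fin 5 → ℕ := ![0, 1, 133, 243, 254]

/-- the upper ends of the orbits -/
def hi : Fin 5 → ℕ := ![1, 133, 243, 254, 266]

/-- the orbit of a point -/
def cls (i : Fin cN) : Fin 5 :=
  if i.val < 1 then 0 else if i.val < 133 then 1 else if i.val < 243 then 2
  else if i.val < 254 then 3 else 4

theorem cls_spec : ∀ (i : Fin cN) (k : Fin 5), cls i = k ↔ lo k ≤ i.val ∧ i.val < hi k := by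
  intro i k
  have hi' : i.val < 266 := i.isLt
  unfold cls
  fin_cases k <;> simp only [lo, hi] <;> split_ifs <;> simp <;> omega

set_option maxRecDepth 100000 in
set_option synthInstance.maxSize 2048 in
theorem harith0 : ∀ I : Finset (Fin 5), 0 ∈ I → (∀ k ∈ I, hi k - lo k ≠ 0) →
    (∑ k ∈ I, (hi k - lo k)) ∣ cN →
    I = {0} ∨ (∀ k, hi k - lo k ≠ 0 → k ∈ I) ∨ I = {0, 1} := by
  decide +kernel

theorem tt_2_0 : TT 2 0 = 1 := by decide +kernel

theorem tt_2_2 : TT 2 2 = 133 := by decide +kernel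

theorem isCoatom_Hs : IsCoatom Hs := by
  obtain ⟨Φ, hΦ⟩ := rho_equiv
  have horb1 := Fn.orbit_image Hs v rho rho_gen hH Φ hN0 hΦ hsub (lo := 1) (hi := 133)
    (by decide) (by decide) horbi1 horbc1
  have horb2 := Fn.orbit_image Hs v rho rho_gen hH Φ hN0 hΦ hsub (lo := 133) (hi := 243)
    (by decide) (by decide) horbi2 horbc2
  have horb3 := Fn.orbit_image Hs v rho rho_gen hH Φ hN0 hΦ hsub (lo := 243) (hi := 254)
    (by decide) (by decide) horbi3 horbc3
  have horb4 := Fn.orbit_image Hs v rho rho_gen hH Φ hN0 hΦ hsub (lo := 254) (hi := 266)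
    (by decide) (by decide) horbi4 horbc4
  have hact : ∀ (γ : Grp) (q : Grp ⧸ Hs), Φ (γ • q) = rho γ (Φ q) := by
    intro γ q
    induction q using QuotientGroup.induction_on with
    | H δ =>
      have : γ • (δ : Grp ⧸ Hs) = ((γ * δ : Grp) : Grp ⧸ Hs) := rfl
      rw [this, hΦ, hΦ, map_mul, Equiv.Perm.mul_apply]
  have hΦ1 : Φ ((1 : Grp) : Grp ⧸ Hs) = ⟨0, hN0⟩ := by
    rw [hΦ, map_one]
    rfl
  have hb0 : (Φ (v 2 • ((1 : Grp) : Grp ⧸ Hs))).val = 1 := by
    rw [hact, hΦ1, rho_gen 2 (by decide)]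
    exact tt_2_0
  have hb2 : (Φ (v 2 • Φ.symm ⟨2, by decide⟩)).val = 133 := by
    rw [hact, Equiv.apply_symm_apply, rho_gen 2 (by decide)]
    exact tt_2_2
  have hcls1 : ∀ i : Fin cN, i.val = 1 → cls i = 1 := by
    intro i hi1
    rw [cls_spec]
    simp only [lo, hi]
    simp
    omega
  have hcls2 : ∀ i : Fin cN, i.val = 2 → cls i = 1 := by
    intro i hi1
    rw [cls_spec]
    simp only [lo, hi]
    simp
    omega
  have hcls133 : ∀ i : Fin cN, i.val = 133 → cls i = 2 := by
    intro i hi1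
    rw [cls_spec]
    simp only [lo, hi]
    simp
    omega
  refine isCoatom_of_orbit_classes_closed Hs Φ cls lo hi cls_spec ?_ rfl rfl ?_ ?_ (by decide) ?_
  · intro k
    fin_cases k <;> decide
  · rw [hΦ1]
  · intro k hk0 hk
    fin_cases k
    · exact absurd rfl hk0
    · exact horb1
    · exact horb2
    · exact horb3
    · exact horb4
  · intro I h0 hnz hdvd hcl
    have hwit := hcl (v 2) (Φ.symm ⟨2, by decide⟩)
    rw [hcls1 _ hb0, Equiv.apply_symm_apply, hcls2 _ rfl, hcls133 _ hb2] at hwit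
    rcases harith0 I h0 hnz hdvd with h | h | h
    · exact Or.inl h
    · exact Or.inr h
    · exfalso
      rw [h] at hwit
      exact absurd (hwit (by decide) (by decide)) (by decide)

theorem core_eq_bot : ∀ K : Subgroup Grp, K.Normal → K ≤ Hs → K = ⊥ := by
  obtain ⟨Φ, hΦ⟩ := rho_equiv
  exact core_eq_bot_of_injective Hs hN0 rho Φ hΦ rho_injective

theorem card_gt_one : 1 < Nat.card Grp := by
  rw [card_eq]; decide

/-- the presented group is simple -/
theorem isSimpleGroup : IsSimpleGroup Grp := by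
  have : Nontrivial Grp := Finite.one_lt_card_iff_nontrivial.mp card_gt_one
  refine isSimpleGroup_of_coatom_coprime Hs isCoatom_Hs core_eq_bot 660 7 card_Hs (by decide)
    (v 0 * v 1) ab_pow (fun K hK hx => ?_)
  exact normal_eq_top_of_ab v v_two v_zero_sq hgen [1, 1, 1] (hbase _ (by decide)) (by decide) (by decide)
    K hK hx

/-- the element `a` is not trivial -/
theorem v_zero_ne_one : v 0 ≠ 1 := by
  intro h
  have h1 := rho_gen 0 (by decide) ⟨1, by decide⟩
  rw [h, map_one] at h1
  exact absurd h1 (by decide +kernel)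

end Cfsg.Agent.Lib.Helper12.Ord.J1Simple
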