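import Cfsg.Agent.Lib.Helper12.TCG.M11x720.Rho
import Cfsg.Agent.Lib.Helper12.TCG.M11x11.Low
import Cfsg.Agent.Lib.Helper12.Ord.SimpleCrit
import Cfsg.Agent.Lib.Helper12.Ord.SubPres

/-!
The group presented by `a^2 = b^4 = (ab)^11 = (ab^2)^6 = ababab⁻¹abab^2ab⁻¹abab⁻¹ab⁻¹ = 1` is simple of order
`7920`: the cyclic subgroup generated by `ab` has index `720`, there is a subgroup of index `11` and the permutation
representation on its cosets has an image of order at least `7920` (helper12).
-/

set_option autoImplicit false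

namespace Cfsg.Agent.Lib.Helper12.Ord.M11Simple

open Cfsg.Agent.Lib.Helper12.TC Cfsg.Agent.Lib.Helper12.TCG Cfsg.Agent.Lib.Helper12.TCG.M11Pres
  Cfsg.Agent.Lib.Helper12.Ord

theorem ab_pow : (v 0 * v 1) ^ 11 = 1 := by
  have h := hbase [0, 1, 0, 1, 0, 1, 0, 1, 0, 1, 0, 1, 0, 1, 0, 1, 0, 1, 0, 1, 0, 1] (by decide)
  simpa [wprod, pow_succ, mul_assoc] using h

theorem finite_card_le : Finite Grp ∧ Nat.card Grp ≤ 7920 := by
  have h := card_closure_word_le v [0, 1] 11 (by decide) (by
    rw [wprod_cons, wprod_cons, wprod_nil, mul_one]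
    exact ab_pow)
  exact card_le_of_index M11x720.Hs 720 11 (by decide) M11x720.rho_index h.1 h.2

instance finite : Finite Grp := finite_card_le.1

theorem card_eq : Nat.card Grp = 7920 :=
  le_antisymm finite_card_le.2 M11x11.lower.1

theorem rho_injective : Function.Injective M11x11.rho :=
  M11x11.lower.2 finite_card_le.2

theorem card_Hs : Nat.card ↥M11x11.Hs = 720 := by
  have h1 := M11x11.Hs.index_mul_card
  rw [M11x11.rho_index, card_eq] at h1
  have h2 : (11 : ℕ) * Nat.card ↥M11x11.Hs = 11 * 720 := by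
    rw [show M11x11.cN = 11 from rfl] at h1
    rw [h1]
  exact Nat.eq_of_mul_eq_mul_left (by decide) h2

theorem isCoatom_Hs : IsCoatom M11x11.Hs :=
  isCoatom_of_index_prime M11x11.Hs 11 (by norm_num) M11x11.rho_index

theorem core_eq_bot : ∀ K : Subgroup Grp, K.Normal → K ≤ M11x11.Hs → K = ⊥ := by
  obtain ⟨Φ, hΦ⟩ := M11x11.rho_equiv
  exact core_eq_bot_of_injective M11x11.Hs M11x11.hN0 M11x11.rho Φ hΦ rho_injective

theorem card_gt_one : 1 < Nat.card Grp := by
  rw [card_eq]; decide

/-- the presented group is simple -/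
theorem isSimpleGroup : IsSimpleGroup Grp := by
  have : Nontrivial Grp := Finite.one_lt_card_iff_nontrivial.mp card_gt_one
  refine isSimpleGroup_of_coatom_coprime M11x11.Hs isCoatom_Hs core_eq_bot 720 11 card_Hs (by decide)
    (v 0 * v 1) ab_pow (fun K hK hx => ?_)
  exact normal_eq_top_of_ab v v_two v_zero_sq hgen
    [0, 1, 0, 1, 0, 2, 0, 1, 0, 1, 1, 0, 2, 0, 1, 0, 2, 0, 2] (hbase _ (by decide)) (by decide) (by decide)
    K hK hx

/-- the element `a` is not trivial -/
theorem v_zero_ne_one : v 0 ≠ 1 := by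
  intro h
  have h1 := M11x11.rho_gen 0 (by decide) ⟨1, by decide⟩
  rw [h, map_one] at h1
  exact absurd h1 (by decide +kernel)

end Cfsg.Agent.Lib.Helper12.Ord.M11Simple
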