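import Cfsg.Agent.Lib.Helper12.Ord.ONSimple
import Cfsg.Agent.Lib.Helper12.Ord.J1Simple
import Cfsg.Agent.Lib.Helper12.Ord.M11Simple
import Cfsg.Agent.Lib.Helper12.TC.Fn.LowerBase
import Cfsg.Agent.Lib.Helper12.S44.PermReal
import Cfsg.Prelude.Def_Sporadic

/-!
The presented O'Nan group as a permutation group on the `122760` cosets of the subgroup generated by `a`, ..., `f`,
and subgroups of it which are images of the presented groups of orders `175560` and `7920`: the relators hold for
words in the generators of the O'Nan group, since they fix a base of the permutation representation (helper12).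
-/

set_option autoImplicit false
set_option maxRecDepth 100000

namespace Cfsg.Agent.Lib.Helper12.Ord.ON460

open Cfsg.Spor Cfsg.Agent.Lib.Helper12.TC Cfsg.Agent.Lib.Helper12.TCG Cfsg.Agent.Lib.Helper12.TCG.ONPres
  Cfsg.Agent.Lib.Helper12.TCG.ONx122760 Cfsg.Agent.Lib.Helper12.Ord

/-- substitution of words for letters -/
theorem wprod_subst {G : Type*} [Group G] (u : ℕ → G) (sub : ℕ → List ℕ) (b : List ℕ) :
    wprod (fun s => wprod u (sub s)) b = wprod u (b.flatMap sub) := by
  induction b with
  | nil => rfl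
  | cons s l ih => rw [wprod_cons, List.flatMap_cons, wprod_append, ih]

/-- the check for a word to be trivial: its letters are generators, and it fixes the three base points -/
noncomputable def trivK (w : List ℕ) : Bool :=
  allListK w (fun s => Nat.blt s 8) &&
    allListK [(0, 122760), (110790, 5586), (68, 672)]
      (fun L => Nat.blt L.1 cN && Nat.beq (Fn.applyW TT w L.1) L.1)

/-- a word in the generators of the O'Nan group which fixes the three base points is trivial -/
theorem word_trivial (w : List ℕ) (h : trivK w = true) : wprod v w = 1 := by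
  unfold trivK at h
  rw [Bool.and_eq_true] at h
  have : Finite ON := ONOrder.finite
  exact Fn.word_trivial hN0 rho TT v 8 rho_gen _ hlevels (by rw [ONOrder.card_eq]; decide) w h.1 h.2

theorem v_zero_ne_one : v 0 ≠ 1 := by
  intro h
  have h1 := rho_gen 0 (by decide) ⟨2, by decide⟩
  rw [h, map_one] at h1
  exact absurd h1 (by decide +kernel)

/-- a homomorphism from a simple group which is not trivial is injective -/
theorem injective_of_simple {G K : Type*} [Group G] [Group K] (hs : IsSimpleGroup G) (ψ : G →* K)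
    (x : G) (hx : ψ x ≠ 1) : Function.Injective ψ := by
  rw [← MonoidHom.ker_eq_bot_iff]
  rcases hs.eq_bot_or_eq_top_of_normal ψ.ker inferInstance with h | h
  · exact h
  · exfalso
    apply hx
    have : x ∈ ψ.ker := by rw [h]; trivial
    exact MonoidHom.mem_ker.mp this

/-! ### the group of order `175560` -/

/-- the word for the generator of order three -/
def wbJ : List ℕ :=
  [3, 0, 1, 7, 4, 3, 2, 3, 6, 4, 1, 6, 5, 3, 4, 1, 2, 3, 2, 3, 4, 1, 2, 3, 1, 2, 3, 4, 1, 2, 3, 2, 0, 1, 4, 3, 2, 3, 4, 5]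

/-- the word for its inverse -/
def wBJ : List ℕ :=
  [5, 4, 3, 2, 3, 4, 1, 0, 2, 3, 2, 1, 4, 3, 2, 1, 3, 2, 1, 4, 3, 2, 3, 2, 1, 4, 3, 5, 7, 1, 4, 7, 3, 2, 3, 4, 6, 1, 0, 3]

/-- the words for the letters -/
def subJ : ℕ → List ℕ
  | 0 => [0]
  | 1 => wbJ
  | 2 => wBJ
  | _ => []

theorem chkJ : allListK J1Pres.baseL (fun b => trivK (b.flatMap subJ)) = true := by decide +kernel

theorem relsJ : ∀ b ∈ J1Pres.baseL, wprod (fun s => wprod v (subJ s)) b = 1 := by
  intro b hb
  rw [wprod_subst]
  exact word_trivial _ ((allListK_iff _ _).mp chkJ b hb)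

/-- an injective homomorphism from the presented group of order `175560` -/
theorem exists_hom_J : ∃ ψ : J1Pres.Grp →* ON, Function.Injective ψ := by
  obtain ⟨ψ, hψ⟩ := J1Pres.hliftG (fun s => wprod v (subJ s)) relsJ
  refine ⟨ψ, injective_of_simple J1Simple.isSimpleGroup ψ (J1Pres.v 0) ?_⟩
  rw [hψ 0 (by decide)]
  show wprod v [0] ≠ 1
  rw [wprod_cons, wprod_nil, mul_one]
  exact v_zero_ne_one

/-! ### the group of order `7920` -/

/-- the word for the generator of order four -/
def wbM : List ℕ :=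
  [1, 2, 7, 4, 3, 1, 2, 6, 4, 5, 3, 4, 2, 1, 6, 3, 2, 3, 0, 1, 2, 3, 4, 3, 1, 2, 3, 0, 1, 2, 3, 4, 3, 1, 2, 3, 1, 2, 0, 1, 4, 5, 4, 3, 2, 3]

/-- the word for its inverse -/
def wBM : List ℕ :=
  [3, 2, 3, 4, 5, 4, 1, 0, 2, 1, 3, 2, 1, 3, 4, 3, 2, 1, 0, 3, 2, 1, 3, 4, 3, 2, 1, 0, 3, 2, 3, 7, 1, 2, 4, 3, 5, 4, 7, 2, 1, 3, 4, 6, 2, 1]

/-- the words for the letters -/
def subM : ℕ → List ℕ
  | 0 => [0]
  | 1 => wbM
  | 2 => wBM
  | _ => []

theorem chkM : allListK M11Pres.baseL (fun b => trivK (b.flatMap subM)) = true := by decide +kernel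

theorem relsM : ∀ b ∈ M11Pres.baseL, wprod (fun s => wprod v (subM s)) b = 1 := by
  intro b hb
  rw [wprod_subst]
  exact word_trivial _ ((allListK_iff _ _).mp chkM b hb)

/-- an injective homomorphism from the presented group of order `7920` -/
theorem exists_hom_M : ∃ ψ : M11Pres.Grp →* ON, Function.Injective ψ := by
  obtain ⟨ψ, hψ⟩ := M11Pres.hliftG (fun s => wprod v (subM s)) relsM
  refine ⟨ψ, injective_of_simple M11Simple.isSimpleGroup ψ (M11Pres.v 0) ?_⟩
  rw [hψ 0 (by decide)]
  show wprod v [0] ≠ 1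
  rw [wprod_cons, wprod_nil, mul_one]
  exact v_zero_ne_one

/-! ### the permutation group -/

/-- the image of an injective homomorphism from a simple group of given order into a group, transported along an
isomorphism of that group -/
theorem exists_subgroup_of_hom {P G H : Type*} [Group P] [Group G] [Group H] (hs : IsSimpleGroup P) (n : ℕ)
    (hn : Nat.card P = n) (ψ : P →* G) (hψ : Function.Injective ψ) (ι : G ≃* H) :
    ∃ K : Subgroup H, IsSimpleGroup K ∧ Nat.card K = n := by
  let φ : P →* H := ι.toMonoidHom.comp ψ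
  have hφ : Function.Injective φ := ι.injective.comp hψ
  refine ⟨φ.range, (MonoidHom.ofInjective hφ).symm.isSimpleGroup, ?_⟩
  rw [← Nat.card_congr (MonoidHom.ofInjective hφ).toEquiv]
  exact hn

/-- the O'Nan group as a permutation group of degree `122760` with subgroups of orders `175560` and `7920` -/
theorem main : ∃ H : Subgroup (Equiv.Perm (Fin 122760)), Cfsg.IsON H ∧
    MulAction.IsPretransitive H (Fin 122760) ∧
    Nat.card (MulAction.stabilizer H (0 : Fin 122760)) = 3753792 ∧
    (∃ K : Subgroup H, Cfsg.IsJ1 K) ∧ (∃ K : Subgroup H, Cfsg.IsM11 K) := by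
  have hs : IsSimpleGroup ON := ONSimple.isSimpleGroup
  obtain ⟨ρ, hinj, htr, ⟨e⟩⟩ := Cfsg.Agent.Lib.Helper12.S44.exists_perm_realization hs Hs 122760
    (by norm_num) rho_index
  let ι : ON ≃* ρ.range := MonoidHom.ofInjective hinj
  refine ⟨ρ.range, ⟨ι.symm.isSimpleGroup, ?_⟩, htr, ?_, ?_, ?_⟩
  · rw [← Nat.card_congr ι.toEquiv]
    exact ONOrder.card_eq
  · rw [← Nat.card_congr e.toEquiv]
    exact ONOrder.card_Hs
  · obtain ⟨ψ, hψ⟩ := exists_hom_J
    exact exists_subgroup_of_hom J1Simple.isSimpleGroup 175560 J1Simple.card_eq ψ hψ ι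
  · obtain ⟨ψ, hψ⟩ := exists_hom_M
    exact exists_subgroup_of_hom M11Simple.isSimpleGroup 7920 M11Simple.card_eq ψ hψ ι

end Cfsg.Agent.Lib.Helper12.Ord.ON460
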