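import Mathlib

/-!
A group generated by elements satisfying the relations of the O'Nan presentation and `b c d g = 1` is trivial
(helper12).
-/

set_option autoImplicit false

namespace Cfsg.Agent.Lib.Helper12.Ord.ONTriv

theorem eq_one_of_pow_two_three {Q : Type*} [Group Q] (y : Q) (h2 : y ^ 2 = 1) (h3 : y ^ 3 = 1) :
    y = 1 := by
  have : y = y ^ 3 * (y ^ 2)⁻¹ := by group
  rw [this, h2, h3, inv_one, mul_one]

theorem eq_one_of_pow_three_four {Q : Type*} [Group Q] (y : Q) (h3 : y ^ 3 = 1) (h4 : y ^ 4 = 1) :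
    y = 1 := by
  have : y = y ^ 4 * (y ^ 3)⁻¹ := by group
  rw [this, h3, h4, inv_one, mul_one]

theorem pow_swap {Q : Type*} [Group Q] (x y : Q) (m : ℕ) (h : (x * y) ^ m = 1) : (y * x) ^ m = 1 := by
  have h1 : y * x = y * (x * y) * y⁻¹ := by group
  rw [h1, conj_pow, h, mul_one, mul_inv_cancel]

theorem eq_of_mul_eq_one_of_sq {Q : Type*} [Group Q] (x y : Q) (hy : y * y = 1) (h : x * y = 1) :
    x = y := by
  have : x = (x * y) * y⁻¹ := by group
  rw [this, h, one_mul]
  exact inv_eq_of_mul_eq_one_left hy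

/-- the relations of the O'Nan presentation (those that are needed) together with `b c d g = 1` make all
generators trivial -/
theorem trivial {Q : Type*} [Group Q] (a b c d e f g : Q)
    (ha : a * a = 1) (hb : b * b = 1) (hc : c * c = 1) (hd : d * d = 1)
    (hab : (a * b) ^ 3 = 1) (hbc : (b * c) ^ 3 = 1) (hde : (d * e) ^ 3 = 1) (hef : (e * f) ^ 3 = 1)
    (hac : (a * c) ^ 2 = 1) (had : (a * d) ^ 2 = 1) (hae : (a * e) ^ 2 = 1)
    (r0 : a * (f * (g⁻¹ * g⁻¹)) = 1)
    (r2 : c * (g⁻¹ * (d * (g⁻¹ * (d * (c * (d * (g * (d * g)))))))) = 1)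
    (r5 : g * (b * (c * (g * (c * (b * (g * (b * (c * (g * c))))))))) = 1)
    (hx : b * (c * (d * g)) = 1) :
    a = 1 ∧ b = 1 ∧ c = 1 ∧ d = 1 ∧ e = 1 ∧ f = 1 ∧ g = 1 := by
  have ib : b⁻¹ = b := inv_eq_of_mul_eq_one_left hb
  have ic : c⁻¹ = c := inv_eq_of_mul_eq_one_left hc
  have id : d⁻¹ = d := inv_eq_of_mul_eq_one_left hd
  have hd' : ∀ x : Q, d * (d * x) = x := fun x => by rw [← mul_assoc, hd, one_mul]
  have hc' : ∀ x : Q, c * (c * x) = x := fun x => by rw [← mul_assoc, hc, one_mul]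
  -- `g = d c b`
  have hg : g = d * (c * b) := by
    have h1 : g = (b * (c * d))⁻¹ := by
      rw [eq_inv_iff_mul_eq_one]
      have : g * (b * (c * d)) = g * (b * (c * (d * g))) * g⁻¹ := by group
      rw [this, hx, mul_one, mul_inv_cancel]
    rw [h1, mul_inv_rev, mul_inv_rev, ib, ic, id, mul_assoc]
  have hgi : g⁻¹ = b * (c * d) := by
    rw [hg, mul_inv_rev, mul_inv_rev, ib, ic, id, mul_assoc]
  -- `c b = 1`
  have h4 : (c * b) ^ 4 = 1 := by
    rw [hgi, hg] at r2
    simp only [mul_assoc, hd', hc'] at r2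
    simp only [pow_succ, pow_zero, one_mul, mul_assoc]
    exact r2
  have hcb : c * b = 1 := eq_one_of_pow_three_four _ (pow_swap _ _ _ hbc) h4
  have ecb : c = b := eq_of_mul_eq_one_of_sq c b hb hcb
  -- `a = b`
  have eab : a = b := by
    apply eq_of_mul_eq_one_of_sq a b hb
    apply eq_one_of_pow_two_three _ _ hab
    rw [← ecb]; exact hac
  -- `g = d`
  have egd : g = d := by rw [hg, hcb, mul_one]
  -- `f = a`
  have efa : f = a := by
    rw [egd, id, hd, mul_one] at r0
    have h1 : f = a⁻¹ := eq_inv_of_mul_eq_one_right r0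
    rw [h1]
    exact inv_eq_of_mul_eq_one_left ha
  -- `e = a`
  have eea : e = a := by
    apply eq_of_mul_eq_one_of_sq e a ha
    apply eq_one_of_pow_two_three _ (pow_swap _ _ _ hae)
    rw [← efa]; exact hef
  -- `d = a`
  have eda : d = a := by
    apply eq_of_mul_eq_one_of_sq d a ha
    apply eq_one_of_pow_two_three _ (pow_swap _ _ _ had)
    rw [← eea]; exact hde
  -- all generators are equal to `a`
  have ha1 : a = 1 := by
    rw [egd, ecb, ← eab, eda] at r5
    have ha' : ∀ x : Q, a * (a * x) = x := fun x => by rw [← mul_assoc, ha, one_mul]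
    simp only [ha'] at r5
    exact r5
  have hb1 : b = 1 := by rw [← eab, ha1]
  have hc1 : c = 1 := by rw [ecb, hb1]
  have hd1 : d = 1 := by rw [eda, ha1]
  have he1 : e = 1 := by rw [eea, ha1]
  have hf1 : f = 1 := by rw [efa, ha1]
  have hg1 : g = 1 := by rw [egd, hd1]
  exact ⟨ha1, hb1, hc1, hd1, he1, hf1, hg1⟩

end Cfsg.Agent.Lib.Helper12.Ord.ONTriv
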