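import Cfsg.Agent.Lib.Helper12.Ord.Rank3

/-!
Maximality of a subgroup whose orbits on its cosets are intervals, any number of them (helper12).
-/

set_option autoImplicit false

namespace Cfsg.Agent.Lib.Helper12.Ord

open MulAction

/-- a subgroup `H` whose orbits on its `N` cosets are the intervals `[lo k, hi k)`, the first of them `{0}`,
is maximal if no union of intervals containing the first, other than the first alone and all of them, has
a size dividing `N` -/
theorem isCoatom_of_orbit_classes {G : Type*} [Group G] (H : Subgroup G) {N : ℕ}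
    (Φ : G ⧸ H ≃ Fin N) {r : ℕ} (c : Fin N → Fin (r + 1)) (lo hi : Fin (r + 1) → ℕ)
    (hc : ∀ i k, c i = k ↔ lo k ≤ i.val ∧ i.val < hi k) (hhi : ∀ k, hi k ≤ N)
    (hlo0 : lo 0 = 0) (hhi0 : hi 0 = 1) (hΦ0 : (Φ ((1 : G) : G ⧸ H)).val = 0)
    (horb : ∀ k, k ≠ 0 → ∀ hk : lo k < N, Φ '' (orbit H (Φ.symm ⟨lo k, hk⟩)) =
      {i : Fin N | lo k ≤ i.val ∧ i.val < hi k})
    (hN : 1 < N)
    (harith : ∀ I : Finset (Fin (r + 1)), 0 ∈ I → (∀ k ∈ I, hi k - lo k ≠ 0) →
      (∑ k ∈ I, (hi k - lo k)) ∣ N → I = {0} ∨ ∀ k, hi k - lo k ≠ 0 → k ∈ I) :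
    IsCoatom H := by
  classical
  have hstab : stabilizer G ((1 : G) : G ⧸ H) = H := stabilizer_quotient H
  rw [← hstab]
  have hfinQ : Finite (G ⧸ H) := Finite.of_equiv _ Φ.symm
  let cq : G ⧸ H → Fin (r + 1) := fun q => c (Φ q)
  have hc0 : ∀ q, cq q = 0 ↔ (Φ q).val = 0 := by
    intro q
    show c (Φ q) = 0 ↔ _
    rw [hc, hlo0, hhi0]
    omega
  have hx0 : cq ((1 : G) : G ⧸ H) = 0 := (hc0 _).mpr hΦ0
  have hsame : ∀ (b : Fin N) (S : Set (Fin N)), Φ '' (orbit H (Φ.symm b)) = S →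
      ∀ y y' : G ⧸ H, Φ y ∈ S → Φ y' ∈ S → ∃ h ∈ stabilizer G ((1 : G) : G ⧸ H), h • y = y' := by
    intro b S hS y y' hy hy'
    rw [← hS] at hy hy'
    obtain ⟨z, hz, hzy⟩ := hy
    obtain ⟨z', hz', hzy'⟩ := hy'
    have e1 : z = y := Φ.injective hzy
    have e2 : z' = y' := Φ.injective hzy'
    rw [e1] at hz
    rw [e2] at hz'
    obtain ⟨⟨h1, hh1⟩, rfl⟩ := hz
    obtain ⟨⟨h2, hh2⟩, rfl⟩ := hz'
    refine ⟨h2 * h1⁻¹, ?_, ?_⟩
    · rw [hstab]; exact H.mul_mem hh2 (H.inv_mem hh1)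
    · show (h2 * h1⁻¹) • (h1 • Φ.symm b) = h2 • Φ.symm b
      rw [smul_smul, inv_mul_cancel_right]
  apply isCoatom_stabilizer_of_classes (G := G) (X := G ⧸ H) (ι := Fin (r + 1)) ((1 : G) : G ⧸ H)
    Set.univ (Set.toFinite _) _ cq _ (fun k => hi k - lo k) _ _ _ _
  · intro y
    refine ⟨fun _ => ?_, fun _ => trivial⟩
    induction y using QuotientGroup.induction_on with
    | H g => exact ⟨g, by
        show ((g * 1 : G) : G ⧸ H) = (g : G ⧸ H)
        rw [mul_one]⟩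
  · intro y _ y' _ hcc
    by_cases h : cq y = 0
    · have h' : cq y' = 0 := hcc ▸ h
      have e1 := (hc0 y).mp h
      have e2 := (hc0 y').mp h'
      have : y = y' := Φ.injective (Fin.ext (e1.trans e2.symm))
      exact ⟨1, (stabilizer G _).one_mem, by rw [one_smul, this]⟩
    · have h1 : lo (cq y) ≤ (Φ y).val ∧ (Φ y).val < hi (cq y) := (hc (Φ y) (cq y)).mp rfl
      have h2 : lo (cq y) ≤ (Φ y').val ∧ (Φ y').val < hi (cq y) := (hc (Φ y') (cq y)).mp hcc.symm
      have hk : lo (cq y) < N := lt_of_le_of_lt h1.1 (Φ y).isLt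
      exact hsame _ _ (horb (cq y) h hk) y y' h1 h2
  · intro k
    have himg : ∀ S : Set (Fin N), {y : G ⧸ H | Φ y ∈ S}.ncard = S.ncard := by
      intro S
      rw [← Set.ncard_image_of_injective _ Φ.injective]
      congr 1
      ext j
      constructor
      · rintro ⟨y, hy, rfl⟩; exact hy
      · intro hj; exact ⟨Φ.symm j, by show Φ (Φ.symm j) ∈ S; rw [Equiv.apply_symm_apply]; exact hj,
          Equiv.apply_symm_apply _ _⟩
    have : {y : G ⧸ H | y ∈ Set.univ ∧ cq y = k} =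
        {y | Φ y ∈ ({j : Fin N | lo k ≤ j.val ∧ j.val < hi k} : Set (Fin N))} := by
      ext y
      simp only [Set.mem_univ, true_and, Set.mem_ofPred_eq]
      exact hc (Φ y) k
    rw [this, himg, ncard_interval_fin (hhi k)]
  · intro y _ hcy
    rw [hx0] at hcy
    exact Φ.injective (Fin.ext (((hc0 y).mp hcy).trans hΦ0.symm))
  · refine ⟨Φ.symm ⟨1, hN⟩, trivial, fun h => ?_⟩
    have := congrArg (fun q => (Φ q).val) h
    simp only [Equiv.apply_symm_apply] at this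
    omega
  · intro I hI hnz hdvd
    rw [hx0] at hI ⊢
    have hY : (Set.univ : Set (G ⧸ H)).ncard = N := by
      rw [Set.ncard_univ, Nat.card_congr Φ, Nat.card_fin]
    rw [hY] at hdvd
    exact harith I hI hnz hdvd

end Cfsg.Agent.Lib.Helper12.Ord
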