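import Cfsg.Agent.Lib.Helper12.Ord.ONOrder
import Cfsg.Agent.Lib.Helper12.Ord.ONTriv
import Cfsg.Agent.Lib.Helper12.Ord.RankN

/-!
The presented O'Nan group is simple (helper12).

The subgroup `Hs` generated by `a`, ..., `f` is maximal (no union of its orbits on its cosets has a size dividing
the number of cosets) and contains no normal subgroup other than the trivial one (the permutation representation is
faithful).  So a normal subgroup `K` other than the trivial one has an index dividing the order of `Hs`, which is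
prime to `5`; then `K` contains `b c d g`, whose fifth power is `1`, and modulo `b c d g` the relations make all
generators trivial.
-/

set_option autoImplicit false

namespace Cfsg.Agent.Lib.Helper12.Ord.ONSimple

open Cfsg.Spor Cfsg.Agent.Lib.Helper12.TC Cfsg.Agent.Lib.Helper12.TCG Cfsg.Agent.Lib.Helper12.TCG.ONPres
  Cfsg.Agent.Lib.Helper12.TCG.ONx122760 Cfsg.Agent.Lib.Helper12.Ord

/-- the lower ends of the orbits -/
def lo : Fin 5 → ℕ := ![0, 1, 58654, 110790, 116376]

/-- the upper ends of the orbits -/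
def hi : Fin 5 → ℕ := ![1, 58654, 110790, 116376, 122760]

/-- the orbit of a point -/
def cls (i : Fin cN) : Fin 5 :=
  if i.val < 1 then 0 else if i.val < 58654 then 1 else if i.val < 110790 then 2
  else if i.val < 116376 then 3 else 4

theorem cls_spec : ∀ (i : Fin cN) (k : Fin 5), cls i = k ↔ lo k ≤ i.val ∧ i.val < hi k := by
  intro i k
  have hi' : i.val < 122760 := i.isLt
  unfold cls
  fin_cases k <;> simp only [lo, hi] <;> split_ifs <;> simp <;> omega

theorem harith : ∀ I : Finset (Fin 5), 0 ∈ I → (∀ k ∈ I, hi k - lo k ≠ 0) →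
    (∑ k ∈ I, (hi k - lo k)) ∣ cN → I = {0} ∨ ∀ k, hi k - lo k ≠ 0 → k ∈ I := by
  decide

theorem isCoatom_H : IsCoatom Hs := by
  obtain ⟨Φ, hΦ⟩ := rho_equiv
  have horb1 := Fn.orbit_image Hs v rho rho_gen hH Φ hN0 hΦ hsub (lo := 1) (hi := 58654)
    (by decide) (by decide) horbi1 horbc1
  have horb2 := Fn.orbit_image Hs v rho rho_gen hH Φ hN0 hΦ hsub (lo := 58654) (hi := 110790)
    (by decide) (by decide) horbi2 horbc2
  have horb3 := Fn.orbit_image Hs v rho rho_gen hH Φ hN0 hΦ hsub (lo := 110790) (hi := 116376)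
    (by decide) (by decide) horbi3 horbc3
  have horb4 := Fn.orbit_image Hs v rho rho_gen hH Φ hN0 hΦ hsub (lo := 116376) (hi := 122760)
    (by decide) (by decide) horbi4 horbc4
  refine isCoatom_of_orbit_classes Hs Φ cls lo hi cls_spec ?_ rfl rfl ?_ ?_ (by decide) harith
  · intro k
    fin_cases k <;> decide
  · rw [hΦ, map_one]
    rfl
  · intro k hk0 hk
    fin_cases k
    · exact absurd rfl hk0
    · exact horb1
    · exact horb2
    · exact horb3
    · exact horb4

theorem core_eq_bot : ∀ K : Subgroup ON, K.Normal → K ≤ Hs → K = ⊥ := by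
  intro K hK hle
  obtain ⟨Φ, hΦ⟩ := rho_equiv
  rw [eq_bot_iff]
  intro n hn
  rw [Subgroup.mem_bot]
  apply ONOrder.rho_injective
  rw [map_one]
  ext i
  obtain ⟨q, rfl⟩ := Φ.surjective i
  induction q using QuotientGroup.induction_on with
  | H γ =>
    have h1 : ((n * γ : ON) : ON ⧸ Hs) = (γ : ON ⧸ Hs) := by
      rw [QuotientGroup.eq]
      have : (n * γ)⁻¹ * γ = γ⁻¹ * n⁻¹ * γ⁻¹⁻¹ := by group
      rw [this]
      exact hle (hK.conj_mem _ (K.inv_mem hn) _)
    have h2 := congrArg Φ h1
    rw [hΦ, hΦ, map_mul, Equiv.Perm.mul_apply] at h2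
    rw [hΦ, h2]
    rfl

/-- the base words as equations -/
theorem base_eq {Q : Type*} [Group Q] (π : ON →* Q) (b : List ℕ) (hb : b ∈ baseL) :
    wprod (fun i => π (v i)) b = 1 := by
  have h := hbase b hb
  have e : ∀ l : List ℕ, wprod (fun i => π (v i)) l = π (wprod v l) := by
    intro l
    induction l with
    | nil => rw [wprod_nil, wprod_nil, map_one]
    | cons s l ih => rw [wprod_cons, wprod_cons, ih, map_mul]
  rw [e, h, map_one]

/-- a homomorphism killing `b c d g` is trivial -/
theorem hom_trivial {Q : Type*} [Group Q] (π : ON →* Q) (hx : π (v 1 * (v 2 * (v 3 * v 6))) = 1) :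
    ∀ γ : ON, π γ = 1 := by
  have h7 : π (v 7) = (π (v 6))⁻¹ := by
    have := hvinv 6 (by decide)
    rw [show invS ONPres.cIV 6 = 7 from by decide] at this
    rw [this, map_inv]
  have hw : ∀ b ∈ baseL, wprod (fun i => π (v i)) b = 1 := fun b hb => base_eq π b hb
  have hall := ONTriv.trivial (π (v 0)) (π (v 1)) (π (v 2)) (π (v 3)) (π (v 4)) (π (v 5)) (π (v 6))
    (by simpa [wprod] using hw [0, 0] (by decide))
    (by simpa [wprod] using hw [1, 1] (by decide))
    (by simpa [wprod] using hw [2, 2] (by decide))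
    (by simpa [wprod] using hw [3, 3] (by decide))
    (by simpa [wprod, pow_succ, mul_assoc] using hw [0, 1, 0, 1, 0, 1] (by decide))
    (by simpa [wprod, pow_succ, mul_assoc] using hw [1, 2, 1, 2, 1, 2] (by decide))
    (by simpa [wprod, pow_succ, mul_assoc] using hw [3, 4, 3, 4, 3, 4] (by decide))
    (by simpa [wprod, pow_succ, mul_assoc] using hw [4, 5, 4, 5, 4, 5] (by decide))
    (by simpa [wprod, pow_succ, mul_assoc] using hw [0, 2, 0, 2] (by decide))
    (by simpa [wprod, pow_succ, mul_assoc] using hw [0, 3, 0, 3] (by decide))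
    (by simpa [wprod, pow_succ, mul_assoc] using hw [0, 4, 0, 4] (by decide))
    (by simpa [wprod, h7] using hw [0, 5, 7, 7] (by decide))
    (by simpa [wprod, h7] using hw [2, 7, 3, 7, 3, 2, 3, 6, 3, 6] (by decide))
    (by simpa [wprod] using hw [6, 1, 2, 6, 2, 1, 6, 1, 2, 6, 2] (by decide))
    (by simpa [map_mul] using hx)
  obtain ⟨h0, h1, h2, h3, h4, h5, h6⟩ := hall
  have hgen : ∀ x < 8, π (v x) = 1 := by
    intro x hx8
    interval_cases x
    · exact h0
    · exact h1
    · exact h2
    · exact h3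
    · exact h4
    · exact h5
    · exact h6
    · rw [h7, h6, inv_one]
  intro γ
  refine Subgroup.closure_induction (p := fun γ _ => π γ = 1) ?_ ?_ ?_ ?_ (ONPres.hgen γ)
  · rintro y ⟨x, hx8, rfl⟩
    exact hgen x hx8
  · exact map_one π
  · intro x y _ _ hx hy
    rw [map_mul, hx, hy, mul_one]
  · intro x _ hx
    rw [map_inv, hx, inv_one]

theorem card_gt_one : 1 < Nat.card ON := by
  rw [ONOrder.card_eq]; decide

/-- the fifth power of `b c d g` -/
theorem pow_five : (v 1 * (v 2 * (v 3 * v 6))) ^ 5 = 1 := by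
  have h := hbase [1, 2, 3, 6, 1, 2, 3, 6, 1, 2, 3, 6, 1, 2, 3, 6, 1, 2, 3, 6] (by decide)
  simpa [wprod, pow_succ, mul_assoc] using h

/-- the presented group is simple -/
theorem isSimpleGroup : IsSimpleGroup ON := by
  have : Finite ON := ONOrder.finite
  have : Nontrivial ON := Finite.one_lt_card_iff_nontrivial.mp card_gt_one
  refine ⟨fun K hK => ?_⟩
  by_cases hle : K ≤ Hs
  · exact Or.inl (core_eq_bot K hK hle)
  · right
    have hsup : Hs ⊔ K = ⊤ := by
      apply isCoatom_H.2
      apply lt_of_le_of_ne le_sup_left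
      intro h
      exact hle (h ▸ le_sup_right)
    -- the index of `K` divides the order of `Hs`
    have hidx : K.index ∣ 3753792 := by
      rw [← ONOrder.card_Hs, ← Subgroup.relIndex_top_right, ← hsup, Subgroup.relIndex_sup_right]
      exact Subgroup.relIndex_dvd_card K Hs
    -- so `b c d g` is in `K`
    have hx : (QuotientGroup.mk' K) (v 1 * (v 2 * (v 3 * v 6))) = 1 := by
      have h1 : ((QuotientGroup.mk' K) (v 1 * (v 2 * (v 3 * v 6)))) ^ 5 = 1 := by
        rw [← map_pow, pow_five, map_one]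
      have h2 : ((QuotientGroup.mk' K) (v 1 * (v 2 * (v 3 * v 6)))) ^ Nat.card (ON ⧸ K) = 1 :=
        pow_card_eq_one'
      have h3 : Nat.card (ON ⧸ K) = K.index := rfl
      rw [h3] at h2
      have h4 : Nat.Coprime 5 K.index :=
        Nat.Coprime.coprime_dvd_right hidx (by decide)
      have h5 := pow_gcd_eq_one.mpr ⟨h1, h2⟩
      rw [Nat.Coprime.gcd_eq_one h4, pow_one] at h5
      exact h5
    have htriv := hom_trivial (QuotientGroup.mk' K) hx
    rw [eq_top_iff]
    intro γ _
    exact (QuotientGroup.eq_one_iff γ).mp (htriv γ)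

end Cfsg.Agent.Lib.Helper12.Ord.ONSimple
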