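import Cfsg.Agent.Lib.Helper12.Ord.SubPres

/-!
Subgroups generated by a part of the generators of a Coxeter style presentation are homomorphic images
of groups presented on that part by relators that hold in the large group (helper12).
-/

set_option autoImplicit false

namespace Cfsg.Agent.Lib.Helper12.Ord

open Cfsg.Spor

section

variable {α β : Type} [DecidableEq α] [DecidableEq β]
  (edges : List (α × ℕ × α)) (extra : List (FreeGroup α))
  (edges' : List (β × ℕ × β)) (extra' : List (FreeGroup β)) (ι : β → α)

/-- the homomorphism from the group presented on a part of the generators, the further relators being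
known to hold in the large group -/
theorem subpres_hom_of_holds
    (hnodes : ∀ x ∈ coxNodes edges', ι x ∈ coxNodes edges)
    (hlab : ∀ x ∈ coxNodes edges', ∀ y ∈ coxNodes edges',
      coxLabel edges (ι x) (ι y) = coxLabel edges' x y)
    (hextra : ∀ r ∈ extra', PresentedGroup.mk (coxRelators edges ∪ {r | r ∈ extra})
      (FreeGroup.map ι r) = 1) :
    ∃ φ : PresentedGroup (coxRelators edges' ∪ {r | r ∈ extra'}) →*
        PresentedGroup (coxRelators edges ∪ {r | r ∈ extra}),
      φ.range = (Subgroup.closure (Set.range fun y : β => (FreeGroup.of (ι y) : FreeGroup α))).map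
        (PresentedGroup.mk (coxRelators edges ∪ {r | r ∈ extra})) := by
  set rels := coxRelators edges ∪ {r | r ∈ extra} with hrels
  set rels' := coxRelators edges' ∪ {r | r ∈ extra'} with hrels'
  let f : β → PresentedGroup rels := fun y => PresentedGroup.mk rels (FreeGroup.of (ι y))
  have hlift : FreeGroup.lift f = (PresentedGroup.mk rels).comp (FreeGroup.map ι) := by
    ext y
    simp [f]
  have hf : ∀ r ∈ rels', FreeGroup.lift f r = 1 := by
    intro r hr
    rw [hlift, MonoidHom.comp_apply]
    rcases hr with hr | hr
    · apply PresentedGroup.one_of_mem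
      obtain ⟨x, hx, y, hy, rfl⟩ := hr
      left
      refine ⟨ι x, hnodes x hx, ι y, hnodes y hy, ?_⟩
      rw [map_pow, map_mul, FreeGroup.map.of, FreeGroup.map.of, hlab x hx y hy]
    · exact hextra r hr
  refine ⟨PresentedGroup.toGroup hf, ?_⟩
  rw [MonoidHom.range_eq_map, ← PresentedGroup.closure_range_of rels', MonoidHom.map_closure,
    MonoidHom.map_closure]
  congr 1
  ext γ
  constructor
  · rintro ⟨_, ⟨y, rfl⟩, rfl⟩
    refine ⟨FreeGroup.of (ι y), ⟨y, rfl⟩, ?_⟩
    rw [PresentedGroup.toGroup.of]
  · rintro ⟨_, ⟨y, rfl⟩, rfl⟩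
    refine ⟨PresentedGroup.of y, ⟨y, rfl⟩, ?_⟩
    rw [PresentedGroup.toGroup.of]

/-- the order of the subgroup generated by a part of the generators is at most the order of the group
presented on that part by relators that hold in the large group -/
theorem subpres_card_le_of_holds
    (hnodes : ∀ x ∈ coxNodes edges', ι x ∈ coxNodes edges)
    (hlab : ∀ x ∈ coxNodes edges', ∀ y ∈ coxNodes edges',
      coxLabel edges (ι x) (ι y) = coxLabel edges' x y)
    (hextra : ∀ r ∈ extra', PresentedGroup.mk (coxRelators edges ∪ {r | r ∈ extra})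
      (FreeGroup.map ι r) = 1)
    (hfin : Finite (PresentedGroup (coxRelators edges' ∪ {r | r ∈ extra'}))) :
    Finite ↥((Subgroup.closure (Set.range fun y : β => (FreeGroup.of (ι y) : FreeGroup α))).map
        (PresentedGroup.mk (coxRelators edges ∪ {r | r ∈ extra}))) ∧
    Nat.card ↥((Subgroup.closure (Set.range fun y : β => (FreeGroup.of (ι y) : FreeGroup α))).map
        (PresentedGroup.mk (coxRelators edges ∪ {r | r ∈ extra}))) ≤
      Nat.card (PresentedGroup (coxRelators edges' ∪ {r | r ∈ extra'})) := by
  obtain ⟨φ, hφ⟩ := subpres_hom_of_holds edges extra edges' extra' ι hnodes hlab hextra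
  rw [← hφ]
  have hs : Function.Surjective φ.rangeRestrict := φ.rangeRestrict_surjective
  exact ⟨Finite.of_surjective _ hs, Nat.card_le_card_of_surjective _ hs⟩

end

end Cfsg.Agent.Lib.Helper12.Ord
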