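import Cfsg.Agent.Lib.Helper12.TC.SuzP3x2160.Link
import Cfsg.Agent.Lib.Helper12.TC.SuzP2x280.Link
import Cfsg.Agent.Lib.Helper12.TC.SuzP1x416.Link
import Cfsg.Agent.Lib.Helper12.TC.Suz1782.Link
import Cfsg.Agent.Lib.Helper12.TC.Suzo22880.Low

/-!
The order of the presented group Suz, and the faithfulness of its permutation representation
(generated, helper12).
-/

set_option autoImplicit false

namespace Cfsg.Agent.Lib.Helper12.Ord.SuzOrder

open Cfsg.Agent.Lib.Helper12.TC

theorem finite_card_le : Finite Cfsg.Spor.Suz ∧ Nat.card Cfsg.Spor.Suz ≤ 448345497600 := by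
  obtain ⟨f0, c0⟩ := SuzP3x2160.card_eq
  obtain ⟨f1, c1⟩ := SuzP2x280.card_le f0 _ (le_of_eq c0)
  obtain ⟨f2, c2⟩ := SuzP1x416.card_le f1 _ c1
  obtain ⟨f3, c3⟩ := Suz1782.card_le f2 _ c2
  exact ⟨f3, c3⟩

theorem finite : Finite Cfsg.Spor.Suz := finite_card_le.1

theorem card_eq : Nat.card Cfsg.Spor.Suz = 448345497600 := by
  have := finite
  exact le_antisymm finite_card_le.2 Suzo22880.lower.1

theorem rho_injective : Function.Injective Suzo22880.rho := by
  have := finite
  exact Suzo22880.lower.2 finite_card_le.2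

end Cfsg.Agent.Lib.Helper12.Ord.SuzOrder
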