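import Cfsg.Agent.Lib.Helper12.Ord.SuzOrder
import Cfsg.Agent.Lib.Helper12.Ord.Iwasawa2
import Cfsg.Agent.Lib.Helper12.Ord.RankN
import Cfsg.Agent.Lib.Helper12.Ord.Words
import Cfsg.Agent.Lib.Helper12.Ord.Invol

/-!
The presented group Suz is simple (helper12).
-/

set_option autoImplicit false

namespace Cfsg.Agent.Lib.Helper12.Ord.SuzSimple

open Cfsg.Spor Cfsg.Agent.Lib.Helper12.TC Cfsg.Agent.Lib.Helper12.TC.Suzo22880
  Cfsg.Agent.Lib.Helper12.TC.SuzPres Cfsg.Agent.Lib.Helper12.Ord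

/-- the relators -/
abbrev R : Set (FreeGroup Suz.Gen) := coxRelators Suz.edges ∪ {r | r ∈ Suz.extra}

/-- the generators -/
noncomputable def v (i : ℕ) : PresentedGroup R := PresentedGroup.mk R (FreeGroup.of (gen i))

/-- the subgroup -/
abbrev Hs : Subgroup (PresentedGroup R) := (Subgroup.closure S).map (PresentedGroup.mk R)

theorem hH : Hs = Subgroup.closure {γ | ∃ w ∈ sw, γ = wprod v w} := by
  show (Subgroup.closure S).map (PresentedGroup.mk R) = _
  rw [MonoidHom.map_closure, hS]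
  rfl

theorem hmk : ∀ r ∈ R, PresentedGroup.mk R r = 1 := fun _ hr => PresentedGroup.one_of_mem hr

theorem hsq : ∀ y : Suz.Gen, PresentedGroup.mk R (FreeGroup.of y) * PresentedGroup.mk R (FreeGroup.of y)
    = 1 :=
  cox_sq_of_hom Suz.edges (PresentedGroup.mk R) hnodes (fun r hr => hmk r (Or.inl hr))

theorem hvsq : ∀ s, v s * v s = 1 := fun s => hsq (gen s)

theorem hcox (x y : Suz.Gen) (m : ℕ) (h : coxLabel Suz.edges x y = m) :
    (PresentedGroup.mk R (FreeGroup.of x) * PresentedGroup.mk R (FreeGroup.of y)) ^ m = 1 := by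
  rw [← map_mul, ← map_pow]
  apply hmk
  left
  exact ⟨x, hnodes x, y, hnodes y, by rw [h]⟩

/-- the element generating the normal subgroup of order three of the subgroup -/
noncomputable def tt : PresentedGroup R := uu 7

theorem tt_eq : tt = (v 1 * v 2 * v 3 * v 2 * v 3) ^ 5 := by
  have h1 : uu (7 + 0) = wprod uu [1, 2, 3, 2, 3, 1, 2, 3, 2, 3, 1, 2, 3, 2, 3, 1, 2, 3, 2, 3,
      1, 2, 3, 2, 3] := uu_spec 0 _ rfl
  have h2 : wprod uu [1, 2, 3, 2, 3, 1, 2, 3, 2, 3, 1, 2, 3, 2, 3, 1, 2, 3, 2, 3,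
      1, 2, 3, 2, 3] = wprod v [1, 2, 3, 2, 3, 1, 2, 3, 2, 3, 1, 2, 3, 2, 3, 1, 2, 3, 2, 3,
      1, 2, 3, 2, 3] :=
    Fn.wprod_congr _ _ _ (fun s hs => uu_gen s (by revert s; decide))
  show uu (7 + 0) = _
  rw [h1, h2]
  simp only [wprod_cons, wprod_nil, pow_succ, pow_zero, one_mul, mul_one, mul_assoc]

theorem mk_a : PresentedGroup.mk R (FreeGroup.of Suz.Gen.a) = v 0 := rfl
theorem mk_b : PresentedGroup.mk R (FreeGroup.of Suz.Gen.b) = v 1 := rfl
theorem mk_c : PresentedGroup.mk R (FreeGroup.of Suz.Gen.c) = v 2 := rfl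
theorem mk_d : PresentedGroup.mk R (FreeGroup.of Suz.Gen.d) = v 3 := rfl
theorem mk_e : PresentedGroup.mk R (FreeGroup.of Suz.Gen.e) = v 4 := rfl
theorem mk_f : PresentedGroup.mk R (FreeGroup.of Suz.Gen.f) = v 5 := rfl
theorem mk_g : PresentedGroup.mk R (FreeGroup.of Suz.Gen.g) = v 6 := rfl

/-- the first of the further relations -/
theorem rel_a : v 0 = (v 2 * v 3) ^ 4 := by
  have h : PresentedGroup.mk R (Suz.a * ((Suz.c * Suz.d) ^ 4)⁻¹) = 1 := by
    apply hmk
    right
    exact List.mem_cons_self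
  rw [map_mul, map_inv, map_pow, map_mul, mul_inv_eq_one] at h
  exact h

/-- the last of the further relations -/
theorem rel_e : (tt * v 4) ^ 3 = 1 := by
  have h : PresentedGroup.mk R (((Suz.b * Suz.c * Suz.d * Suz.c * Suz.d) ^ 5 * Suz.e) ^ 3) = 1 := by
    apply hmk
    right
    exact List.mem_cons_of_mem _ (List.mem_cons_of_mem _ (List.mem_cons_of_mem _
      (List.mem_cons_of_mem _ List.mem_cons_self)))
  rw [map_pow, map_mul, map_pow, map_mul, map_mul, map_mul, map_mul] at h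
  rw [tt_eq]
  exact h

/-- a homomorphism killing `tt` kills all generators -/
theorem map_gen_eq_one {Q : Type*} [Group Q] (π : PresentedGroup R →* Q) (h : π tt = 1) :
    ∀ s, s < 7 → π (v s) = 1 := by
  have hq : ∀ s, π (v s) * π (v s) = 1 := fun s => by rw [← map_mul, hvsq, map_one]
  have hbr : ∀ (x y : Suz.Gen) (m : ℕ), coxLabel Suz.edges x y = m →
      (π (PresentedGroup.mk R (FreeGroup.of x)) * π (PresentedGroup.mk R (FreeGroup.of y))) ^ m = 1 := by
    intro x y m hm
    rw [← map_mul, ← map_pow, hcox x y m hm, map_one]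
  have he : π (v 4) = 1 := by
    have h1 : (π tt * π (v 4)) ^ 3 = 1 := by rw [← map_mul, ← map_pow, rel_e, map_one]
    exact eq_one_of_odd_braid _ _ (hq 4) 1 h1 h
  have hd : π (v 3) = 1 := eq_one_of_odd_braid' _ _ (hq 3) 1 (hbr .d .e 3 (by decide)) he
  have ha : π (v 0) = 1 := by
    rw [rel_a, map_pow, map_mul, hd, mul_one]
    have : π (v 2) ^ 4 = (π (v 2) * π (v 2)) * (π (v 2) * π (v 2)) := by
      simp only [pow_succ, pow_zero, one_mul, mul_assoc]
    rw [this, hq, one_mul]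
  have hb : π (v 1) = 1 := eq_one_of_odd_braid _ _ (hq 1) 2 (hbr .a .b 5 (by decide)) ha
  have hc : π (v 2) = 1 := eq_one_of_odd_braid _ _ (hq 2) 1 (hbr .b .c 3 (by decide)) hb
  have hf : π (v 5) = 1 := eq_one_of_odd_braid _ _ (hq 5) 1 (hbr .b .f 3 (by decide)) hb
  have hg : π (v 6) = 1 := eq_one_of_odd_braid' _ _ (hq 6) 1 (hbr .g .b 3 (by decide)) hb
  intro s hs
  interval_cases s <;> assumption

theorem closure_range_v : Subgroup.closure {γ | ∃ s, s < 7 ∧ γ = v s} =
    (⊤ : Subgroup (PresentedGroup R)) := by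
  rw [eq_top_iff, ← PresentedGroup.closure_range_of R, Subgroup.closure_le]
  rintro _ ⟨y, rfl⟩
  apply Subgroup.subset_closure
  cases y
  · exact ⟨0, by decide, rfl⟩
  · exact ⟨1, by decide, rfl⟩
  · exact ⟨2, by decide, rfl⟩
  · exact ⟨3, by decide, rfl⟩
  · exact ⟨4, by decide, rfl⟩
  · exact ⟨5, by decide, rfl⟩
  · exact ⟨6, by decide, rfl⟩

theorem normalClosure_eq_top : Subgroup.normalClosure {tt} = (⊤ : Subgroup (PresentedGroup R)) := by
  set N : Subgroup (PresentedGroup R) := Subgroup.normalClosure {tt} with hN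
  have h1 : QuotientGroup.mk' N tt = 1 := by
    rw [QuotientGroup.mk'_apply, QuotientGroup.eq_one_iff]
    exact Subgroup.subset_normalClosure rfl
  have h2 := map_gen_eq_one (QuotientGroup.mk' N) h1
  rw [eq_top_iff, ← closure_range_v, Subgroup.closure_le]
  rintro _ ⟨s, hs, rfl⟩
  have := h2 s hs
  rwa [QuotientGroup.mk'_apply, QuotientGroup.eq_one_iff] at this

theorem commutator_eq_top : commutator (PresentedGroup R) = ⊤ := by
  set π := (Abelianization.of : PresentedGroup R →* Abelianization (PresentedGroup R)) with hπ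
  have hq : ∀ s, π (v s) * π (v s) = 1 := fun s => by rw [← map_mul, hvsq, map_one]
  have hbr : ∀ (x y : Suz.Gen) (k : ℕ), coxLabel Suz.edges x y = 2 * k + 1 →
      π (PresentedGroup.mk R (FreeGroup.of x)) = π (PresentedGroup.mk R (FreeGroup.of y)) := by
    intro x y k hm
    exact map_eq_of_odd_braid π _ _ (hsq x) (hsq y) k (hcox x y _ hm)
  have hab : π (v 0) = π (v 1) := hbr .a .b 2 (by decide)
  have hbc : π (v 1) = π (v 2) := hbr .b .c 1 (by decide)
  have hde : π (v 3) = π (v 4) := hbr .d .e 1 (by decide)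
  have hbf : π (v 1) = π (v 5) := hbr .b .f 1 (by decide)
  have hgb : π (v 6) = π (v 1) := hbr .g .b 1 (by decide)
  have ha : π (v 0) = 1 := by
    have h1 : π (v 0) = (π (v 2) * π (v 3)) ^ 4 := by rw [rel_a, map_pow, map_mul]
    have h2 : (π (v 2) * π (v 3)) ^ 4 =
        (π (v 2) * π (v 2)) * (π (v 2) * π (v 2)) * ((π (v 3) * π (v 3)) * (π (v 3) * π (v 3))) := by
      simp only [pow_succ, pow_zero, one_mul]
      simp only [mul_comm, mul_left_comm, mul_assoc]
    rw [h1, h2, hq, hq, one_mul, one_mul]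
  have hb : π (v 1) = 1 := hab ▸ ha
  have hc : π (v 2) = 1 := hbc ▸ hb
  have hf : π (v 5) = 1 := hbf ▸ hb
  have hg : π (v 6) = 1 := hgb.trans hb
  have he : π (v 4) = 1 := by
    have h1 : (π tt * π (v 4)) ^ 3 = 1 := by rw [← map_mul, ← map_pow, rel_e, map_one]
    have h2 : π tt = 1 := by
      rw [tt_eq, map_pow, map_mul, map_mul, map_mul, map_mul, hb, hc, one_mul, one_mul, mul_one, hq,
        one_pow]
    exact eq_one_of_odd_braid _ _ (hq 4) 1 h1 h2
  have hd : π (v 3) = 1 := hde.trans he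
  apply commutator_eq_top_of_closure _ closure_range_v
  rintro _ ⟨s, hs, rfl⟩
  rw [← Abelianization.ker_of, MonoidHom.mem_ker]
  interval_cases s <;> assumption

theorem wprod_uu_eq (w : List ℕ) (hw : ∀ s ∈ w, s < 7) : wprod uu w = wprod v w :=
  Fn.wprod_congr _ _ _ (fun s hs => uu_gen s (hw s hs))

/-- a generator of the subgroup normalises the cyclic group of `tt` -/
theorem conj_of_rho (s : ℕ) (hs : s < 7) (w : List ℕ) (hw : w = [7] ∨ w = [7, 7])
    (h : rho (wprod uu [s, 7, s]) = rho (wprod uu w)) :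
    v s * tt * (v s)⁻¹ ∈ Subgroup.zpowers tt := by
  have h1 := SuzOrder.rho_injective h
  have h2 : wprod uu [s, 7, s] = v s * tt * (v s)⁻¹ := by
    rw [wprod_cons, wprod_cons, wprod_cons, wprod_nil, mul_one, uu_gen s hs,
      inv_eq_of_mul_eq_one_left (hvsq s), mul_assoc]
    rfl
  rw [← h2, h1]
  rcases hw with rfl | rfl
  · rw [wprod_cons, wprod_nil, mul_one]
    exact Subgroup.mem_zpowers tt
  · rw [wprod_cons, wprod_cons, wprod_nil, mul_one]
    exact Subgroup.mul_mem _ (Subgroup.mem_zpowers tt) (Subgroup.mem_zpowers tt)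

theorem gen_mem_normalizer (s : ℕ) (h : v s * tt * (v s)⁻¹ ∈ Subgroup.zpowers tt) :
    v s ∈ Subgroup.normalizer (Subgroup.zpowers tt : Set (PresentedGroup R)) := by
  have hinv : (v s)⁻¹ = v s := inv_eq_of_mul_eq_one_left (hvsq s)
  have hfw : ∀ n ∈ Subgroup.zpowers tt, v s * n * (v s)⁻¹ ∈ Subgroup.zpowers tt := by
    intro n hn
    obtain ⟨k, rfl⟩ := Subgroup.mem_zpowers_iff.mp hn
    have : v s * tt ^ k * (v s)⁻¹ = (v s * tt * (v s)⁻¹) ^ k := (conj_zpow).symm
    rw [this]
    exact Subgroup.zpow_mem _ h k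
  rw [Subgroup.mem_normalizer_iff]
  intro n
  refine ⟨hfw n, fun hn => ?_⟩
  have := hfw _ hn
  rw [hinv] at this
  have e : v s * (v s * n * v s) * v s = n := by
    rw [mul_assoc, mul_assoc, mul_assoc, hvsq, mul_one, ← mul_assoc, hvsq, one_mul]
  rwa [e] at this

theorem normalises : ∀ h ∈ Hs, h * tt * h⁻¹ ∈ Subgroup.zpowers tt := by
  have hle : Hs ≤ Subgroup.normalizer (Subgroup.zpowers tt : Set (PresentedGroup R)) := by
    rw [hH, Subgroup.closure_le]
    rintro _ ⟨w, hw, rfl⟩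
    simp only [sw, List.mem_cons, List.not_mem_nil, or_false] at hw
    rcases hw with rfl | rfl | rfl | rfl | rfl | rfl
    · rw [wprod_cons, wprod_nil, mul_one]
      exact gen_mem_normalizer 0 (conj_of_rho 0 (by decide) _ (Or.inl rfl) hn0)
    · rw [wprod_cons, wprod_nil, mul_one]
      exact gen_mem_normalizer 1 (conj_of_rho 1 (by decide) _ (Or.inl rfl) hn1)
    · rw [wprod_cons, wprod_nil, mul_one]
      exact gen_mem_normalizer 2 (conj_of_rho 2 (by decide) _ (Or.inl rfl) hn2)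
    · rw [wprod_cons, wprod_nil, mul_one]
      exact gen_mem_normalizer 3 (conj_of_rho 3 (by decide) _ (Or.inr rfl) hn3)
    · rw [wprod_cons, wprod_nil, mul_one]
      exact gen_mem_normalizer 5 (conj_of_rho 5 (by decide) _ (Or.inl rfl) hn4)
    · rw [wprod_cons, wprod_nil, mul_one]
      exact gen_mem_normalizer 6 (conj_of_rho 6 (by decide) _ (Or.inl rfl) hn5)
  intro h hh
  exact ((Subgroup.mem_normalizer_iff.mp (hle hh)) tt).mp (Subgroup.mem_zpowers tt)

theorem rho_v : ∀ x < 7, ∀ i : Fin cN, ((rho (v x) i : Fin cN) : ℕ) = TT x i := rho_gen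

/-- the lower ends of the orbits -/
def lo : Fin 5 → ℕ := ![0, 1, 487, 8992, 22600]

/-- the upper ends of the orbits -/
def hi : Fin 5 → ℕ := ![1, 487, 8992, 22600, 22880]

/-- the orbit of a point -/
def cls (i : Fin cN) : Fin 5 :=
  if i.val < 1 then 0 else if i.val < 487 then 1 else if i.val < 8992 then 2
  else if i.val < 22600 then 3 else 4

theorem cls_spec : ∀ (i : Fin cN) (k : Fin 5), cls i = k ↔ lo k ≤ i.val ∧ i.val < hi k := by
  intro i k
  have hi' : i.val < 22880 := i.isLt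
  unfold cls
  fin_cases k <;> simp only [lo, hi] <;> split_ifs <;> simp <;> omega

theorem harith : ∀ I : Finset (Fin 5), 0 ∈ I → (∀ k ∈ I, hi k - lo k ≠ 0) →
    (∑ k ∈ I, (hi k - lo k)) ∣ cN → I = {0} ∨ ∀ k, hi k - lo k ≠ 0 → k ∈ I := by
  decide

theorem isCoatom_H : IsCoatom Hs := by
  obtain ⟨Φ, hΦ⟩ := rho_equiv
  have horb1 := Fn.orbit_image Hs v rho rho_v hH Φ hN0 hΦ hsub (lo := 1) (hi := 487)
    (by decide) (by decide) horbi0 horbc0
  have horb2 := Fn.orbit_image Hs v rho rho_v hH Φ hN0 hΦ hsub (lo := 487) (hi := 8992)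
    (by decide) (by decide) horbi1 horbc1
  have horb3 := Fn.orbit_image Hs v rho rho_v hH Φ hN0 hΦ hsub (lo := 8992) (hi := 22600)
    (by decide) (by decide) horbi2 horbc2
  have horb4 := Fn.orbit_image Hs v rho rho_v hH Φ hN0 hΦ hsub (lo := 22600) (hi := 22880)
    (by decide) (by decide) horbi3 horbc3
  refine isCoatom_of_orbit_classes Hs Φ cls lo hi cls_spec ?_ rfl rfl ?_ ?_ (by decide) harith
  · intro k
    fin_cases k <;> decide
  · rw [hΦ, map_one]
    rfl
  · intro k hk0 hk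
    fin_cases k
    · exact absurd rfl hk0
    · exact horb1
    · exact horb2
    · exact horb3
    · exact horb4

theorem core_eq_bot : ∀ N : Subgroup (PresentedGroup R), N.Normal → N ≤ Hs → N = ⊥ := by
  intro N hN hle
  obtain ⟨Φ, hΦ⟩ := rho_equiv
  rw [eq_bot_iff]
  intro n hn
  rw [Subgroup.mem_bot]
  apply SuzOrder.rho_injective
  rw [map_one]
  ext i
  obtain ⟨q, rfl⟩ := Φ.surjective i
  induction q using QuotientGroup.induction_on with
  | H γ =>
    have h1 : ((n * γ : PresentedGroup R) : PresentedGroup R ⧸ Hs) = (γ : PresentedGroup R ⧸ Hs) := by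
      rw [QuotientGroup.eq]
      have : (n * γ)⁻¹ * γ = γ⁻¹ * n⁻¹ * γ⁻¹⁻¹ := by group
      rw [this]
      exact hle (hN.conj_mem _ (N.inv_mem hn) _)
    have h2 := congrArg Φ h1
    rw [hΦ, hΦ, map_mul, Equiv.Perm.mul_apply] at h2
    rw [hΦ, h2]
    rfl

theorem card_gt_one : 1 < Nat.card (PresentedGroup R) := by
  rw [SuzOrder.card_eq]; decide

/-- the presented group is simple -/
theorem isSimpleGroup : IsSimpleGroup (PresentedGroup R) := by
  have : Finite (PresentedGroup R) := SuzOrder.finite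
  have : Nontrivial (PresentedGroup R) := Finite.one_lt_card_iff_nontrivial.mp card_gt_one
  exact isSimpleGroup_of_normal_cyclic Hs isCoatom_H core_eq_bot tt normalises normalClosure_eq_top
    commutator_eq_top

end Cfsg.Agent.Lib.Helper12.Ord.SuzSimple
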