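import Cfsg.Agent.Lib.Helper12.TCG.U33x864.Rho
import Cfsg.Agent.Lib.Helper12.TCG.U33x28.Low
import Cfsg.Agent.Lib.Helper12.Ord.SimpleCrit
import Cfsg.Agent.Lib.Helper12.Ord.SubPres
import Cfsg.Agent.Lib.Helper12.Ord.RankN2

/-!
The group presented by `a^2 = b^12 = (ab)^7 = [a,b]^3 = abab^3ab^4ab^3 = 1` is simple of order `6048`: the cyclic
subgroup generated by `ab` has index `864`, there is a maximal subgroup of index `28` and the permutation
representation on its cosets has an image of order at least `6048` (helper12).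
-/

set_option autoImplicit false

namespace Cfsg.Agent.Lib.Helper12.Ord.U33Simple

open Cfsg.Agent.Lib.Helper12.TC Cfsg.Agent.Lib.Helper12.TCG Cfsg.Agent.Lib.Helper12.TCG.U33Pres
  Cfsg.Agent.Lib.Helper12.Ord Cfsg.Agent.Lib.Helper12.TCG.U33x28

theorem ab_pow : (v 0 * v 1) ^ 7 = 1 := by
  have h := hbase [0, 1, 0, 1, 0, 1, 0, 1, 0, 1, 0, 1, 0, 1] (by decide)
  simpa [wprod, pow_succ, mul_assoc] using h

theorem finite_card_le : Finite Grp ∧ Nat.card Grp ≤ 6048 := by
  have h := card_closure_word_le v [0, 1] 7 (by decide) (by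
    rw [wprod_cons, wprod_cons, wprod_nil, mul_one]
    exact ab_pow)
  exact card_le_of_index U33x864.Hs 864 7 (by decide) U33x864.rho_index h.1 h.2

instance finite : Finite Grp := finite_card_le.1

theorem card_eq : Nat.card Grp = 6048 :=
  le_antisymm finite_card_le.2 lower.1

theorem rho_injective : Function.Injective rho :=
  lower.2 finite_card_le.2

theorem card_Hs : Nat.card ↥Hs = 216 := by
  have h1 := Hs.index_mul_card
  rw [rho_index, card_eq] at h1
  have h2 : (28 : ℕ) * Nat.card ↥Hs = 28 * 216 := by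
    rw [show cN = 28 from rfl] at h1
    rw [h1]
  exact Nat.eq_of_mul_eq_mul_left (by decide) h2

/-- the lower ends of the orbits -/
def lo : Fin 2 → ℕ := ![0, 1]

/-- the upper ends of the orbits -/
def hi : Fin 2 → ℕ := ![1, 28]

/-- the orbit of a point -/
def cls (i : Fin cN) : Fin 2 := if i.val < 1 then 0 else 1

theorem cls_spec : ∀ (i : Fin cN) (k : Fin 2), cls i = k ↔ lo k ≤ i.val ∧ i.val < hi k := by
  intro i k
  have hi' : i.val < 28 := i.isLt
  unfold cls
  fin_cases k <;> simp only [lo, hi] <;> split_ifs <;> simp <;> omega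

theorem harith0 : ∀ I : Finset (Fin 2), 0 ∈ I → (∀ k ∈ I, hi k - lo k ≠ 0) →
    (∑ k ∈ I, (hi k - lo k)) ∣ cN →
    I = {0} ∨ (∀ k, hi k - lo k ≠ 0 → k ∈ I) := by
  decide

theorem isCoatom_Hs : IsCoatom Hs := by
  obtain ⟨Φ, hΦ⟩ := rho_equiv
  have horb1 := Fn.orbit_image Hs v rho rho_gen hH Φ hN0 hΦ hsub (lo := 1) (hi := 28)
    (by decide) (by decide) horbi1 horbc1
  have hΦ1 : Φ ((1 : Grp) : Grp ⧸ Hs) = ⟨0, hN0⟩ := by
    rw [hΦ, map_one]
    rfl
  refine isCoatom_of_orbit_classes_closed Hs Φ cls lo hi cls_spec ?_ rfl rfl ?_ ?_ (by decide) ?_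
  · intro k
    fin_cases k <;> decide
  · rw [hΦ1]
  · intro k hk0 hk
    fin_cases k
    · exact absurd rfl hk0
    · exact horb1
  · intro I h0 hnz hdvd _
    exact harith0 I h0 hnz hdvd

theorem core_eq_bot : ∀ K : Subgroup Grp, K.Normal → K ≤ Hs → K = ⊥ := by
  obtain ⟨Φ, hΦ⟩ := rho_equiv
  exact core_eq_bot_of_injective Hs hN0 rho Φ hΦ rho_injective

theorem card_gt_one : 1 < Nat.card Grp := by
  rw [card_eq]; decide

/-- the presented group is simple -/
theorem isSimpleGroup : IsSimpleGroup Grp := by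
  have : Nontrivial Grp := Finite.one_lt_card_iff_nontrivial.mp card_gt_one
  refine isSimpleGroup_of_coatom_coprime Hs isCoatom_Hs core_eq_bot 216 7 card_Hs (by decide)
    (v 0 * v 1) ab_pow (fun K hK hx => ?_)
  exact normal_eq_top_of_ab v v_two v_zero_sq hgen [0, 1, 0, 1, 1, 1, 0, 1, 1, 1, 1, 0, 1, 1, 1] (hbase _ (by decide)) (by decide) (by decide)
    K hK hx

end Cfsg.Agent.Lib.Helper12.Ord.U33Simple
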